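import Groth.Agent.AVIndexLib.DualBC
import Groth.Agent.CubeConsLib.Transpose

/-!
# Base change of schemes representing the sheafified `Pic⁰`
-/

set_option autoImplicit false
set_option linter.style.haveILetI false
set_option linter.unusedSectionVars false
set_option backward.isDefEq.respectTransparency false
set_option maxRecDepth 8000
set_option maxHeartbeats 1000000

universe u

open CategoryTheory CategoryTheory.Limits AlgebraicGeometry
open CubeConsLib AVIndexLib

noncomputable section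

namespace PicCurveLib

variable {S S' : Scheme.{u}} (t : S' ⟶ S) {X P : Over S} {φ : AgPol.DualMap X P}

theorem bcXTIso_hom_snd (T : Over S') :
    (AgPol.bcXTIso t X T).hom ≫ PicF.XTproj X.hom (Over.mk (T.hom ≫ t)) = PicF.XTproj (Red.bc t X).hom T :=
  pullbackLeftPullbackSndIso_hom_snd _ _ _

theorem isPicZeroCl_bcXTIso_hom (T : Over S') {c : PicF.Cl (PicF.XT X.hom (Over.mk (T.hom ≫ t)))}
    (hc : AbDual.IsPicZeroCl X.hom (Over.mk (T.hom ≫ t)) c) :
    AbDual.IsPicZeroCl (Red.bc t X).hom T (PicF.pullCl (AgPol.bcXTIso t X T).hom c) := by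
  obtain ⟨L, rfl, hL, hLa⟩ := hc
  exact ⟨_, rfl, AmpleDevLib.isInvertible_pb _ hL, fun z => isAlgTrivialAt_pullback _ _ (AgPol.bcXTIso t X T).hom (𝟙 _)
    ((bcXTIso_hom_snd t T).trans (Category.comp_id _).symm) z (hLa z)⟩

theorem isPicZeroCl_bcXTIso_inv (T : Over S') {c : PicF.Cl (PicF.XT (Red.bc t X).hom T)}
    (hc : AbDual.IsPicZeroCl (Red.bc t X).hom T c) :
    AbDual.IsPicZeroCl X.hom (Over.mk (T.hom ≫ t)) (PicF.pullCl (AgPol.bcXTIso t X T).inv c) := by
  obtain ⟨L, rfl, hL, hLa⟩ := hc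
  exact ⟨_, rfl, AmpleDevLib.isInvertible_pb _ hL, fun z => isAlgTrivialAt_pullback _ _ (AgPol.bcXTIso t X T).inv (𝟙 _)
    ((by rw [← bcXTIso_hom_snd t T, Iso.inv_hom_id_assoc] :
      (AgPol.bcXTIso t X T).inv ≫ PicF.XTproj (Red.bc t X).hom T = PicF.XTproj X.hom (Over.mk (T.hom ≫ t))).trans
        (Category.comp_id _).symm) z (hLa z)⟩

variable (hP : AbDual.IsRelPicZeroK Scheme.fppfPrecoverage X.hom P φ)
include hP

/-- The base change of a scheme representing sheafified `Pic⁰` does so. -/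
theorem isRelPicZeroK_bc :
    AbDual.IsRelPicZeroK Scheme.fppfPrecoverage (Red.bc t X).hom (Red.bc t P) (AgPol.bcDual t X P φ) := by
  refine ⟨fun T T' g c hc => toDn_injective t ?_, fun T g => ?_, fun T c c' hc hc' e => ?_⟩
  · rw [toDn_comp, toDn_bcDual, toDn_bcDual, pullCl_pullCl, inv_bcXTIso_natural t g, ← pullCl_pullCl]
    exact hP.natural _ _ (dnMap t g) _ (isPicZeroCl_bcXTIso_inv t T hc)
  · obtain ⟨R, hR, h⟩ := hP.locallySurjective (dn t T) (toDn t g)
    refine ⟨R, hR, fun U u hu => ?_⟩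
    obtain ⟨c, hc, e⟩ := h u hu
    let j : dn t (AbDual.ovr T u) ⟶ AbDual.ovr (dn t T) u :=
      Over.homMk (𝟙 U) ((Category.id_comp _).trans (Category.assoc _ _ _).symm)
    refine ⟨PicF.pullCl (AgPol.bcXTIso t X _).hom (PicF.pullCl (PicF.XTmap X.hom j) c),
      isPicZeroCl_bcXTIso_hom t _ (isPicZeroCl_XTmap j hc), toDn_injective t ?_⟩
    rw [toDn_bcDual, pullCl_pullCl, Iso.inv_hom_id, pullCl_id, hP.natural _ _ j c hc, e, toDn_comp,
      ← Category.assoc]
    congr 1
  · have e' := congrArg (toDn t) e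
    rw [toDn_bcDual, toDn_bcDual] at e'
    obtain ⟨R, hR, h⟩ := hP.locallyInjective _ _ _ (isPicZeroCl_bcXTIso_inv t T hc) (isPicZeroCl_bcXTIso_inv t T hc') e'
    refine ⟨R, hR, fun U u hu => ?_⟩
    let j : dn t (AbDual.ovr T u) ⟶ AbDual.ovr (dn t T) u :=
      Over.homMk (𝟙 U) ((Category.id_comp _).trans (Category.assoc _ _ _).symm)
    have key : PicF.XTmap (Red.bc t X).hom (AbDual.ovrHom T u) =
        ((AgPol.bcXTIso t X _).hom ≫ PicF.XTmap X.hom j) ≫ PicF.XTmap X.hom (AbDual.ovrHom (dn t T) u) ≫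
          (AgPol.bcXTIso t X T).inv := by
      rw [Category.assoc, ← Category.assoc (PicF.XTmap X.hom j)]
      rw [show PicF.XTmap X.hom j ≫ PicF.XTmap X.hom (AbDual.ovrHom (dn t T) u) =
        PicF.XTmap X.hom (dnMap t (AbDual.ovrHom T u)) from ?_]
      · rw [← inv_bcXTIso_natural, Iso.hom_inv_id_assoc]
      · apply pullback.hom_ext
        · rw [Category.assoc, XTmap_fst, XTmap_fst, XTmap_fst]
        · rw [Category.assoc, XTmap_snd, ← Category.assoc, XTmap_snd, XTmap_snd, Category.assoc]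
          simp [j, AbDual.ovrHom]
    rw [key]
    simp only [← pullCl_pullCl]
    rw [h u hu]

end PicCurveLib

end
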