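import Groth.Agent.PicCurveLib.ZeroSec
import Groth.Agent.PicCurveLib.BCZero

/-!
# Rigidified classes of degree zero and base change of the base
-/

set_option autoImplicit false
set_option linter.style.haveILetI false
set_option linter.unusedSectionVars false
set_option backward.isDefEq.respectTransparency false
set_option backward.isDefEq.respectTransparency.types false
set_option maxRecDepth 8000
set_option maxHeartbeats 1000000

universe u

open CategoryTheory CategoryTheory.Limits AlgebraicGeometry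
open CubeConsLib (pull pull_comp pull_cl cl cl_eq_iff cl_tensor IsoCls)
open AVIndexLib (dn dnMap inv_bcXTIso_natural inv_bcXTIso_snd hom_bcXTIso_snd)

noncomputable section

namespace PicCurveLib

variable {C S S' : Scheme.{u}} {f : C ⟶ S} (hf : Fam f) [IsProper f] [Flat f] [LocallyOfFinitePresentation f]
  [Smooth f] [GeometricallyConnected f] {σ : S ⟶ C} {hσ : σ ≫ f = 𝟙 S} (t : S' ⟶ S)

/-- The base changed section. -/
def bcSec (σ : S ⟶ C) (hσ : σ ≫ f = 𝟙 S) : S' ⟶ pullback f t :=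
  pullback.lift (t ≫ σ) (𝟙 S') (by rw [Category.assoc, hσ, Category.comp_id, Category.id_comp])

theorem bcSec_snd : bcSec t σ hσ ≫ pullback.snd f t = 𝟙 S' := pullback.lift_snd _ _ _

theorem bcSec_fst : bcSec t σ hσ ≫ pullback.fst f t = t ≫ σ := pullback.lift_fst _ _ _

theorem secT_bc (T : Over S') :
    PicF.secT (pullback.snd f t) (bcSec t σ hσ) (bcSec_snd t) T ≫ (AgPol.bcXTIso t (Over.mk f) T).hom =
      PicF.secT f σ hσ (dn t T) := by
  apply pullback.hom_ext
  · rw [Category.assoc]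
    refine Eq.trans ?_ (DescAppLib.secT_fst f σ hσ (dn t T)).symm
    refine (congrArg (_ ≫ ·) (pullbackLeftPullbackSndIso_hom_fst f t T.hom)).trans ?_
    refine (Category.assoc _ _ _).symm.trans ?_
    erw [DescAppLib.secT_fst (pullback.snd f t) (bcSec t σ hσ) (bcSec_snd t) T]
    rw [Category.assoc, bcSec_fst, ← Category.assoc]
    rfl
  · rw [Category.assoc]
    refine Eq.trans ?_ (DescAppLib.secT_proj f σ hσ (dn t T)).symm
    refine (congrArg (_ ≫ ·) (pullbackLeftPullbackSndIso_hom_snd f t T.hom)).trans ?_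
    exact DescAppLib.secT_proj (pullback.snd f t) (bcSec t σ hσ) (bcSec_snd t) T

theorem secT_bc_inv (T : Over S') :
    PicF.secT f σ hσ (dn t T) ≫ (AgPol.bcXTIso t (Over.mk f) T).inv =
      PicF.secT (pullback.snd f t) (bcSec t σ hσ) (bcSec_snd t) T := by
  rw [← secT_bc (σ := σ) (hσ := hσ) t T]
  simp

include hf

variable [Flat (pullback.snd f t)] [LocallyOfFinitePresentation (pullback.snd f t)]

theorem rigZero_bc_hom {T : Over S'} {c : IsoCls (PicF.XT f (dn t T))} (hc : RigZero σ hσ (dn t T) c) :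
    RigZero (bcSec t σ hσ) (bcSec_snd t) T (pull (AgPol.bcXTIso t (Over.mk f) T).hom c) := by
  obtain ⟨⟨L, hL, rfl, dL⟩, rL⟩ := hc
  have hf' := fam_snd hf t
  haveI := hf'.proper
  refine ⟨⟨_, AmpleDevLib.isInvertible_pb (AgPol.bcXTIso t (Over.mk f) T).hom hL, rfl, ?_⟩, ?_⟩
  · exact (isPicZeroCl_iff hf' T (AmpleDevLib.isInvertible_pb (AgPol.bcXTIso t (Over.mk f) T).hom hL)).1
      (isPicZeroCl_bcXTIso_hom (X := Over.mk f) t T (c := PicF.cl L) ((isPicZeroCl_iff hf (dn t T) hL).2 dL))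
  · refine (pull_comp _ _ _).trans ?_
    erw [secT_bc t T]
    exact rL

theorem rigZero_bc_inv {T : Over S'} {c : IsoCls (PicF.XT (pullback.snd f t) T)}
    (hc : RigZero (bcSec t σ hσ) (bcSec_snd t) T c) :
    RigZero σ hσ (dn t T) (pull (AgPol.bcXTIso t (Over.mk f) T).inv c) := by
  obtain ⟨⟨L, hL, rfl, dL⟩, rL⟩ := hc
  have hf' := fam_snd hf t
  haveI := hf'.proper
  refine ⟨⟨_, AmpleDevLib.isInvertible_pb (AgPol.bcXTIso t (Over.mk f) T).inv hL, rfl, ?_⟩, ?_⟩
  · exact (isPicZeroCl_iff hf (dn t T) (AmpleDevLib.isInvertible_pb (AgPol.bcXTIso t (Over.mk f) T).inv hL)).1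
      (isPicZeroCl_bcXTIso_inv (X := Over.mk f) t T (c := PicF.cl L) ((isPicZeroCl_iff hf' T hL).2 dL))
  · refine (pull_comp _ _ _).trans ?_
    erw [secT_bc_inv t T]
    exact rL

/-- A universal class over `S'` represents the sheaf of classes over objects above `S'`. -/
theorem isRepOver_bc {J' : Over S'} (ξ : PicF.Rig (pullback.snd f t) (bcSec t σ hσ) (bcSec_snd t) J')
    (hξ : FGA.HasFibreDegreeZeroCl (pullback.snd f t) J' ξ.1)
    (huniv : ∀ (T : Over S') (c : PicF.Rig (pullback.snd f t) (bcSec t σ hσ) (bcSec_snd t) T),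
      FGA.HasFibreDegreeZeroCl (pullback.snd f t) T c.1 →
        ∃! g : T ⟶ J', PicF.pullCl (PicF.XTmap (pullback.snd f t) g) ξ.1 = c.1) :
    ∃ u : (zeroSec hf σ hσ).obj (dn t J'),
      RepDescLib.IsRepOver (zeroSec hf σ hσ) (Over.homMk J'.hom rfl : dn t J' ⟶ Over.mk t) u := by
  have hf' := fam_snd hf t
  haveI := hf'.proper
  let f' := pullback.snd f t
  let θ := fun T : Over S' => AgPol.bcXTIso t (Over.mk f) T
  obtain ⟨N, hNc, hN⟩ := ξ.2.1
  rw [← hNc] at hξ
  have hNr : pull (PicF.secT f' (bcSec t σ hσ) (bcSec_snd t) J') (cl N) = 1 := by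
    have h := ξ.2.2
    rw [← hNc] at h
    exact EllLawLib.toCl_eq.1 h
  have hNd : ∀ z, deg f' J' N z = 0 := (isPicZeroCl_iff hf' J' hN).1 ((hasFibreDegreeZeroCl_iff hf' J' hN).1 hξ)
  have hu : RigZero σ hσ (dn t J') (pull (θ J').inv (cl N)) := rigZero_bc_inv hf t ⟨⟨N, hN, rfl, hNd⟩, hNr⟩
  have L1 : ∀ (T : Over S') (c : IsoCls (PicF.XT f (dn t T))), RigZero σ hσ (dn t T) c →
      ∃! g : T ⟶ J', pull (PicF.XTmap f (dnMap t g)) (pull (θ J').inv (cl N)) = c := by
    intro T c hc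
    obtain ⟨⟨L, hL, eL, dL⟩, rL⟩ := rigZero_bc_hom hf t hc
    rw [← eL] at rL
    obtain ⟨g, hg, hgu⟩ := huniv T ⟨PicF.cl L, ⟨L, rfl, hL⟩, EllLawLib.toCl_eq.2 rL⟩
      ⟨L, rfl, (hasFibreDegreeZero_iff T L).2 fun z => dL z⟩
    have key : ∀ g : T ⟶ J', PicF.pullCl (PicF.XTmap f' g) ξ.1 = PicF.cl L ↔
        pull (PicF.XTmap f (dnMap t g)) (pull (θ J').inv (cl N)) = c := fun g => by
      rw [← hNc]
      refine (EllLawLib.toCl_eq (A := (Scheme.Modules.pullback (PicF.XTmap f' g)).obj N) (B := L)).trans ?_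
      rw [show pull (PicF.XTmap f (dnMap t g)) (pull (θ J').inv (cl N)) =
        pull (θ T).inv (pull (PicF.XTmap f' g) (cl N)) by
          exact (pull_comp _ _ _).trans ((congrArg (fun m => pull m (cl N))
            (inv_bcXTIso_natural (A := Over.mk f) t g).symm).trans (pull_comp _ _ _).symm),
        pull_cl, eL]
      constructor
      · intro h
        rw [h, pull_comp, Iso.inv_hom_id]
        exact DescAppLib.pull_id c
      · intro h
        rw [← h, pull_comp, Iso.hom_inv_id]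
        exact (DescAppLib.pull_id _).symm
    exact ⟨g, (key g).1 hg, fun g' hg' => hgu g' ((key g').2 hg')⟩
  refine ⟨equivShrink _ ⟨_, hu⟩, fun T x s => ?_⟩
  have eu : clsOf hf (equivShrink _ ⟨_, hu⟩) = pull (θ J').inv (cl N) :=
    congrArg Subtype.val (Equiv.symm_apply_apply _ _)
  let T' : Over S' := Over.mk x.left
  let e : dn t T' ⟶ T := Over.homMk (𝟙 _) ((Category.id_comp _).trans (Over.w x).symm)
  let e' : T ⟶ dn t T' := Over.homMk (𝟙 _) ((Category.id_comp _).trans (Over.w x))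
  have hee : e' ≫ e = 𝟙 T := Over.OverMorphism.ext (Category.id_comp _)
  have hee' : e ≫ e' = 𝟙 (dn t T') := Over.OverMorphism.ext (Category.id_comp _)
  obtain ⟨g, hg, hgu⟩ := L1 T' (pull (PicF.XTmap f e) (clsOf hf s)) (rigZero_pull hf σ hσ e (rigZero_clsOf hf s))
  refine ⟨e' ≫ dnMap t g, ⟨Over.OverMorphism.ext ?_, clsOf_injective hf ?_⟩, fun b hb => ?_⟩
  · show (𝟙 T.left ≫ g.left) ≫ J'.hom = x.left
    rw [Category.id_comp]
    exact Over.w g
  · rw [clsOf_res, eu, ← DescAppLib.XTmap_comp, ← pull_comp, hg, pull_comp, DescAppLib.XTmap_comp, hee,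
      show PicF.XTmap f (𝟙 T) = 𝟙 _ by apply pullback.hom_ext <;> simp [PicF.XTmap], DescAppLib.pull_id]
  · obtain ⟨hb1, hb2⟩ := hb
    let g' : T' ⟶ J' := Over.homMk b.left (congrArg CommaMorphism.left hb1)
    have hbe : dnMap t g' = e ≫ b := Over.OverMorphism.ext (Category.id_comp _).symm
    have h2 : g' = g := hgu g' (by
      dsimp only
      rw [hbe, ← DescAppLib.XTmap_comp, ← pull_comp, ← eu, ← clsOf_res, hb2])
    rw [← h2, hbe, ← Category.assoc, hee, Category.id_comp]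

end PicCurveLib

end
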