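import Groth.Agent.GenusZeroLib.Point
import Groth.Agent.HurwitzLib.Fiber
import Mathlib.FieldTheory.IntermediateField.Adjoin.Basic
import Mathlib.FieldTheory.IsAlgClosed.AlgebraicClosure

/-!
# Finite extensions over which a curve has many rational points
-/

set_option autoImplicit false
set_option linter.style.haveILetI false
set_option maxHeartbeats 1000000

universe u

open CategoryTheory CategoryTheory.Limits AlgebraicGeometry TopologicalSpace

noncomputable section

namespace PicCurveLib

/-- A curve has points at `n` distinct closed points in one finite extension of the base field. -/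
theorem exists_points_extension {k : Type u} [Field k] {X : Scheme.{u}} [X.Over (Spec (CommRingCat.of k))]
    [IsProper (X ↘ Spec (CommRingCat.of k))] [IsIntegral X] (hdim : topologicalKrullDim X = 1) (n : ℕ) :
    ∃ (k' : Type u) (_ : Field k') (_ : Algebra k k') (_ : Module.Finite k k')
      (w : Fin n → (Spec (CommRingCat.of k') ⟶ X)),
      (∀ i, w i ≫ (X ↘ Spec (CommRingCat.of k)) = Spec.map (CommRingCat.ofHom (algebraMap k k'))) ∧
      Function.Injective fun i => w i (IsLocalRing.closedPoint k') := by
  haveI : JacobsonSpace X := LocallyOfFiniteType.jacobsonSpace (X ↘ Spec (CommRingCat.of k))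
  have hinf : {x : X | IsClosed ({x} : Set X)}.Infinite := by
    intro hfin
    have hcl : IsClosed (closedPoints X) := by
      rw [← Set.biUnion_of_singleton (closedPoints X)]
      exact hfin.isClosed_biUnion fun x hx => hx
    have h := closure_closedPoints (X := X)
    rw [hcl.closure_eq] at h
    have hη : genericPoint X ∈ closedPoints X := h ▸ Set.mem_univ _
    exact GenusZeroLib.ne_genericPoint_of_isClosed hdim hη rfl
  let e := hinf.natEmbedding _
  let x : Fin n → X := fun i => (e i).1
  have hxc : ∀ i, IsClosed ({x i} : Set X) := fun i => (e i).2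
  letI alg : ∀ i, Algebra k (X.residueField (x i)) := fun i => Curv2.resAlgebra k X (x i)
  haveI hfin : ∀ i, Module.Finite k (X.residueField (x i)) := fun i => HurwitzLib.finite_residueField (hxc i)
  let Ω := AlgebraicClosure k
  let φ : ∀ i, X.residueField (x i) →ₐ[k] Ω := fun i =>
    haveI : Algebra.IsAlgebraic k (X.residueField (x i)) := Algebra.IsAlgebraic.of_finite k _
    IsAlgClosed.lift
  let t : Fin n → IntermediateField k Ω := fun i => (φ i).fieldRange
  haveI : ∀ i, FiniteDimensional k (t i) := fun i =>
    Module.Finite.equiv (AlgEquiv.ofInjectiveField (φ i)).toLinearEquiv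
  let k' : IntermediateField k Ω := ⨆ i, t i
  let ψ : ∀ i, X.residueField (x i) →ₐ[k] k' := fun i =>
    (IntermediateField.inclusion (le_iSup t i)).comp (AlgEquiv.ofInjectiveField (φ i)).toAlgHom
  refine ⟨k', inferInstance, inferInstance, inferInstance,
    fun i => Spec.map (CommRingCat.ofHom (ψ i).toRingHom) ≫ X.fromSpecResidueField (x i), fun i => ?_, fun i j h => ?_⟩
  · let p := X ↘ Spec (CommRingCat.of k)
    have hr : Spec.map (CommRingCat.ofHom (Curv2.resMap k X (x i))) = X.fromSpecResidueField (x i) ≫ p := by
      have hc : CommRingCat.ofHom (Curv2.resMap k X (x i)) =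
          (Scheme.ΓSpecIso (CommRingCat.of k)).inv ≫ p.appTop ≫ X.presheaf.germ ⊤ (x i) trivial ≫ X.residue (x i) := rfl
      rw [hc, Spec.map_comp, Spec.map_comp, Spec.map_comp]
      show _ = (Spec.map (X.residue (x i)) ≫ X.fromSpecStalk (x i)) ≫ p
      simp only [Category.assoc]
      congr 1
      rw [← Scheme.fromSpecStalk_toSpecΓ_assoc, ← Scheme.toSpecΓ_naturality_assoc]
      simp [toSpecΓ_SpecMap_ΓSpecIso_inv]
    rw [Category.assoc, ← hr, ← Spec.map_comp]
    congr 1
    ext a
    exact congrArg Subtype.val ((ψ i).commutes a)
  · have hi : ∀ i, (Spec.map (CommRingCat.ofHom (ψ i).toRingHom) ≫ X.fromSpecResidueField (x i))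
        (IsLocalRing.closedPoint k') = x i := fun i => by
      rw [Scheme.Hom.comp_apply]
      exact Scheme.fromSpecResidueField_apply (x i) _
    have hij : x i = x j := (hi i).symm.trans (h.trans (hi j))
    exact Fin.ext (e.injective (Subtype.ext hij))

end PicCurveLib
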