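import Groth.Agent.PicCurveLib.FieldPts
import Groth.Agent.PicCurveLib.JacBC
import Groth.Agent.PicCurveLib.PointExt
import Groth.Agent.DescLib.FinLocFree
import Groth.Agent.MiscFlat6.FpqcDesc
import Groth.Agent.AmpleThLib.FiniteSet
import Groth.Agent.S8121

/-!
# The Jacobian of a curve with a rational point over an arbitrary field
-/

set_option autoImplicit false
set_option linter.style.haveILetI false
set_option linter.unusedSectionVars false
set_option backward.isDefEq.respectTransparency false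
set_option backward.isDefEq.respectTransparency.types false
set_option maxRecDepth 8000
set_option maxHeartbeats 1000000
set_option synthInstance.maxHeartbeats 100000

universe u

open CategoryTheory CategoryTheory.Limits AlgebraicGeometry
open CubeConsLib (pull pull_comp pull_cl cl cl_eq_iff cl_tensor IsoCls)
open AVIndexLib (dn)

noncomputable section

namespace PicCurveLib

variable {k : Type u} [Field k] {X : Scheme.{u}} {f : X ⟶ Spec (CommRingCat.of k)}

/-- Over a finite extension with enough points: the Jacobian, with affine neighbourhoods of finite sets. -/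
theorem exists_jacobian_of_points [X.Over (Spec (CommRingCat.of k))] (hfk : X ↘ Spec (CommRingCat.of k) = f)
    (hf : Fam f) (σ : Spec (CommRingCat.of k) ⟶ X) (hσ : σ ≫ f = 𝟙 (Spec (CommRingCat.of k))) {ι : Type} [Fintype ι]
    (w : ι → (Spec (CommRingCat.of k) ⟶ X)) (hw : ∀ i, w i ≫ f = 𝟙 _)
    (hinj : Function.Injective fun i => w i (IsLocalRing.closedPoint k))
    (hn : 2 * Curv2.genus k X < Fintype.card ι) :
    ∃ (J : Over (Spec (CommRingCat.of k))) (ξ : PicF.Rig f σ hσ J),
      IsProper J.hom ∧ Smooth J.hom ∧ GeometricallyConnected J.hom ∧ FGA.HasFibreDegreeZeroCl f J ξ.1 ∧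
      (∀ (T : Over (Spec (CommRingCat.of k))) (c : PicF.Rig f σ hσ T), FGA.HasFibreDegreeZeroCl f T c.1 →
        ∃! g : T ⟶ J, PicF.pullCl (PicF.XTmap f g) ξ.1 = c.1) ∧
      ∀ s : Finset J.left, ∃ U : J.left.Opens, IsAffineOpen U ∧ ∀ v ∈ s, v ∈ U := by
  haveI := hf.proper; haveI := hf.smooth; haveI := hf.conn
  obtain ⟨P, ξP, hlfp, huniv⟩ := exists_universal_of_points hfk hf σ hσ w hw hinj hn
  haveI := hlfp
  obtain ⟨φ, hP⟩ := exists_isRelPicK huniv
  obtain ⟨J, φ₀, j, hP₀, hj⟩ := exists_picZero hf hP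
  obtain ⟨-, -, hp, hs, hc⟩ := jacobian_props hf hP hP₀ j hj
  obtain ⟨ξ, hξ, -, hu⟩ := exists_universal_zero hf hP₀ (σ := σ) (hσ := hσ)
  haveI := hp; haveI := hs; haveI := hc
  haveI : GeometricallyIntegral J.hom := FibVALib.geometricallyIntegral_of_geometricallyConnected J.hom
  obtain ⟨grp⟩ := exists_grpObj hf σ hσ ξ hξ hu
  letI := grp
  obtain ⟨L, hL, -⟩ := Groth.Agent.S8121.result k J
  exact ⟨J, ξ, hp, hs, hc, hξ, hu, fun s => AmpleThLib.exists_affineOpen_finset hL s⟩

/-- **The Jacobian of a curve with a rational point over any field.** -/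
theorem exists_jacobian [X.Over (Spec (CommRingCat.of k))] (hfk : X ↘ Spec (CommRingCat.of k) = f) (hf : Fam f)
    (σ : Spec (CommRingCat.of k) ⟶ X) (hσ : σ ≫ f = 𝟙 (Spec (CommRingCat.of k))) :
    ∃ (J : Over (Spec (CommRingCat.of k))) (ξ : PicF.Rig f σ hσ J),
      IsProper J.hom ∧ Smooth J.hom ∧ GeometricallyConnected J.hom ∧ FGA.HasFibreDegreeZeroCl f J ξ.1 ∧
      ∀ (T : Over (Spec (CommRingCat.of k))) (c : PicF.Rig f σ hσ T), FGA.HasFibreDegreeZeroCl f T c.1 →
        ∃! g : T ⟶ J, PicF.pullCl (PicF.XTmap f g) ξ.1 = c.1 := by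
  haveI := hf.proper; haveI := hf.smooth; haveI := hf.conn
  haveI : Flat f := inferInstance
  have hdim := dim_total_field hf
  haveI := FibVALib.geometricallyIntegral_of_geometricallyConnected f
  haveI : IsIntegral X := GeometricallyIntegral.isIntegral_of_subsingleton f
  haveI : IsProper (X ↘ Spec (CommRingCat.of k)) := hfk.symm ▸ hf.proper
  obtain ⟨k', _, _, _, w, hw, hinj⟩ := exists_points_extension (k := k) (X := X) hdim (2 * Curv2.genus k X + 1)
  rw [hfk] at hw
  let t : Spec (CommRingCat.of k') ⟶ Spec (CommRingCat.of k) := Spec.map (CommRingCat.ofHom (algebraMap k k'))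
  haveI : IsFinite t := by
    rw [IsFinite.SpecMap_iff]
    exact RingHom.finite_algebraMap.2 inferInstance
  haveI : Flat t := by
    rw [HasRingHomProperty.Spec_iff (P := @Flat)]
    show RingHom.Flat (algebraMap k k')
    rw [RingHom.flat_algebraMap_iff]
    infer_instance
  haveI : LocallyOfFinitePresentation t := inferInstance
  haveI : Surjective t := ⟨fun x => ⟨IsLocalRing.closedPoint k', Subsingleton.elim (α := PrimeSpectrum k) _ _⟩⟩
  let X' := pullback f t
  letI : X'.Over (Spec (CommRingCat.of k')) := ⟨pullback.snd f t⟩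
  have hf' : Fam (pullback.snd f t) := fam_snd hf t
  haveI := hf'.proper; haveI := hf'.smooth; haveI := hf'.conn
  have hgen : Curv2.genus k' X' = Curv2.genus k X := by
    have hsq : IsPullback (pullback.fst f t) (X' ↘ Spec (CommRingCat.of k')) (X ↘ Spec (CommRingCat.of k))
        (Spec.map (CommRingCat.ofHom (algebraMap k k'))) := by rw [hfk]; exact IsPullback.of_hasPullback f t
    have h := CurveBCLib.finrank_HH_sq (k := k) (K := k') hsq (F := Coh.structureModule X) QCohLib.isQCoh_unit 1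
    rw [(CurvLib.hIso (k := k') (KFlatLib.pullUnitIso (pullback.fst f t)) 1).finrank_eq] at h
    exact h
  let w' : Fin (2 * Curv2.genus k X + 1) → (Spec (CommRingCat.of k') ⟶ X') := fun i =>
    pullback.lift (w i) (𝟙 _) (by rw [hw i, Category.id_comp])
  have hw' : ∀ i, w' i ≫ pullback.snd f t = 𝟙 _ := fun i => pullback.lift_snd _ _ _
  have hinj' : Function.Injective fun i => w' i (IsLocalRing.closedPoint k') := fun i j h => hinj (by
    have h2 := congrArg (pullback.fst f t) h
    rw [← Scheme.Hom.comp_apply, ← Scheme.Hom.comp_apply, pullback.lift_fst, pullback.lift_fst] at h2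
    exact h2)
  obtain ⟨J', ξ', hp', hs', hc', hξ', hu', haf⟩ := exists_jacobian_of_points (rfl : X' ↘ Spec (CommRingCat.of k') = pullback.snd f t)
    hf' (bcSec t σ hσ) (bcSec_snd t) w' hw' hinj' (by rw [hgen, Fintype.card_fin]; omega)
  obtain ⟨u, hrep⟩ := isRepOver_bc hf t (σ := σ) (hσ := hσ) ξ' hξ' hu'
  haveI : DescLib.Fpqc (Over.mk t).hom := inferInstanceAs (DescLib.Fpqc t)
  obtain ⟨A₀, u₀, q, hA, -, hpb⟩ := RepDescLib.exists_rep_of_cover (isSheaf_zeroSec hf) hrep fun D hD => by
    refine DescLib.effective_of_finLocFree (p := t) D fun y s _ => ?_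
    have key : ∀ (O : Over (Spec (CommRingCat.of k'))), O = Over.mk J'.hom → ∀ s : Finset O.left,
        ∃ U : O.left.Opens, IsAffineOpen U ∧ ∀ v ∈ s, v ∈ U := by
      rintro O rfl s; exact haf s
    exact key D.obj hD s
  haveI := hp'; haveI := hs'; haveI := hc'
  have hpb' : IsPullback q.left J'.hom A₀.hom t := hpb
  haveI : IsProper A₀.hom := by
    haveI := MiscFlat6.desc_isProper.{u}
    exact MorphismProperty.of_isPullback_of_descendsAlong (P := @IsProper)
      (Q := @Surjective ⊓ @Flat ⊓ @QuasiCompact) hpb'.flip ⟨⟨‹Surjective t›, ‹Flat t›⟩, inferInstance⟩ hp'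
  haveI : Smooth A₀.hom := MorphismProperty.of_isPullback_of_descendsAlong (P := @Smooth)
      (Q := @Surjective ⊓ @Flat ⊓ @QuasiCompact) hpb'.flip ⟨⟨‹Surjective t›, ‹Flat t›⟩, inferInstance⟩ hs'
  have hconn : GeometricallyConnected A₀.hom := by
    refine Groth.Agent.WeilRes.geometricallyConnected_of_geomPt A₀.hom fun s => ?_
    let Ω : Type u := AlgebraicClosure ((Spec (CommRingCat.of k)).residueField s)
    let g : Spec (CommRingCat.of Ω) ⟶ Spec (CommRingCat.of k) := Red.geomPt s
    let ψ : CommRingCat.of k ⟶ CommRingCat.of Ω := Spec.preimage g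
    letI : Algebra k Ω := ψ.hom.toAlgebra
    haveI : Algebra.IsAlgebraic k k' := Algebra.IsAlgebraic.of_finite k k'
    let emb : k' →ₐ[k] Ω := IsAlgClosed.lift
    let b : Spec (CommRingCat.of Ω) ⟶ Spec (CommRingCat.of k') := Spec.map (CommRingCat.ofHom emb.toRingHom)
    have hb : b ≫ t = g := by
      rw [← Spec.map_preimage g, ← Spec.map_comp]
      congr 1
      ext a
      exact emb.commutes a
    haveI : ConnectedSpace ↥(pullback J'.hom b) :=
      hc'.geometrically_connectedSpace _ _ _ (IsPullback.of_hasPullback J'.hom b)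
    have H := (IsPullback.of_hasPullback J'.hom b).paste_horiz hpb'
    rw [hb] at H
    exact H.isoPullback.hom.homeomorph.connectedSpace_iff.1 inferInstance
  have hu₀ := rigZero_clsOf hf u₀
  obtain ⟨⟨L, hL, eL, dL⟩, rL⟩ := hu₀
  rw [← eL] at rL
  refine ⟨A₀, ⟨PicF.cl L, ⟨L, rfl, hL⟩, EllLawLib.toCl_eq.2 rL⟩, ‹IsProper A₀.hom›, ‹Smooth A₀.hom›, hconn,
    ⟨L, rfl, (hasFibreDegreeZero_iff A₀ L).2 fun z => dL z⟩, ?_⟩
  rintro T ⟨_, ⟨M, rfl, hM⟩, hMr⟩ hc
  have hM0 : ∀ z, deg f T M z = 0 := (isPicZeroCl_iff hf T hM).1 ((hasFibreDegreeZeroCl_iff hf T hM).1 hc)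
  have hs0 : RigZero σ hσ T (cl M) := ⟨⟨M, hM, rfl, hM0⟩, EllLawLib.toCl_eq.1 hMr⟩
  obtain ⟨g, hg, hgu⟩ := hA T (equivShrink _ ⟨cl M, hs0⟩)
  have key : ∀ g : T ⟶ A₀, PicF.pullCl (PicF.XTmap f g) (PicF.cl L) = PicF.cl M ↔
      (zeroSec hf σ hσ).res g u₀ = equivShrink _ ⟨cl M, hs0⟩ := fun g => by
    refine (EllLawLib.toCl_eq (A := (Scheme.Modules.pullback (PicF.XTmap f g)).obj L) (B := M)).trans ?_
    have e1 : clsOf hf ((zeroSec hf σ hσ).res g u₀) = cl ((Scheme.Modules.pullback (PicF.XTmap f g)).obj L) := by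
      rw [clsOf_res, ← eL]; rfl
    have e2 : clsOf hf (equivShrink _ ⟨cl M, hs0⟩) = cl M := congrArg Subtype.val (Equiv.symm_apply_apply _ _)
    exact ⟨fun h => clsOf_injective hf (e1.trans (h.trans e2.symm)), fun h => e1.symm.trans ((congrArg (clsOf hf) h).trans e2)⟩
  exact ⟨g, (key g).2 hg, fun g' hg' => hgu g' ((key g').1 hg')⟩

end PicCurveLib

end
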