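import Groth.Agent.HilbPtsLib.Smooth
import Groth.Agent.FibDimLib.Smooth
import Groth.Agent.FibDimLib.TopLocalDim
import Groth.Agent.SmoothDimLib.Chart
import Groth.Agent.AbSchLib.DimFinite

/-!
# Dimensions of the Hilbert schemes of points of a smooth curve
-/

set_option autoImplicit false
set_option linter.style.haveILetI false
set_option linter.unusedSectionVars false
set_option backward.isDefEq.respectTransparency false
set_option backward.isDefEq.respectTransparency.types false

universe u

open CategoryTheory CategoryTheory.Limits AlgebraicGeometry TopologicalSpace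

noncomputable section

namespace PicCurveLib

/-- The local dimension is `n` at every point. -/
def PureDim (n : ℕ) (Y : Scheme.{u}) : Prop := ∀ y : Y, FlatMor.localDim Y y = n

variable {n : ℕ} {Y Z : Scheme.{u}}

theorem PureDim.dim_eq (h : PureDim n Y) [Nonempty Y] : topologicalKrullDim Y = n := by
  rw [FibDimLib.topologicalKrullDim_eq_iSup_localDim]
  exact le_antisymm (iSup_le fun y => (h y).le)
    (le_iSup_of_le (Classical.arbitrary Y) (h (Classical.arbitrary Y)).ge)

theorem PureDim.of_isOpenImmersion (h : PureDim n Y) (j : Z ⟶ Y) [IsOpenImmersion j] : PureDim n Z := fun z =>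
  (FibDimLib.localDim_eq_of_isOpenEmbedding j.isOpenEmbedding z).symm.trans (h (j z))

/-- Being of pure dimension is local. -/
theorem PureDim.of_cover (h : ∀ y : Y, ∃ (U : Scheme.{u}) (j : U ⟶ Y), IsOpenImmersion j ∧ y ∈ Set.range j ∧ PureDim n U) :
    PureDim n Y := fun y => by
  obtain ⟨U, j, hj, ⟨u, rfl⟩, hU⟩ := h y
  haveI := hj
  exact (FibDimLib.localDim_eq_of_isOpenEmbedding j.isOpenEmbedding u).trans (hU u)

/-- A finite surjective image of a pure-dimensional scheme is pure-dimensional. -/
theorem PureDim.of_finite_surjective (h : PureDim n Z) (k : Z ⟶ Y) [IsFinite k] [Surjective k] : PureDim n Y := by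
  have key : ∀ U : Y.Opens, (U : Set Y).Nonempty → topologicalKrullDim (U : Set Y) = n := by
    intro U hU
    haveI : IsFinite (k ∣_ U) :=
      MorphismProperty.of_isPullback (P := @IsFinite) (isPullback_morphismRestrict k U).flip ‹_›
    haveI : Surjective (k ∣_ U) :=
      MorphismProperty.of_isPullback (P := @Surjective) (isPullback_morphismRestrict k U).flip ‹_›
    haveI : Nonempty U.toScheme := ⟨⟨hU.choose, hU.choose_spec⟩⟩
    haveI : Nonempty (k ⁻¹ᵁ U).toScheme := by
      obtain ⟨z, -⟩ := (k ∣_ U).surjective (Classical.arbitrary U.toScheme)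
      exact ⟨z⟩
    exact (AbSchLib.topologicalKrullDim_eq_of_finite_surjective (k ∣_ U)).symm.trans
      (h.of_isOpenImmersion (k ⁻¹ᵁ U).ι).dim_eq
  intro y
  haveI : Nonempty {U : Opens Y // y ∈ U} := ⟨⟨⊤, trivial⟩⟩
  show (⨅ U : {U : Opens Y // y ∈ U}, topologicalKrullDim (U.1 : Set Y)) = n
  exact (iInf_congr fun U : {U : Opens Y // y ∈ U} => key U.1 ⟨y, U.2⟩).trans iInf_const

variable {k : Type u} [Field k] {X : Scheme.{u}} (f : X ⟶ Spec (CommRingCat.of k)) [IsSeparated f]
  [SmoothOfRelativeDimension 1 f]

/-- The Hilbert scheme of `d` points of a smooth curve is of pure dimension `d`. -/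
theorem pureDim_hilb (hrep : ∀ e : ℕ, HilbD.Representable f e) :
    ∀ (d : ℕ) (H : Over (Spec (CommRingCat.of k))) (Z : HilbD.Obj f d H),
      HilbD.IsUniversal f d H Z → PureDim d H.left := by
  intro d
  induction d with
  | zero =>
    intro H Z hZ y
    haveI := HilbPts.SC.isIso_hom_zero f H Z hZ
    refine (FibDimLib.localDim_eq_of_isOpenEmbedding (e := H.hom.base) H.hom.isOpenEmbedding y).symm.trans ?_
    refine le_antisymm ((FibDimLib.localDim_le _).trans ?_) (FibDimLib.localDim_nonneg _)
    show topologicalKrullDim (PrimeSpectrum k) ≤ _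
    rw [PrimeSpectrum.topologicalKrullDim_eq_ringKrullDim, ringKrullDim_eq_zero_of_field]
    exact le_rfl
  | succ d ih =>
    intro H Z hZ
    obtain ⟨H', Z', hZ'⟩ := hrep d
    haveI : Smooth H'.hom := HilbPts.SC.smooth_hom f hrep d H' Z' hZ'
    haveI : Smooth f := SmoothOfRelativeDimension.smooth 1 f
    haveI : SmoothOfRelativeDimension 1 (pullback.snd f H'.hom) :=
      haveI := smoothOfRelativeDimension_isStableUnderBaseChange.{u} 1
      MorphismProperty.pullback_snd (P := @SmoothOfRelativeDimension 1) _ _ ‹_›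
    haveI : Smooth (pullback.snd f H'.hom) := SmoothOfRelativeDimension.smooth 1 _
    have hQ : PureDim (d + 1) (pullback f H'.hom) := fun x => by
      rw [← SmoothDimLib.fibreDimAt_eq_localDim (pullback.snd f H'.hom ≫ H'.hom) x,
        FibDimLib.fibreDimAt_comp_of_flat, FibDimLib.fibreDimAt_smoothOfRelativeDimension 1,
        SmoothDimLib.fibreDimAt_eq_localDim H'.hom, ih H' Z' hZ' _]
      rw [add_comm]
      norm_cast
    obtain ⟨s, -, -, ⟨hfin, hfl, hfp⟩, hdeg⟩ := HilbPts.SC.exists_sum f d H H' Z hZ Z' hZ'
    haveI := hfin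
    haveI := hfl
    haveI := hfp
    haveI : Surjective s := (Scheme.Hom.one_le_finrank_iff_surjective s).1 fun y => by
      show 1 ≤ s.finrank y
      rw [hdeg]
      omega
    exact hQ.of_finite_surjective s

end PicCurveLib

end
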