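import Groth.Agent.PicCurveLib.Div
import Groth.Agent.GenusZeroLib.Degrees
import Groth.Agent.CurvLib.Divisor
import Groth.Agent.RRVanLib.GG
import Groth.Agent.HilbPtsLib.DivDeg
import Groth.Agent.PushLinLib.HH
import Groth.Agent.H0Lib.Main
import Groth.Agent.EllLawLib.Field
import Groth.Prelude.Def_FGA

/-!
# Euler characteristics of invertible modules on the fibres of a family of curves
-/

set_option autoImplicit false
set_option linter.style.haveILetI false
set_option linter.unusedSectionVars false
set_option backward.isDefEq.respectTransparency false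
set_option backward.isDefEq.respectTransparency.types false
set_option maxRecDepth 8000
set_option maxHeartbeats 1000000

universe u

open CategoryTheory CategoryTheory.Limits AlgebraicGeometry TopologicalSpace
open CubeConsLib (pull pull_comp pull_cl cl cl_eq_iff cl_tensor IsoCls)
open EllLawLib (idCls)

noncomputable section

namespace PicCurveLib

variable {K : Type u} [Field K] {Y : Scheme.{u}} [Y.Over (Spec (CommRingCat.of K))]

variable (K) in
/-- The Euler characteristic in degrees `≤ 1`. -/
abbrev chi (M : Y.Modules) : ℤ := FGA.eulerCharLE K Y M 1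

theorem chi_eq (M : Y.Modules) :
    chi K M = (Module.finrank K (Coh.HH Y M 0) : ℤ) - Module.finrank K (Coh.HH Y M 1) := by
  simp [chi, FGA.eulerCharLE, Finset.sum_range_succ]
  ring

theorem chi_congr {M N : Y.Modules} (e : M ≅ N) : chi K M = chi K N := by
  rw [chi_eq, chi_eq, (CurvLib.hIso (k := K) e 0).finrank_eq, (CurvLib.hIso (k := K) e 1).finrank_eq]

theorem chi_of_cl {M N : Y.Modules} (e : cl M = cl N) : chi K M = chi K N := chi_congr (cl_eq_iff.1 e).some

variable (hf : Fam (Y ↘ Spec (CommRingCat.of K)))
include hf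

theorem isIntegral_total : IsIntegral Y := by
  haveI := hf.proper; haveI := hf.smooth; haveI := hf.conn
  haveI := FibVALib.geometricallyIntegral_of_geometricallyConnected (Y ↘ Spec (CommRingCat.of K))
  exact GeometricallyIntegral.isIntegral_of_subsingleton (Y ↘ Spec (CommRingCat.of K))

theorem dim_total : topologicalKrullDim Y = 1 :=
  (EllLawLib.dim_fiber_spec (Y ↘ Spec (CommRingCat.of K)) (IsLocalRing.closedPoint K)).symm.trans (hf.dim _)

theorem chi_eq_euler (M : Y.Modules) : chi K M = Curv2.euler K Y M := by
  haveI := hf.proper; haveI := hf.smooth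
  haveI := isIntegral_total hf
  rw [chi_eq, CurvLib.euler_curve (k := K) (dim_total hf)]

theorem h0_structure : Module.finrank K (Coh.HH Y (Coh.structureModule Y) 0) = 1 := by
  haveI := hf.proper; haveI := hf.smooth; haveI := hf.conn
  haveI := FibVALib.geometricallyIntegral_of_geometricallyConnected (Y ↘ Spec (CommRingCat.of K))
  haveI := isIntegral_total hf
  letI : Algebra K Γ(Y, ⊤) := RingHom.toAlgebra (Coh.toGlobal (Y ↘ Spec (CommRingCat.of K)))
  let e : Coh.HH Y (Coh.structureModule Y) 0 ≃ₗ[K] Γ(Y, ⊤) :=
    { (DegPullLib.e0 (Coh.structureModule Y)) with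
      map_smul' := fun r x => (DegPullLib.e0_smul (Coh.structureModule Y) _ x).trans rfl }
  have hb : Function.Bijective (algebraMap K Γ(Y, ⊤)) :=
    (H0Lib.bijective_app_of_geometrically (Y ↘ Spec (CommRingCat.of K)) ⊤).comp
      (ConcreteCategory.bijective_of_isIso (Scheme.ΓSpecIso (CommRingCat.of K)).inv)
  rw [e.finrank_eq, ← (LinearEquiv.ofBijective (Algebra.linearMap K Γ(Y, ⊤)) hb).finrank_eq,
    Module.finrank_self]

/-- `χ` is affine-linear for tensor products. -/
theorem chi_tensor {L M : Y.Modules} (hL : PicF.IsInvertible L) (hM : PicF.IsInvertible M) :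
    chi K (CohB1.tensorMod L M) = chi K L + chi K M - chi K (Coh.structureModule Y) := by
  haveI := hf.proper; haveI := hf.smooth
  haveI := isIntegral_total hf
  have h := GenusZeroLib.deg_tensor K (dim_total hf) hL hM
  simp only [Curv2.deg, ← chi_eq_euler hf] at h
  push_cast at h
  linarith

/-- The Euler characteristic of the bundle of a divisor of degree `d`. -/
theorem chi_divisor {D : Y.IdealSheafData} {d : ℕ} (hD : BlowUp.IsEffCartierIdeal D)
    (hd : Mor2.IsFinLocFreeOfDeg d (D.subschemeι ≫ (Y ↘ Spec (CommRingCat.of K)))) {L : Y.Modules}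
    (hL : PicF.IsInvertible L) (h : idCls D * cl L = 1) :
    chi K L = chi K (Coh.structureModule Y) + d := by
  haveI := hf.proper; haveI := hf.smooth
  haveI := isIntegral_total hf
  haveI := CurvLib.isNoetherian K (X := Y)
  have hLD : ClSub.IsInverseOf L (ClSub.idealMod D) :=
    CubeConsLib.cl_eq_one_iff.1 ((cl_tensor _ _).trans ((mul_comm _ _).trans h))
  have h1 := CurvLib.euler_tensor_divisor (k := K) (dim_total hf).le hD hL hLD
    (CurvLib.locFree_of_isInvertible (CurvLib.isInvertible_structureModule (X := Y)))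
  rw [← chi_eq_euler hf, ← chi_eq_euler hf,
    chi_of_cl (show cl (CohB1.tensorMod (Coh.structureModule Y) L) = cl L from (cl_tensor _ _).trans (one_mul _))] at h1
  rw [h1]
  congr 1
  push_cast
  rw [one_mul]
  let c : D.subscheme ⟶ Spec (CommRingCat.of K) := D.subschemeι ≫ (Y ↘ Spec (CommRingCat.of K))
  letI : D.subscheme.Over (Spec (CommRingCat.of K)) := ⟨c⟩
  haveI : Coh.IsQCoh (Coh.structureModule D.subscheme) := QCohLib.isQCoh_unit
  obtain ⟨hn, -⟩ := PushLinLib.euler_push K (X := D.subscheme) (Y := Y) D.subschemeι rfl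
    (Coh.structureModule D.subscheme)
  haveI : IsFinite c := hd.1.1
  obtain ⟨-, hrk⟩ := HilbPts.SC.finrank_eq_appTop c (IsLocalRing.closedPoint K)
  letI : Algebra K Γ(D.subscheme, ⊤) := ((Scheme.ΓSpecIso (CommRingCat.of K)).inv ≫ c.appTop).hom.toAlgebra
  let e : Coh.HH D.subscheme (Coh.structureModule D.subscheme) 0 ≃ₗ[K] Γ(D.subscheme, ⊤) :=
    { (DegPullLib.e0 (Coh.structureModule D.subscheme)) with
      map_smul' := fun r x => (DegPullLib.e0_smul (Coh.structureModule D.subscheme) _ x).trans rfl }
  exact_mod_cast ((hn 0).symm.trans (e.finrank_eq.trans (hrk.symm.trans (hd.2 _))))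

end PicCurveLib

end
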