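import Groth.Agent.PicCurveLib.Field
import Groth.Agent.PicCurveLib.Fibre
import Groth.Agent.PicCurveLib.DimHilb

/-!
# The dimension of the Jacobian
-/

set_option autoImplicit false
set_option linter.style.haveILetI false
set_option linter.unusedSectionVars false
set_option backward.isDefEq.respectTransparency false
set_option backward.isDefEq.respectTransparency.types false
set_option maxRecDepth 8000
set_option maxHeartbeats 1000000
set_option synthInstance.maxHeartbeats 100000

universe u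

open CategoryTheory CategoryTheory.Limits AlgebraicGeometry TopologicalSpace
open CubeConsLib (pull pull_comp pull_cl cl cl_eq_iff cl_tensor IsoCls)
open EllLawLib (idCls)
open HilbPts (m m_comp m_id m_fst m_snd isPullback_m)

noncomputable section

namespace PicCurveLib

variable {k : Type u} [Field k] {X : Scheme.{u}} [X.Over (Spec (CommRingCat.of k))]


variable (hf : Fam (X ↘ Spec (CommRingCat.of k))) (T : Over (Spec (CommRingCat.of k))) (t : T.left)
include hf

omit t in
theorem fam_fibre (t : T.left) : Fam ((FGA.fibreAt (X ↘ Spec (CommRingCat.of k)) T t).left ↘ Spec (T.left.residueField t)) :=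
  (fam_snd hf T.hom).of_isPullback (IsPullback.of_hasPullback (pullback.snd (X ↘ Spec (CommRingCat.of k)) T.hom) _)

/-- Euler characteristics are unchanged from the base field to a fibre. -/
theorem chi_fibre {A : X.Modules} (hA : PicF.IsInvertible A) :
    chi (T.left.residueField t) (FGA.restrFibre (X ↘ Spec (CommRingCat.of k)) T t ((Scheme.Modules.pullback (pullback.fst (X ↘ Spec (CommRingCat.of k)) T.hom)).obj A)) =
      chi k A := by
  let K : Type u := T.left.residueField t
  let W := (FGA.fibreAt (X ↘ Spec (CommRingCat.of k)) T t).left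
  let pr : W ⟶ pullback (X ↘ Spec (CommRingCat.of k)) T.hom := pullback.fst (PicF.XTproj (X ↘ Spec (CommRingCat.of k)) T) (T.left.fromSpecResidueField t)
  let φ : CommRingCat.of k ⟶ CommRingCat.of K := Spec.preimage (T.left.fromSpecResidueField t ≫ T.hom)
  letI : Algebra k K := φ.hom.toAlgebra
  haveI : IsProper (X ↘ Spec (CommRingCat.of k)) := hf.proper
  have hsq : IsPullback (pr ≫ pullback.fst (X ↘ Spec (CommRingCat.of k)) T.hom) (W ↘ Spec (CommRingCat.of K)) (X ↘ Spec (CommRingCat.of k))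
      (Spec.map (CommRingCat.ofHom (algebraMap k K))) := by
    have : Spec.map (CommRingCat.ofHom (algebraMap k K)) = T.left.fromSpecResidueField t ≫ T.hom :=
      Spec.map_preimage _
    rw [this]
    exact (IsPullback.of_hasPullback (PicF.XTproj (X ↘ Spec (CommRingCat.of k)) T) _).paste_horiz (IsPullback.of_hasPullback (X ↘ Spec (CommRingCat.of k)) T.hom)
  have h2 : ∀ i, Module.finrank K (Coh.HH W (KFlatLib.pb (pr ≫ pullback.fst (X ↘ Spec (CommRingCat.of k)) T.hom) A) i) =
      Module.finrank k (Coh.HH X A i) := fun i =>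
    CurveBCLib.finrank_HH_sq (k := k) (K := K) hsq (TwistLib.isQCoh_of_isInvertible hA) i
  refine Eq.trans (chi_of_cl (N := KFlatLib.pb (pr ≫ pullback.fst (X ↘ Spec (CommRingCat.of k)) T.hom) A) ?_) ?_
  · show pull pr (pull (pullback.fst (X ↘ Spec (CommRingCat.of k)) T.hom) (cl A)) = pull _ (cl A)
    rw [pull_comp]
  · rw [chi_eq, chi_eq, h2 0, h2 1]

theorem chi_fibre_structure :
    chi (T.left.residueField t) (Coh.structureModule (FGA.fibreAt (X ↘ Spec (CommRingCat.of k)) T t).left) =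
      chi k (Coh.structureModule X) := by
  rw [← chi_fibre hf T t CurvLib.isInvertible_structureModule]
  refine chi_of_cl ?_
  show (1 : IsoCls _) = pull _ (pull _ (1 : IsoCls _))
  rw [map_one, map_one]

theorem chi_good {N : (PicF.XT (X ↘ Spec (CommRingCat.of k)) T).Modules}
    (h : CohIII.fiberRank (pullback.snd (X ↘ Spec (CommRingCat.of k)) T.hom) N 1 t = 0 ∧ CohIII.fiberRank (pullback.snd (X ↘ Spec (CommRingCat.of k)) T.hom) N 0 t = 1) :
    chi (T.left.residueField t) (FGA.restrFibre (X ↘ Spec (CommRingCat.of k)) T t N) = 1 := by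
  rw [chi_eq]
  exact (congrArg₂ (fun a b : ℕ => (a : ℤ) - (b : ℤ)) h.2 h.1).trans rfl

/-- On a fibre where the twist is good, the degree is determined by the twist. -/
theorem chi_twist {L : (PicF.XT (X ↘ Spec (CommRingCat.of k)) T).Modules} (hL : PicF.IsInvertible L) {A : X.Modules} (hA : PicF.IsInvertible A)
    (hg : GoodC (X ↘ Spec (CommRingCat.of k)) T.hom (cl L * tw (cl A) T.hom)) :
    chi (T.left.residueField t) (FGA.restrFibre (X ↘ Spec (CommRingCat.of k)) T t L) + chi k A - chi k (Coh.structureModule X) = 1 := by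
  have hW := fam_fibre hf T t
  let B := (Scheme.Modules.pullback (pullback.fst (X ↘ Spec (CommRingCat.of k)) T.hom)).obj A
  have hB : PicF.IsInvertible B := AmpleDevLib.isInvertible_pb _ hA
  obtain ⟨N, hN, eN, hgN⟩ := hg
  have e1 : chi (T.left.residueField t) (FGA.restrFibre (X ↘ Spec (CommRingCat.of k)) T t N) = 1 := chi_good hf T t (hgN t)
  have e2 : chi (T.left.residueField t) (FGA.restrFibre (X ↘ Spec (CommRingCat.of k)) T t N) =
      chi (T.left.residueField t) (CohB1.tensorMod (FGA.restrFibre (X ↘ Spec (CommRingCat.of k)) T t L) (FGA.restrFibre (X ↘ Spec (CommRingCat.of k)) T t B)) := by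
    refine chi_of_cl ?_
    rw [cl_tensor]
    show pull _ (cl N) = pull _ (cl L) * pull _ (cl B)
    rw [← map_mul, eN]
    rfl
  rw [← chi_fibre hf T t hA, ← chi_fibre_structure hf T t,
    ← chi_tensor (K := T.left.residueField t) hW (L := FGA.restrFibre (X ↘ Spec (CommRingCat.of k)) T t L) (M := FGA.restrFibre (X ↘ Spec (CommRingCat.of k)) T t B) (AmpleDevLib.isInvertible_pb _ hL)
      (AmpleDevLib.isInvertible_pb _ hB), ← e2, e1]

/-- The degree of the divisor of a good class is the genus. -/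
theorem deg_divisor [SmoothOfRelativeDimension 1 (X ↘ Spec (CommRingCat.of k))] {c : IsoCls (pullback (X ↘ Spec (CommRingCat.of k)) T.hom)} (hg : GoodC (X ↘ Spec (CommRingCat.of k)) T.hom c)
    {I : (pullback (X ↘ Spec (CommRingCat.of k)) T.hom).IdealSheafData} (hI : IsDiv (X ↘ Spec (CommRingCat.of k)) T.hom c I) {d : ℕ}
    (hd : Mor2.IsFinLocFreeOfDeg d (I.subschemeι ≫ pullback.snd (X ↘ Spec (CommRingCat.of k)) T.hom)) (t : T.left) :
    d = Module.finrank k (Coh.HH X (Coh.structureModule X) 1) := by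
  obtain ⟨N, hN, rfl, hgN⟩ := hg
  obtain ⟨hIf, n, ⟨M, hM, rfl⟩, e⟩ := hI
  haveI := smooth_snd (f := (X ↘ Spec (CommRingCat.of k))) T.hom
  let K : Type u := T.left.residueField t
  let W := (FGA.fibreAt (X ↘ Spec (CommRingCat.of k)) T t).left
  let pr : W ⟶ pullback (X ↘ Spec (CommRingCat.of k)) T.hom := pullback.fst (PicF.XTproj (X ↘ Spec (CommRingCat.of k)) T) (T.left.fromSpecResidueField t)
  haveI : SmoothOfRelativeDimension 1 (W ↘ Spec (CommRingCat.of K)) := smooth_snd (f := pullback.snd (X ↘ Spec (CommRingCat.of k)) T.hom) _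
  have hd' : Mor2.IsFinLocFreeOfDeg d ((I.comap pr).subschemeι ≫ (W ↘ Spec (CommRingCat.of K))) :=
    HilbPts.SC.finrank_fibre_eq (pullback.snd (X ↘ Spec (CommRingCat.of k)) T.hom) I hd (T.left.fromSpecResidueField t)
  have hc : BlowUp.IsEffCartierIdeal (I.comap pr) :=
    (HilbPts.SC.effCartier_of_finLocFree (W ↘ Spec (CommRingCat.of K)) _ hd'.1).1
  have e' : idCls (I.comap pr) * cl (FGA.restrFibre (X ↘ Spec (CommRingCat.of k)) T t N) = 1 := by
    rw [← EllLawLib.pull_idCls pr (effCartier_of_finLocFree hIf) hc,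
      show cl (FGA.restrFibre (X ↘ Spec (CommRingCat.of k)) T t N) = pull pr (cl N) from rfl, ← map_mul, e]
    exact EllLawLib.pull_fibre_base (f := pullback.snd (X ↘ Spec (CommRingCat.of k)) T.hom) t hM
  have h := chi_divisor (K := T.left.residueField t) (fam_fibre hf T t) hc hd' (AmpleDevLib.isInvertible_pb pr hN) e'
  have h1 : chi K (FGA.restrFibre (X ↘ Spec (CommRingCat.of k)) T t N) = 1 := chi_good hf T t (hgN t)
  have h2 : chi K (FGA.restrFibre (X ↘ Spec (CommRingCat.of k)) T t N) = chi k (Coh.structureModule X) + d :=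
    h.trans (congrArg (· + (d : ℤ)) (chi_fibre_structure hf T t))
  rw [h1, chi_eq, h0_structure hf] at h2
  omega

omit hf
variable {σ : Spec (CommRingCat.of k) ⟶ X} {hσ : σ ≫ (X ↘ Spec (CommRingCat.of k)) = 𝟙 (Spec (CommRingCat.of k))}

/-- **The dimension of the Jacobian.** -/
theorem jacobian_dim [IsSepClosed k] (hX : Curve.IsSmoothProperCurve k X (X ↘ Spec (CommRingCat.of k)))
    (J : Over (Spec (CommRingCat.of k))) (ξ : PicF.Rig (X ↘ Spec (CommRingCat.of k)) σ hσ J) (hξ : FGA.HasFibreDegreeZeroCl (X ↘ Spec (CommRingCat.of k)) J ξ.1)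
    (huniv : ∀ (T : Over (Spec (CommRingCat.of k))) (c : PicF.Rig (X ↘ Spec (CommRingCat.of k)) σ hσ T), FGA.HasFibreDegreeZeroCl (X ↘ Spec (CommRingCat.of k)) T c.1 →
      ∃! g : T ⟶ J, PicF.pullCl (PicF.XTmap (X ↘ Spec (CommRingCat.of k)) g) ξ.1 = c.1) :
    topologicalKrullDim J.left = (Module.finrank k (Coh.HH X (Coh.structureModule X) 1) : WithBot ℕ∞) := by
  have hf := fam_of_curve (X ↘ Spec (CommRingCat.of k)) hX
  obtain ⟨hP, hS, hI, hdim⟩ := hX
  haveI : IsProper (X ↘ Spec (CommRingCat.of k)) := hP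
  haveI : Smooth (X ↘ Spec (CommRingCat.of k)) := hS
  haveI := hI
  haveI : GeometricallyIntegral (X ↘ Spec (CommRingCat.of k)) := CurveBCLib.geometricallyIntegral_of_sepClosed (k := k) (X := X)
  haveI : GeometricallyIrreducible (X ↘ Spec (CommRingCat.of k)) := inferInstance
  haveI : SmoothOfRelativeDimension 1 (X ↘ Spec (CommRingCat.of k)) := Groth.Agent.S1170.smoothOfRelativeDimension_one k (X ↘ Spec (CommRingCat.of k)) hdim
  haveI : IsSeparated (X ↘ Spec (CommRingCat.of k)) := inferInstance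
  have hrep : ∀ d : ℕ, HilbD.Representable (X ↘ Spec (CommRingCat.of k)) d := fun d => by
    obtain ⟨H, Z, hZ, -, -⟩ := Groth.Agent.S1170.result k X (X ↘ Spec (CommRingCat.of k)) ⟨hP, hS, hI, hdim⟩ d
    exact ⟨H, Z, hZ⟩
  let g₀ := Module.finrank k (Coh.HH X (Coh.structureModule X) 1)
  obtain ⟨L, hLξ, hdeg⟩ := hξ
  obtain ⟨⟨L', hL'c, hL'⟩, htriv⟩ := ξ.2
  have hL : PicF.IsInvertible L := by
    obtain ⟨e⟩ := cl_eq_iff.1 (EllLawLib.toCl_eq.1 (hL'c.trans hLξ.symm))
    exact HilbPolyLib.isInvertible_of_iso e hL'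
  rw [← hLξ] at htriv
  let PJ : RPt (X ↘ Spec (CommRingCat.of k)) σ hσ J.left := ofCl ⟨L, hL, rfl⟩ (EllLawLib.toCl_eq.1 htriv)
  -- points with a good twist of Euler characteristic one come from a unique map to `J`
  have hmap : ∀ (A : X.Modules), PicF.IsInvertible A → chi k A = 1 → ∀ (T : Scheme.{u}) (P : RPt (X ↘ Spec (CommRingCat.of k)) σ hσ T),
      GoodC (X ↘ Spec (CommRingCat.of k)) P.g (P.c * tw (cl A) P.g) → ∃! x : T ⟶ J.left, PJ.map x = P := by
    intro A hA hχ T P hg
    obtain ⟨M, hM, eM⟩ := P.inv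
    let T' : Over (Spec (CommRingCat.of k)) := Over.mk P.g
    let c : PicF.Rig (X ↘ Spec (CommRingCat.of k)) σ hσ T' := ⟨PicF.cl M, ⟨M, rfl, hM⟩, EllLawLib.toCl_eq.2 (by
      have h := P.rig; rw [← eM] at h; exact h)⟩
    have hd : FGA.HasFibreDegreeZeroCl (X ↘ Spec (CommRingCat.of k)) T' c.1 := ⟨M, rfl, fun t => by
      have h := chi_twist hf T' t (L := M) hM hA (by rw [eM]; exact hg)
      rw [hχ] at h
      show chi _ (FGA.restrFibre (X ↘ Spec (CommRingCat.of k)) T' t M) = chi _ (Coh.structureModule _)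
      rw [chi_fibre_structure hf T' t]
      linarith⟩
    have hiff : ∀ v : T' ⟶ J, PicF.pullCl (PicF.XTmap (X ↘ Spec (CommRingCat.of k)) v) ξ.1 = c.1 ↔ PJ.map v.left = P := fun v => by
      rw [← hLξ]
      refine (EllLawLib.toCl_eq (A := (Scheme.Modules.pullback (PicF.XTmap (X ↘ Spec (CommRingCat.of k)) v)).obj L) (B := M)).trans ?_
      rw [map_eq_iff]
      constructor
      · intro hv
        refine ⟨Over.w v, ?_⟩
        rw [← eM, ← hv]
        show pull _ (cl L) = pull _ (cl L)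
        rw [HilbPts.xtMap_eq]
      · rintro ⟨w, hv⟩
        rw [eM, ← hv]
        show pull _ (cl L) = pull _ (cl L)
        rw [HilbPts.xtMap_eq]
    obtain ⟨v, hv, huv⟩ := huniv T' c hd
    exact ⟨v.left, (hiff v).1 hv, fun x hx =>
      congrArg CommaMorphism.left (huv (Over.homMk x (congrArg RPt.g hx)) ((hiff _).2 hx))⟩
  -- `J` is covered by opens of the Hilbert scheme of `g` points
  have hJ : PureDim g₀ J.left := PureDim.of_cover fun t => by
    let K : Type u := J.left.residueField t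
    let p := J.left.fromSpecResidueField t
    let φ : CommRingCat.of k ⟶ CommRingCat.of K := Spec.preimage (p ≫ J.hom)
    letI : Algebra k K := φ.hom.toAlgebra
    letI : (pullback (X ↘ Spec (CommRingCat.of k)) (p ≫ J.hom)).Over (Spec (CommRingCat.of K)) := ⟨pullback.snd (X ↘ Spec (CommRingCat.of k)) (p ≫ J.hom)⟩
    have hpb : IsPullback (pullback.fst (X ↘ Spec (CommRingCat.of k)) (p ≫ J.hom)) ((pullback (X ↘ Spec (CommRingCat.of k)) (p ≫ J.hom)) ↘ Spec (CommRingCat.of K)) (X ↘ Spec (CommRingCat.of k))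
        (Spec.map (CommRingCat.ofHom (algebraMap k K))) := by
      have : Spec.map (CommRingCat.ofHom (algebraMap k K)) = p ≫ J.hom := Spec.map_preimage _
      rw [this]
      exact IsPullback.of_hasPullback (X ↘ Spec (CommRingCat.of k)) _
    obtain ⟨M, hM, eM⟩ := (PJ.map p).inv
    obtain ⟨A, hA, h0, h1⟩ := Groth.Agent.S6487.result k X ⟨hP, hS, hI, hdim⟩ K (pullback (X ↘ Spec (CommRingCat.of k)) (p ≫ J.hom))
      (pullback.fst (X ↘ Spec (CommRingCat.of k)) (p ≫ J.hom)) hpb M hM
    have hMA := HilbPolyLib.isInvertible_tensor hM (AmpleDevLib.isInvertible_pb (pullback.fst (X ↘ Spec (CommRingCat.of k)) (p ≫ J.hom)) hA)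
    haveI : IsProper (pullback.snd (X ↘ Spec (CommRingCat.of k)) (p ≫ J.hom)) := (fam_snd hf (p ≫ J.hom)).proper
    haveI := h1
    have hgp : GoodC (X ↘ Spec (CommRingCat.of k)) (p ≫ J.hom) ((PJ.map p).c * tw (cl A) (p ≫ J.hom)) :=
      ⟨_, hMA, by rw [cl_tensor, eM]; rfl, fun s =>
        ⟨(fiberRank_spec_mod (pullback.snd (X ↘ Spec (CommRingCat.of k)) (p ≫ J.hom)) hMA 1 s).trans
          (Module.finrank_zero_of_subsingleton (R := K)),
        (fiberRank_spec_mod (pullback.snd (X ↘ Spec (CommRingCat.of k)) (p ≫ J.hom)) hMA 0 s).trans h0⟩⟩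
    let T₁ : Over (Spec (CommRingCat.of k)) := Over.mk (p ≫ J.hom)
    let t₁ : T₁.left := IsLocalRing.closedPoint K
    have hgp' : GoodC (X ↘ Spec (CommRingCat.of k)) (p ≫ J.hom) (pull (m (X ↘ Spec (CommRingCat.of k)) p rfl) (PJ.c * tw (cl A) J.hom)) := by
      rw [map_mul, pull_fst_m]
      exact hgp
    obtain ⟨W, IW, hIW, hgW, hW⟩ := exists_good_div hf (a := cl A) ⟨A, hA, rfl⟩ PJ
    have htW : t ∈ W := by
      have h := (hW _ _ p rfl).1 hgp' t₁
      rwa [show p t₁ = t from Scheme.fromSpecResidueField_apply t _] at h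
    -- the twist has Euler characteristic one
    obtain ⟨MW, hMW, eMW⟩ := (PJ.map W.ι).inv
    have hχ : chi k A = 1 := by
      obtain ⟨N, hN, eN⟩ := (show InvC PJ.c from PJ.inv)
      let B := (Scheme.Modules.pullback (pullback.fst (X ↘ Spec (CommRingCat.of k)) J.hom)).obj A
      have hNB := HilbPolyLib.isInvertible_tensor hL (AmpleDevLib.isInvertible_pb (pullback.fst (X ↘ Spec (CommRingCat.of k)) J.hom) hA)
      haveI := (fam_snd hf J.hom).proper
      have hrk := (good_pb_iff (fam_snd hf J.hom) hNB (isPullback_m (X ↘ Spec (CommRingCat.of k)) p rfl)).1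
        (GoodC.good (L := (Scheme.Modules.pullback (m (X ↘ Spec (CommRingCat.of k)) p rfl)).obj (CohB1.tensorMod L B)) (by
          show GoodC (X ↘ Spec (CommRingCat.of k)) (p ≫ J.hom) (pull (m (X ↘ Spec (CommRingCat.of k)) p rfl) (cl (CohB1.tensorMod L B)))
          rw [cl_tensor]
          exact hgp')) t₁
      rw [show p t₁ = t from Scheme.fromSpecResidueField_apply t _] at hrk
      have e4 : chi K (FGA.restrFibre (X ↘ Spec (CommRingCat.of k)) J t (CohB1.tensorMod L B)) = 1 := chi_good hf J t hrk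
      have e1 : chi K (FGA.restrFibre (X ↘ Spec (CommRingCat.of k)) J t (CohB1.tensorMod L B)) =
          chi K (CohB1.tensorMod (FGA.restrFibre (X ↘ Spec (CommRingCat.of k)) J t L) (FGA.restrFibre (X ↘ Spec (CommRingCat.of k)) J t B)) := by
        refine chi_of_cl ?_
        rw [cl_tensor]
        show pull _ (cl (CohB1.tensorMod L B)) = pull _ (cl L) * pull _ (cl B)
        rw [cl_tensor, map_mul]
      have e2 := chi_tensor (K := J.left.residueField t) (fam_fibre hf J t) (L := FGA.restrFibre (X ↘ Spec (CommRingCat.of k)) J t L) (M := FGA.restrFibre (X ↘ Spec (CommRingCat.of k)) J t B)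
        (AmpleDevLib.isInvertible_pb _ hL) (AmpleDevLib.isInvertible_pb _ (AmpleDevLib.isInvertible_pb _ hA))
      have e3 : chi K (FGA.restrFibre (X ↘ Spec (CommRingCat.of k)) J t L) = chi K (Coh.structureModule (FGA.fibreAt (X ↘ Spec (CommRingCat.of k)) J t).left) := hdeg t
      rw [← e1, chi_fibre hf J t hA, e3] at e2
      linarith
    -- the chart
    obtain ⟨H, Z, hZ⟩ := hrep g₀
    obtain ⟨Y, ζ, IY, ⟨jY, -, hjY, -⟩, hζg, hζd, hζdeg, hζm, hζe⟩ :=
      exists_chart (σ := σ) (hσ := hσ) hf hZ (a := cl A) ⟨A, hA, rfl⟩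
    obtain ⟨O, j, q, hj, hq, huq⟩ := exists_locus hf (a := cl A) ⟨A, hA, rfl⟩
      (⟨hζg, ⟨IY, hζd, hζdeg⟩, hζm, hζe⟩ : IsChart (cl A) g₀ ζ) PJ
    haveI := hj; haveI := hjY
    have ht : t ∈ Set.range j := by
      obtain ⟨I, hI⟩ := exists_isDiv hf hgp
      let π := I.subschemeι ≫ pullback.snd (X ↘ Spec (CommRingCat.of k)) (p ≫ J.hom)
      have hdeg' : Mor2.IsFinLocFreeOfDeg (π.finrank t₁) π :=
        ⟨hI.1, fun y => congrArg π.finrank (Subsingleton.elim (α := PrimeSpectrum K) _ _)⟩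
      have hg₀ : π.finrank t₁ = g₀ := deg_divisor hf T₁ hgp hI hdeg' t₁
      rw [hg₀] at hdeg'
      obtain ⟨x, hx⟩ := hζe _ (PJ.map p) I hgp hI hdeg'
      obtain ⟨l, hl, -⟩ := huq _ x p hx
      exact ⟨l t₁, by rw [← Scheme.Hom.comp_apply, hl]; exact Scheme.fromSpecResidueField_apply t _⟩
    obtain ⟨gY, hgY, -⟩ := hmap A hA hχ Y ζ hζg
    obtain ⟨l, hl, hlq⟩ := huq _ (𝟙 Y) gY (by rw [RPt.map_id, hgY])
    have hql : q ≫ l = 𝟙 O := by
      rw [← cancel_mono j, Category.assoc, hl, Category.id_comp]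
      refine ExistsUnique.unique (hmap A hA hχ O (ζ.map q) ?_) ?_ hq.symm
      · show GoodC (X ↘ Spec (CommRingCat.of k)) (q ≫ ζ.g) (pull (m (X ↘ Spec (CommRingCat.of k)) q rfl) ζ.c * tw (cl A) (q ≫ ζ.g))
        rw [← pull_twist]
        exact GoodC.pull_m hf hζg q rfl
      · rw [← RPt.map_map, hgY]
    haveI : IsIso q := ⟨l, hql, hlq⟩
    exact ⟨O, j, hj, ht, ((pureDim_hilb (X ↘ Spec (CommRingCat.of k)) hrep g₀ H Z hZ).of_isOpenImmersion jY).of_isOpenImmersion q⟩
  haveI : Nonempty J.left := by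
    let T₀ : Over (Spec (CommRingCat.of k)) := Over.mk (𝟙 (Spec (CommRingCat.of k)))
    let c : PicF.Rig (X ↘ Spec (CommRingCat.of k)) σ hσ T₀ := ⟨PicF.cl (Coh.structureModule _), ⟨_, rfl, CurvLib.isInvertible_structureModule⟩,
      EllLawLib.toCl_eq.2 (map_one (pull _))⟩
    have hc : FGA.HasFibreDegreeZeroCl (X ↘ Spec (CommRingCat.of k)) T₀ c.1 := ⟨_, rfl, fun t => chi_of_cl (map_one (pull _))⟩
    exact ⟨(huniv T₀ c hc).choose.left (IsLocalRing.closedPoint k)⟩
  exact hJ.dim_eq

end PicCurveLib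

end
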