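import Groth.Agent.PicCurveLib.DegInv
import Groth.Agent.S12411
import Groth.Agent.AlgEquivLib.Geom

/-!
# Algebraic equivalence to zero on the fibres of a family of smooth curves
-/

set_option autoImplicit false
set_option linter.style.haveILetI false
set_option linter.unusedSectionVars false
set_option backward.isDefEq.respectTransparency false
set_option backward.isDefEq.respectTransparency.types false
set_option maxRecDepth 8000
set_option maxHeartbeats 1000000

universe u

open CategoryTheory CategoryTheory.Limits AlgebraicGeometry TopologicalSpace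
open CubeConsLib (pull pull_comp pull_cl cl cl_eq_iff cl_tensor IsoCls)

noncomputable section

namespace PicCurveLib

variable {C S : Scheme.{u}} {f : C ⟶ S}

theorem Fam.dim_le (hf : Fam f) (s : S) : topologicalKrullDim ↥(f.fiber s) ≤ 1 := (hf.dim s).le

variable (hf : Fam f) [IsProper f] [Flat f] [LocallyOfFinitePresentation f]
include hf

/-- On a geometric point, algebraic equivalence to zero is degree zero. -/
theorem isAlgEquivZero_iff_deg (T : Over S) {L : (PicF.XT f T).Modules} (hL : PicF.IsInvertible L)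
    {Ω : Type u} [Field Ω] [IsAlgClosed Ω] (σ : Spec (CommRingCat.of Ω) ⟶ T.left) :
    @Pic13.IsAlgEquivZero Ω _ (pullback (PicF.XTproj f T) σ) ⟨pullback.snd (PicF.XTproj f T) σ⟩
        ((Scheme.Modules.pullback (pullback.fst (PicF.XTproj f T) σ)).obj L) ↔
      deg f T L (σ (IsLocalRing.closedPoint Ω)) = 0 := by
  let Z := pullback (PicF.XTproj f T) σ
  letI : Z.Over (Spec (CommRingCat.of Ω)) := ⟨pullback.snd (PicF.XTproj f T) σ⟩
  have H : IsPullback (pullback.fst (PicF.XTproj f T) σ) (Z ↘ Spec (CommRingCat.of Ω)) (PicF.XTproj f T) σ :=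
    IsPullback.of_hasPullback _ _
  have hZ : Fam (Z ↘ Spec (CommRingCat.of Ω)) := (fam_snd hf T.hom).of_isPullback H
  haveI := hZ.proper
  haveI := hZ.smooth
  haveI := isIntegral_total hZ
  haveI : ConnectedSpace ↥Z := inferInstance
  have h := Groth.Agent.S12411.result Ω Z (dim_total hZ) _
    (AmpleDevLib.isInvertible_pb (pullback.fst (PicF.XTproj f T) σ) hL)
  refine h.trans ?_
  rw [show Pic13.curveDeg Ω (Z ↘ Spec (CommRingCat.of Ω))
      ((Scheme.Modules.pullback (pullback.fst (PicF.XTproj f T) σ)).obj L) = deg f T L (σ (IsLocalRing.closedPoint Ω))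
    from deg_point f hf.dim_le T hL H (IsLocalRing.closedPoint Ω)]

/-- Algebraic triviality at a point is degree zero. -/
theorem isAlgTrivialAt_iff (T : Over S) {L : (PicF.XT f T).Modules} (hL : PicF.IsInvertible L) (t : T.left) :
    AbDual.IsAlgTrivialAt (PicF.XTproj f T) L t ↔ deg f T L t = 0 := by
  constructor
  · intro h
    obtain ⟨Ω, _, _, ⟨ω⟩⟩ := AlgEquivLib.exists_geom T.left t
    let σ : Spec (CommRingCat.of Ω) ⟶ T.left := ω ≫ T.left.fromSpecResidueField t
    have hσ : σ (IsLocalRing.closedPoint Ω) = t := Scheme.fromSpecResidueField_apply t _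
    have hr : Set.range σ.base = {t} := by
      ext y
      constructor
      · rintro ⟨z, rfl⟩
        exact (congrArg σ (Subsingleton.elim (α := PrimeSpectrum Ω) z (IsLocalRing.closedPoint Ω))).trans hσ
      · rintro rfl
        exact ⟨_, hσ⟩
    exact hσ ▸ (isAlgEquivZero_iff_deg hf T hL σ).1 (h Ω σ hr)
  · intro h Ω _ _ σ hσ
    refine (isAlgEquivZero_iff_deg hf T hL σ).2 ?_
    rw [show σ (IsLocalRing.closedPoint Ω) = t from
      Set.mem_singleton_iff.1 (hσ ▸ Set.mem_range_self (IsLocalRing.closedPoint Ω))]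
    exact h

/-- The classes of `Pic⁰` are the invertible classes of fibre degree zero. -/
theorem isPicZeroCl_iff (T : Over S) {L : (PicF.XT f T).Modules} (hL : PicF.IsInvertible L) :
    AbDual.IsPicZeroCl f T (PicF.cl L) ↔ ∀ t, deg f T L t = 0 := by
  refine ⟨fun ⟨M, hM, hMi, h⟩ t => ?_, fun h => ⟨L, rfl, hL, fun t => (isAlgTrivialAt_iff hf T hL t).2 (h t)⟩⟩
  rw [deg_congr f hf.dim_le T (EllLawLib.toCl_eq.1 hM.symm) t]
  exact (isAlgTrivialAt_iff hf T hMi t).1 (h t)

omit hf in
theorem hasFibreDegreeZero_iff (T : Over S) (L : (PicF.XT f T).Modules) :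
    FGA.HasFibreDegreeZero f T L ↔ ∀ t, deg f T L t = 0 :=
  forall_congr' fun _ => sub_eq_zero.symm

/-- Degree-zero classes. -/
theorem hasFibreDegreeZeroCl_iff (T : Over S) {L : (PicF.XT f T).Modules} (hL : PicF.IsInvertible L) :
    FGA.HasFibreDegreeZeroCl f T (PicF.cl L) ↔ AbDual.IsPicZeroCl f T (PicF.cl L) := by
  rw [isPicZeroCl_iff hf T hL]
  refine ⟨fun ⟨M, hM, h⟩ t => ?_, fun h => ⟨L, rfl, (hasFibreDegreeZero_iff T L).2 h⟩⟩
  rw [deg_congr f hf.dim_le T (EllLawLib.toCl_eq.1 hM.symm) t]
  exact (hasFibreDegreeZero_iff T M).1 h t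

end PicCurveLib

end
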