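import Groth.Agent.PicCurveLib.Rep
import Groth.Agent.EllLawLib.Field
import Groth.Agent.S1170
import Groth.Agent.S6487
import Groth.Agent.H0Lib.Main
import Groth.Agent.WeilResLib.GeomConn

/-!
# The rigidified Picard functor of a curve over a separably closed field
-/

set_option autoImplicit false
set_option linter.style.haveILetI false
set_option linter.unusedSectionVars false
set_option backward.isDefEq.respectTransparency false
set_option backward.isDefEq.respectTransparency.types false
set_option maxRecDepth 8000
set_option maxHeartbeats 1000000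
set_option synthInstance.maxHeartbeats 100000

universe u

open CategoryTheory CategoryTheory.Limits AlgebraicGeometry TopologicalSpace Opposite
open CubeConsLib (pull pull_comp pull_cl cl cl_eq_iff cl_tensor IsoCls)

noncomputable section

namespace PicCurveLib

variable {k : Type u} [Field k] {X : Scheme.{u}} (f : X ⟶ Spec (CommRingCat.of k))

/-- The fibre ranks over the spectrum of a field. -/
theorem fiberRank_spec_mod [IsProper f] {L : X.Modules} (hL : PicF.IsInvertible L) (i : ℕ)
    (s : Spec (CommRingCat.of k)) :
    CohIII.fiberRank f L i s =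
      @Module.finrank k (Coh.HH X L i) _ _ (letI : X.Over (Spec (CommRingCat.of k)) := ⟨f⟩; inferInstance) := by
  letI : X.Over (Spec (CommRingCat.of k)) := ⟨f⟩
  let K : Type u := (Spec (CommRingCat.of k)).residueField s
  letI : (f.fiber s).Over (Spec (CommRingCat.of K)) := ⟨f.fiberToSpecResidueField s⟩
  let φ : CommRingCat.of k ⟶ CommRingCat.of K :=
    Spec.preimage ((Spec (CommRingCat.of k)).fromSpecResidueField s)
  letI : Algebra k K := φ.hom.toAlgebra
  haveI : IsProper (X ↘ Spec (CommRingCat.of k)) := ‹IsProper f›
  have hsq : IsPullback (f.fiberι s) ((f.fiber s) ↘ Spec (CommRingCat.of K)) (X ↘ Spec (CommRingCat.of k))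
      (Spec.map (CommRingCat.ofHom (algebraMap k K))) := by
    have : Spec.map (CommRingCat.ofHom (algebraMap k K)) = (Spec (CommRingCat.of k)).fromSpecResidueField s :=
      Spec.map_preimage ((Spec (CommRingCat.of k)).fromSpecResidueField s)
    rw [this]
    exact IsPullback.of_hasPullback f _
  exact CurveBCLib.finrank_HH_sq (k := k) (K := K) hsq (TwistLib.isQCoh_of_isInvertible hL) i

theorem fam_of_curve [IsSepClosed k] (hX : Curve.IsSmoothProperCurve k X f) : Fam f := by
  obtain ⟨hP, hS, hI, hdim⟩ := hX
  letI : X.Over (Spec (CommRingCat.of k)) := ⟨f⟩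
  haveI : IsProper (X ↘ Spec (CommRingCat.of k)) := hP
  haveI : Smooth (X ↘ Spec (CommRingCat.of k)) := hS
  haveI := hI
  haveI : GeometricallyIntegral f := CurveBCLib.geometricallyIntegral_of_sepClosed (k := k) (X := X)
  exact ⟨hP, hS, Groth.Agent.WeilRes.geometricallyConnected_of_geometricallyIrreducible f,
    fun s => (EllLawLib.dim_fiber_spec f s).trans hdim⟩

/-- **The rigidified Picard functor of a curve over a separably closed field is representable.** -/
theorem rigRepresentable_curve [IsSepClosed k] (hX : Curve.IsSmoothProperCurve k X f)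
    (σ : Spec (CommRingCat.of k) ⟶ X) (hσ : σ ≫ f = 𝟙 (Spec (CommRingCat.of k))) :
    PicF.RigRepresentable f σ hσ := by
  have hf := fam_of_curve f hX
  obtain ⟨hP, hS, hI, hdim⟩ := hX
  letI : X.Over (Spec (CommRingCat.of k)) := ⟨f⟩
  haveI : IsProper (X ↘ Spec (CommRingCat.of k)) := hP
  haveI : Smooth (X ↘ Spec (CommRingCat.of k)) := hS
  haveI := hI
  haveI := hP; haveI := hS
  haveI hgi : GeometricallyIntegral f := CurveBCLib.geometricallyIntegral_of_sepClosed (k := k) (X := X)
  haveI : SmoothOfRelativeDimension 1 f := Groth.Agent.S1170.smoothOfRelativeDimension_one k f hdim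
  haveI : GeometricallyIrreducible f := inferInstance
  haveI : GeometricallyConnected f := Groth.Agent.WeilRes.geometricallyConnected_of_geometricallyIrreducible f
  refine rigRepresentable hf ?_ (fun d => ?_) fun K _ g c hc => ?_
  · intro T V
    exact H0Lib.bijective_app_of_geometrically (pullback.snd f T.hom) V
  · obtain ⟨H, Z, hZ, -, -⟩ := Groth.Agent.S1170.result k X f ⟨hP, hS, hI, hdim⟩ d
    exact ⟨H, Z, hZ⟩
  · obtain ⟨L, hL, rfl⟩ := hc
    let φ : CommRingCat.of k ⟶ CommRingCat.of K := Spec.preimage g
    letI : Algebra k K := φ.hom.toAlgebra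
    letI : (pullback f g).Over (Spec (CommRingCat.of K)) := ⟨pullback.snd f g⟩
    have hpb : IsPullback (pullback.fst f g) ((pullback f g) ↘ Spec (CommRingCat.of K)) (X ↘ Spec (CommRingCat.of k))
        (Spec.map (CommRingCat.ofHom (algebraMap k K))) := by
      have : Spec.map (CommRingCat.ofHom (algebraMap k K)) = g := Spec.map_preimage g
      rw [this]
      exact IsPullback.of_hasPullback f g
    obtain ⟨L₀, hL₀, h0, h1⟩ := Groth.Agent.S6487.result k X ⟨hP, hS, hI, hdim⟩ K (pullback f g)
      (pullback.fst f g) hpb L hL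
    have hLL := HilbPolyLib.isInvertible_tensor hL (AmpleDevLib.isInvertible_pb (pullback.fst f g) hL₀)
    refine ⟨_, ⟨L₀, hL₀, rfl⟩, _, hLL, rfl, fun s => ?_⟩
    haveI : IsProper (pullback.snd f g) := (fam_snd hf g).proper
    haveI := h1
    exact ⟨(fiberRank_spec_mod (pullback.snd f g) hLL 1 s).trans
        (Module.finrank_zero_of_subsingleton (R := K)),
      (fiberRank_spec_mod (pullback.snd f g) hLL 0 s).trans h0⟩

end PicCurveLib

end
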