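import Groth.Agent.PicCurveLib.PointDiv
import Groth.Agent.PicCurveLib.AlgTriv
import Groth.Agent.PicCurveLib.Field
import Groth.Agent.AlgEquivCurveLib.Curve

/-!
# Degree zero classes are differences of points
-/

set_option autoImplicit false
set_option linter.style.haveILetI false
set_option linter.unusedSectionVars false
set_option backward.isDefEq.respectTransparency false
set_option backward.isDefEq.respectTransparency.types false
set_option maxRecDepth 8000
set_option maxHeartbeats 1000000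

universe u

open CategoryTheory CategoryTheory.Limits AlgebraicGeometry TopologicalSpace
open CubeConsLib (pull pull_comp pull_cl cl cl_eq_iff cl_tensor IsoCls)
open EllLawLib (idCls)

noncomputable section

namespace PicCurveLib

variable {C S : Scheme.{u}} {f : C ⟶ S} [IsProper f] [Flat f] [LocallyOfFinitePresentation f] (hf : Fam f)
include hf

omit hf in
theorem cancel_pair {G : Type*} [CommMonoid G] {c a e p q b : G} (h : c * (a * p) = b * q) (he : b * e = 1) :
    c * a * e * p = q := by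
  calc c * a * e * p = c * (a * p) * e := by rw [mul_right_comm, mul_assoc c a p]
    _ = q := by rw [h, mul_right_comm, he, one_mul]

/-- One step of the family of differences has degree zero. -/
theorem deg_step {B W : Over S} (g : B ⟶ W) {M : (PicF.XT f W).Modules} (hM : PicF.IsInvertible M)
    (hM0 : ∀ w, deg f W M w = 0) (x y : B ⟶ Over.mk f) {N I : (PicF.XT f B).Modules} (hN : PicF.IsInvertible N)
    (hd : pc x * cl N = 1) (hI : PicF.IsInvertible I) (hIy : cl I = pc y) (w : B.left) :
    deg f B (CohB1.tensorMod ((Scheme.Modules.pullback (PicF.XTmap f g)).obj M) (CohB1.tensorMod N I)) w = 0 := by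
  have h1 : deg f B ((Scheme.Modules.pullback (PicF.XTmap f g)).obj M) w = 0 :=
    (deg_map f (fun s => (hf.dim s).le) g hM w).trans (hM0 _)
  rw [deg_tensor hf B (AmpleDevLib.isInvertible_pb _ hM) (HilbPolyLib.isInvertible_tensor hN hI) w, h1,
    deg_tensor hf B hN hI w, deg_inv_pc hf x hN (by rw [mul_comm]; exact hd) w, deg_pc hf y hI hIy w]
  rfl

/-- One step of the universal property of the family of differences. -/
theorem pull_step {B W T : Over S} (g : B ⟶ W) (M : (PicF.XT f W).Modules) (x y : B ⟶ Over.mk f)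
    {N I : (PicF.XT f B).Modules} (hd : pc x * cl N = 1) (hIy : cl I = pc y) {w₀ : T ⟶ W} {x' y' : T ⟶ Over.mk f}
    {c e : IsoCls (PicF.XT f T)} (w : T ⟶ B) (hw : w ≫ g = w₀) (hx : w ≫ x = x') (hy : w ≫ y = y')
    (hw₀ : pull (PicF.XTmap f w₀) (cl M) = c * pc x' * e) (he : pc y' * e = 1) :
    pull (PicF.XTmap f w) (cl (CohB1.tensorMod ((Scheme.Modules.pullback (PicF.XTmap f g)).obj M)
      (CohB1.tensorMod N I))) = c := by
  have h1 : pull (PicF.XTmap f w) (cl ((Scheme.Modules.pullback (PicF.XTmap f g)).obj M)) = c * pc x' * e := by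
    rw [← pull_cl, pull_comp, ← PicGrp.XTmap_comp, hw, hw₀]
  have h2 : pc x' * pull (PicF.XTmap f w) (cl N) = 1 := by
    rw [← hx, ← pull_pc hf w x, ← map_mul, hd, map_one]
  rw [cl_tensor, cl_tensor, map_mul, map_mul, h1, hIy, pull_pc hf w y, hy]
  calc c * pc x' * e * (pull (PicF.XTmap f w) (cl N) * pc y') =
      c * (pc x' * pull (PicF.XTmap f w) (cl N)) * (pc y' * e) := by ac_rfl
    _ = c := by rw [h2, he, mul_one, mul_one]

/-- **The family of differences of `n` pairs of points.** -/
theorem exists_diff_family (n : ℕ) :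
    ∃ (W : Over S) (M : (PicF.XT f W).Modules), (IsProper W.hom ∧ Flat W.hom ∧ LocallyOfFinitePresentation W.hom ∧
      GeometricallyConnected W.hom) ∧ PicF.IsInvertible M ∧ (∀ w, deg f W M w = 0) ∧
      ∀ (T : Over S) (c : IsoCls (PicF.XT f T)) (x y : Fin n → (T ⟶ Over.mk f)),
        c * ∏ i, pc (x i) = ∏ i, pc (y i) → ∃ w : T ⟶ W, pull (PicF.XTmap f w) (cl M) = c := by
  induction n with
  | zero =>
    refine ⟨Over.mk (𝟙 S), Coh.structureModule _, ⟨inferInstanceAs (IsProper (𝟙 S)), inferInstanceAs (Flat (𝟙 S)),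
      inferInstanceAs (LocallyOfFinitePresentation (𝟙 S)), ?_⟩, CurvLib.isInvertible_structureModule,
      deg_structure (Over.mk (𝟙 S)), fun T c x y h => ⟨Over.homMk T.hom (Category.comp_id _), ?_⟩⟩
    · haveI : IsIso (Over.mk (𝟙 S)).hom := inferInstanceAs (IsIso (𝟙 S))
      exact ⟨fun K _ g Z a b H => by
        haveI : IsIso b := H.isIso_snd_of_isIso
        exact (Scheme.homeoOfIso (asIso b)).symm.surjective.connectedSpace (Scheme.homeoOfIso (asIso b)).symm.continuous⟩
    · rw [Fin.prod_univ_zero, Fin.prod_univ_zero, mul_one] at h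
      rw [h]
      exact map_one (pull _)
  | succ n ih =>
    obtain ⟨W, M, ⟨hp, hfl, hlf, hgc⟩, hM, hM0, huniv⟩ := ih
    haveI := hp; haveI := hfl; haveI := hlf; haveI := hgc
    haveI := hf.smooth; haveI := hf.conn
    let A : Over S := Over.mk (PicF.XTproj f W ≫ W.hom)
    let B : Over S := Over.mk (PicF.XTproj f A ≫ A.hom)
    let bA : B ⟶ A := Over.homMk (PicF.XTproj f A) rfl
    let aW : A ⟶ W := Over.homMk (PicF.XTproj f W) rfl
    let x₀ : B ⟶ Over.mk f := bA ≫ (Over.homMk (pullback.fst f W.hom) pullback.condition : A ⟶ Over.mk f)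
    let y₀ : B ⟶ Over.mk f := Over.homMk (pullback.fst f A.hom) pullback.condition
    obtain ⟨d, ⟨N, hN, rfl⟩, hd⟩ := (invC_pc hf x₀).exists_inv
    obtain ⟨I, hI, hIy⟩ := invC_pc hf y₀
    let M₀ := (Scheme.Modules.pullback (PicF.XTmap f (bA ≫ aW))).obj M
    have hM₀ : PicF.IsInvertible M₀ := AmpleDevLib.isInvertible_pb _ hM
    refine ⟨B, CohB1.tensorMod M₀ (CohB1.tensorMod N I), ⟨?_, ?_, ?_, ?_⟩,
      HilbPolyLib.isInvertible_tensor hM₀ (HilbPolyLib.isInvertible_tensor hN hI), fun w => ?_, fun T c x y h => ?_⟩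
    · exact inferInstanceAs (IsProper (pullback.snd f A.hom ≫ pullback.snd f W.hom ≫ W.hom))
    · exact inferInstanceAs (Flat (pullback.snd f A.hom ≫ pullback.snd f W.hom ≫ W.hom))
    · exact inferInstanceAs (LocallyOfFinitePresentation (pullback.snd f A.hom ≫ pullback.snd f W.hom ≫ W.hom))
    · haveI hAc : GeometricallyConnected A.hom :=
        GeometricallyConnected.comp (pullback.snd f W.hom) W.hom
      haveI : Flat A.hom := inferInstanceAs (Flat (pullback.snd f W.hom ≫ W.hom))
      haveI : LocallyOfFinitePresentation A.hom :=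
        inferInstanceAs (LocallyOfFinitePresentation (pullback.snd f W.hom ≫ W.hom))
      exact GeometricallyConnected.comp (pullback.snd f A.hom) A.hom
    · exact deg_step hf (bA ≫ aW) hM hM0 x₀ y₀ hN hd hI hIy w
    · rw [Fin.prod_univ_succ, Fin.prod_univ_succ] at h
      obtain ⟨e, -, he⟩ := (invC_pc hf (y 0)).exists_inv
      obtain ⟨w₀, hw₀⟩ := huniv T (c * pc (x 0) * e) (fun i => x i.succ) (fun i => y i.succ) (cancel_pair h he)
      let a : T.left ⟶ pullback f W.hom := pullback.lift (x 0).left w₀.left ((Over.w (x 0)).trans (Over.w w₀).symm)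
      have haw : a ≫ A.hom = T.hom := by
        show a ≫ pullback.snd f W.hom ≫ W.hom = _
        rw [← Category.assoc, pullback.lift_snd, Over.w w₀]
      let b : T.left ⟶ pullback f A.hom := pullback.lift (y 0).left a ((Over.w (y 0)).trans haw.symm)
      let w : T ⟶ B := Over.homMk b (by
        show b ≫ pullback.snd f A.hom ≫ A.hom = _
        rw [← Category.assoc, pullback.lift_snd, haw])
      have hy : w ≫ y₀ = y 0 := Over.OverMorphism.ext (pullback.lift_fst _ _ _)
      have hx : w ≫ x₀ = x 0 := Over.OverMorphism.ext (by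
        show b ≫ pullback.snd f A.hom ≫ pullback.fst f W.hom = _
        rw [← Category.assoc, pullback.lift_snd, pullback.lift_fst])
      have hw : w ≫ bA ≫ aW = w₀ := Over.OverMorphism.ext (by
        show b ≫ pullback.snd f A.hom ≫ pullback.snd f W.hom = _
        rw [← Category.assoc, pullback.lift_snd, pullback.lift_snd])
      exact ⟨w, pull_step hf (bA ≫ aW) M x₀ y₀ hd hIy w hw hx hy hw₀ he⟩

/-- On a curve over an algebraically closed field a class of degree zero is a difference of `n ≥ g` pairs of points. -/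
theorem exists_points_of_deg_zero {Ω : Type u} [Field Ω] [IsAlgClosed Ω] (q : Spec (CommRingCat.of Ω) ⟶ S)
    {L : (PicF.XT f (Over.mk q)).Modules} (hL : PicF.IsInvertible L)
    (h0 : ∀ t, deg f (Over.mk q) L t = 0) (n : ℕ)
    (hn : CohIII.fiberRank f (Coh.structureModule C) 1 (q (IsLocalRing.closedPoint Ω)) ≤ n) :
    ∃ x y : Fin n → (Over.mk q ⟶ Over.mk f), cl L * ∏ i, pc (x i) = ∏ i, pc (y i) := by
  let T : Over S := Over.mk q
  let Z := PicF.XT f T
  letI : Z.Over (Spec (CommRingCat.of Ω)) := ⟨pullback.snd f q⟩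
  have hZ : Fam (Z ↘ Spec (CommRingCat.of Ω)) := fam_snd hf q
  haveI := hZ.proper; haveI := hZ.smooth; haveI := hZ.conn
  haveI := isIntegral_total hZ
  haveI : ConnectedSpace ↥Z := inferInstance
  have hdim := dim_total hZ
  have hpt : ∀ (x : Spec (CommRingCat.of Ω) ⟶ Z) (hx : x ≫ (Z ↘ Spec (CommRingCat.of Ω)) = 𝟙 _),
      ∃ u : T ⟶ Over.mk f, idCls x.ker = pc u := fun x hx => by
    have hw : (x ≫ pullback.fst f q) ≫ f = q := by
      rw [Category.assoc, pullback.condition, ← Category.assoc]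
      exact (congrArg (· ≫ q) hx).trans (Category.id_comp q)
    refine ⟨Over.homMk (x ≫ pullback.fst f q) hw, ?_⟩
    have : x = HilbPts.SC.secF f (g := q) (x ≫ pullback.fst f q) hw :=
      pullback.hom_ext (HilbPts.SC.secF_fst f (g := q) (x ≫ pullback.fst f q) hw).symm (hx.trans (HilbPts.SC.secF_snd f (g := q) (x ≫ pullback.fst f q) hw).symm)
    exact congrArg (fun z : Spec (CommRingCat.of Ω) ⟶ Z => idCls z.ker) this
  have step : ∀ (m : ℕ) (N : Z.Modules), PicF.IsInvertible N → Curv2.deg Ω Z N 1 = m →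
      1 ≤ Module.finrank Ω (Coh.HH Z N 0) → ∃ x : Fin m → (T ⟶ Over.mk f), cl N * ∏ i, pc (x i) = 1 := by
    intro m
    induction m with
    | zero =>
      intro N hN hd h0
      haveI := CurvLib.isNoetherian Ω (X := Z)
      have hnt : Nontrivial (Coh.HH Z N 0) := Module.nontrivial_of_finrank_pos (R := Ω) (by omega)
      obtain ⟨τ, hτ⟩ := CurvLib.exists_hom_ne_zero hnt
      haveI : IsIso τ := CurvLib.isIso_of_euler_le (k := Ω) CurvLib.isInvertible_structureModule hN hdim hτ (by
        simp only [Curv2.deg] at hd; omega)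
      exact ⟨Fin.elim0, by rw [Fin.prod_univ_zero, mul_one, CubeConsLib.cl_eq_one_iff.2 ⟨(asIso τ).symm⟩]⟩
    | succ m ih =>
      intro N hN hd h0
      obtain ⟨x, hx, N', hN', hd', h0', hcl⟩ :=
        AlgEquivCurveLib.exists_step hdim hN (by push_cast at hd; exact hd) h0
      obtain ⟨u, hu⟩ := hpt x hx
      obtain ⟨xs, hxs⟩ := ih N' hN' hd' h0'
      refine ⟨Fin.cons u xs, ?_⟩
      rw [Fin.prod_univ_succ]
      simp only [Fin.cons_zero, Fin.cons_succ]
      rw [← mul_assoc, ← hu]
      exact (congrArg (· * _) hcl.symm).trans hxs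
  obtain ⟨o, ho⟩ := GenusZeroLib.exists_rational_point_of_smooth (Z ↘ Spec (CommRingCat.of Ω))
  obtain ⟨u₀, -⟩ := hpt o ho
  obtain ⟨d, ⟨D, hD, rfl⟩, hd⟩ := (invC_pc hf u₀).exists_inv
  have hdD : ∀ t, deg f T D t = 1 := deg_inv_pc hf u₀ hD (by rw [mul_comm]; exact hd)
  have hex : ∀ m : ℕ, ∃ N : Z.Modules, PicF.IsInvertible N ∧ cl N = cl L * cl D ^ m ∧
      ∀ t, deg f T N t = m := by
    intro m
    induction m with
    | zero => exact ⟨L, hL, by rw [pow_zero, mul_one], fun t => by rw [h0 t]; rfl⟩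
    | succ m ih =>
      obtain ⟨N, hN, hNc, hNd⟩ := ih
      refine ⟨CohB1.tensorMod N D, HilbPolyLib.isInvertible_tensor hN hD, ?_, fun t => ?_⟩
      · rw [cl_tensor, hNc, pow_succ, mul_assoc]
      · rw [deg_tensor hf T hN hD, hNd, hdD]
        push_cast; ring
  obtain ⟨N, hN, hNc, hNd⟩ := hex n
  let z : T.left := IsLocalRing.closedPoint Ω
  have H1 : IsPullback (𝟙 Z) (Z ↘ Spec (CommRingCat.of Ω)) (PicF.XTproj f T) (𝟙 T.left) :=
    haveI : IsIso (𝟙 T.left) := inferInstanceAs (IsIso (𝟙 (Spec (CommRingCat.of Ω))))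
    IsPullback.of_horiz_isIso ⟨(Category.id_comp (pullback.snd f q)).trans (Category.comp_id (pullback.snd f q)).symm⟩
  have hdeg : Curv2.deg Ω Z N 1 = n := by
    have h := deg_point f (fun s => (hf.dim s).le) T hN H1 z
    rw [chi_of_cl (show cl ((Scheme.Modules.pullback (𝟙 Z)).obj N) = cl N from DescAppLib.pull_id (cl N)),
      chi_eq_euler hZ, chi_eq_euler hZ] at h
    show Curv2.euler Ω Z N - ((1 : ℕ) : ℤ) * Curv2.euler Ω Z (Coh.structureModule Z) = _
    rw [Nat.cast_one, one_mul, h]
    exact hNd _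
  have hg : (Module.finrank Ω (Coh.HH Z (Coh.structureModule Z) 1) : ℤ) ≤ n := by
    have h2 := fiberRank_bc (IsPullback.of_hasPullback f q) CurvLib.isInvertible_structureModule z 1
    rw [show CohIII.fiberRank (pullback.snd f q)
        (KFlatLib.pb (pullback.fst f q) (Coh.structureModule C)) 1 z =
        Module.finrank Ω (Coh.HH Z (Coh.structureModule Z) 1) from
      (fiberRank_congr (KFlatLib.pullUnitIso (pullback.fst f q)) z 1).trans
        (fiberRank_spec_mod (pullback.snd f q) CurvLib.isInvertible_structureModule 1 z)] at h2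
    rw [h2]
    exact_mod_cast hn
  obtain ⟨x, hx⟩ := step n N hN hdeg (by
    have h1 := chi_eq_euler hZ N
    have h2 := chi_eq_euler hZ (Coh.structureModule Z)
    rw [chi_eq] at h1 h2
    rw [h0_structure hZ] at h2
    simp only [Curv2.deg, Nat.cast_one, one_mul] at hdeg
    omega)
  refine ⟨x, fun _ => u₀, ?_⟩
  rw [Fin.prod_const]
  rw [hNc] at hx
  calc cl L * ∏ i, pc (x i) = cl L * (pc u₀ * cl D) ^ n * ∏ i, pc (x i) := by rw [hd, one_pow, mul_one]
    _ = pc u₀ ^ n * (cl L * cl D ^ n * ∏ i, pc (x i)) := by rw [mul_pow]; ac_rfl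
    _ = pc u₀ ^ n := by rw [hx, mul_one]

end PicCurveLib

end
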