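import Groth.Agent.CurveBCLib.Twist
import Groth.Agent.S1518
import Groth.Agent.SecantLib.Main

/-!
# Lowering `h⁰` by one with a point among sufficiently many rational ones
-/

set_option autoImplicit false
set_option linter.style.haveILetI false
set_option maxHeartbeats 1000000
universe u

open CategoryTheory CategoryTheory.Limits AlgebraicGeometry TopologicalSpace Opposite
open AmpleLib (GenAt GenOn res shT)
open KFlatLib (pb puSec tens)

noncomputable section

namespace PicCurveLib

variable {X : Scheme.{u}}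

/-- A generator upstairs maps to a generator where the map is surjective on stalks. -/
theorem genAt_app {L M : X.Modules} (hM : PicF.IsInvertible M) (q : L ⟶ M) {W : X.Opens} (t : Γ(L, W)) {y : X}
    (hy : y ∈ W) (hz : Function.Surjective ((DevissLib.St y).map q).hom) (h : GenAt L t hy) :
    GenAt M (q.app W t) hy := by
  obtain ⟨U, e, hyU, he⟩ := TwistLib.exists_genOn hM y
  have hg := he.genAt hyU
  obtain ⟨a, ha⟩ := hg.2 (M.presheaf.germ W y hy (q.app W t))
  obtain ⟨z, hzz⟩ := hz (M.presheaf.germ U y hyU e)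
  obtain ⟨b, hb⟩ := h.2 z
  dsimp only at ha hb
  have key : b • M.presheaf.germ W y hy (q.app W t) = M.presheaf.germ U y hyU e := by
    rw [← hzz, ← hb]
    refine Eq.trans ?_ (((DevissLib.St y).map q).hom.map_smul b _).symm
    exact congrArg (b • ·) (DerSch.stalkFunctor_map_germ y q W hy t).symm
  have hab : a * b = 1 := hg.1 (by
    dsimp only
    rw [one_smul, mul_comm, mul_smul, ha, key])
  unfold GenAt
  rw [show (fun c : X.presheaf.stalk y => c • M.presheaf.germ W y hy (q.app W t)) =
    (fun c : X.presheaf.stalk y => c • M.presheaf.germ U y hyU e) ∘ (IsUnit.of_mul_eq_one b hab).unit.mulRight from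
    _root_.funext fun c => (congrArg (c • ·) ha.symm).trans (mul_smul c a _).symm]
  exact hg.comp (IsUnit.of_mul_eq_one b hab).unit.mulRight.bijective

variable {k : Type u} [Field k] [X.Over (Spec (CommRingCat.of k))]
  [IsProper (X ↘ Spec (CommRingCat.of k))] [IsIntegral X] (hdim : topologicalKrullDim X = 1)
include hdim

/-- A nonzero space of sections without generators at `n` rational points has degree at least `n`. -/
theorem card_le_deg (s : Finset X)
    (hs : ∀ y ∈ s, IsClosed ({y} : Set X) ∧ IsDiscreteValuationRing (X.presheaf.stalk y) ∧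
      (letI : Algebra k (X.residueField y) := Curv2.resAlgebra k X y; Module.finrank k (X.residueField y) = 1)) :
    ∀ (M : X.Modules), PicF.IsInvertible M → 0 < Module.finrank k (Coh.HH X M 0) →
      (∀ y ∈ s, ∀ σ : Γ(M, ⊤), ¬ GenAt M σ (show y ∈ (⊤ : X.Opens) from trivial)) →
      (s.card : ℤ) ≤ Curv2.deg k X M 1 := by
  classical
  induction s using Finset.induction with
  | empty =>
    intro M hM h0 _
    haveI : Nontrivial (Coh.HH X M 0) := Module.nontrivial_of_finrank_pos (R := k) h0
    obtain ⟨σ, hσ⟩ := CurvLib.exists_hom_ne_zero (L := M) inferInstance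
    simpa using Groth.Agent.S1518.result k X hdim M hM σ hσ
  | @insert x s hx ih =>
    intro M hM h0 hb
    obtain ⟨hxc, hxd, hr⟩ := hs x (Finset.mem_insert_self x s)
    haveI := hxd
    obtain ⟨L, q, hL, hq, hd, hrange⟩ := GenusZeroLib.exists_twist_down (k := k) hdim hxc hM
    rw [hr] at hd
    haveI : Mono q := CurvLib.mono_of_ne_zero hL hM hq
    letI := GenusZeroLib.kmod k L
    letI := GenusZeroLib.kmod k M
    let φ : Γ(L, ⊤) →ₗ[k] Γ(M, ⊤) :=
      { toFun := fun t => q.app ⊤ t
        map_add' := fun a c => map_add (q.app ⊤).hom a c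
        map_smul' := fun c t => Scheme.Modules.Hom.app_smul q (GenusZeroLib.ρ k (X := X) c) t }
    have hφ : Function.Bijective φ := ⟨QCohLib.app_injective_of_mono q ⊤,
      fun σ => (hrange ⊤ σ).mpr fun _ => hb x (Finset.mem_insert_self x s) σ⟩
    have e : Module.finrank k (Coh.HH X L 0) = Module.finrank k (Coh.HH X M 0) := by
      rw [(GenusZeroLib.e0k k L).finrank_eq, (GenusZeroLib.e0k k M).finrank_eq]
      exact (LinearEquiv.ofBijective φ hφ).finrank_eq
    have key := ih (fun y hy => hs y (Finset.mem_insert_of_mem hy)) L hL (by omega) fun y hy t ht => by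
      refine hb y (Finset.mem_insert_of_mem hy) (q.app ⊤ t) (genAt_app hM q t _ (fun z => ?_) ht)
      obtain ⟨W, hyW, w, rfl⟩ := DevissLib.exists_gm_eq M y z
      let W' : X.Opens := W ⊓ ⟨({x} : Set X)ᶜ, hxc.isOpen_compl⟩
      have hyW' : y ∈ W' := ⟨hyW, fun h => hx ((Set.mem_singleton_iff.mp h) ▸ hy)⟩
      obtain ⟨v, hv⟩ := (hrange W' (res M (inf_le_left : W' ≤ W) w)).mpr fun h => absurd rfl h.2
      refine ⟨DevissLib.gm L y hyW' v, ?_⟩
      rw [DevissLib.gm_app, hv]
      exact AmpleLib.germ_res M inf_le_left w _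
    rw [Finset.card_insert_of_notMem hx]
    push_cast at hd ⊢
    omega

omit hdim

section Base

variable {K : Type u} [Field K] [Algebra k K] {XK : Scheme.{u}} [XK.Over (Spec (CommRingCat.of K))] {g : XK ⟶ X}
  [Smooth (X ↘ Spec (CommRingCat.of k))]
  (hpb : IsPullback g (XK ↘ Spec (CommRingCat.of K)) (X ↘ Spec (CommRingCat.of k))
    (Spec.map (CommRingCat.ofHom (algebraMap k K))))
include hpb

open CurveBCLib in
/-- Twisting by the ideal of a rational point where some section generates. -/
theorem exists_step_at [IsIntegral XK] [IsProper (XK ↘ Spec (CommRingCat.of K))]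
    (hdim : topologicalKrullDim X = 1) (hdimK : topologicalKrullDim XK = 1) {L : XK.Modules} (hL : PicF.IsInvertible L)
    (h1 : Module.finrank K (Coh.HH XK L 1) = 0)
    (wX : Spec (CommRingCat.of k) ⟶ X) (hw' : wX ≫ (X ↘ Spec (CommRingCat.of k)) = 𝟙 _)
    (σ : Γ(CohB1.tensorMod L (pb g (Coh.structureModule X)), ⊤))
    (hgood : ∀ hy, GenAt (CohB1.tensorMod L (pb g (Coh.structureModule X))) σ
      (x := hpb.lift (Spec.map (CommRingCat.ofHom (algebraMap k K)) ≫ wX) (𝟙 _)
        (by rw [Category.assoc, hw', Category.comp_id, Category.id_comp]) (IsLocalRing.closedPoint K)) hy) :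
    ∃ N : X.Modules, PicF.IsInvertible N ∧
      Module.finrank K (Coh.HH XK (CohB1.tensorMod L (pb g N)) 0) + 1 = Module.finrank K (Coh.HH XK L 0) ∧
      Module.finrank K (Coh.HH XK (CohB1.tensorMod L (pb g N)) 1) = 0 := by
  let P : XK.Modules := pb g (Coh.structureModule X)
  let M := CohB1.tensorMod L P
  let e : M ≅ L := HilbPolyLib.congrRight L (KFlatLib.pullUnitIso g) ≪≫ KFlatLib.tensSwap (Coh.structureModule XK) L ≪≫ KFlatLib.tensUnitIso L
  have hM : PicF.IsInvertible M := HilbPolyLib.isInvertible_of_iso e.symm hL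
  have hM0 : Module.finrank K (Coh.HH XK M 0) = Module.finrank K (Coh.HH XK L 0) := (CurvLib.hIso (k := K) e 0).finrank_eq
  have hM1 : Module.finrank K (Coh.HH XK M 1) = 0 := ((CurvLib.hIso (k := K) e 1).finrank_eq).trans h1
  letI := GenusZeroLib.kmod K M
  let V := TwistLib.genSet hM σ
  let p := IsLocalRing.closedPoint k
  let x := wX p
  have hxc : IsClosed ({x} : Set X) := GenusZeroLib.isClosed_rational wX hw' p
  haveI := CurveVBLib.regular_stalk (k := k) x
  haveI := GenusZeroLib.isDiscreteValuationRing_stalk k hdim hxc (NormalLib.isIntegrallyClosed_of_isRegularLocalRing _)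
  have hr := GenusZeroLib.finrank_residueField_rational wX hw' p
  let wK : Spec (CommRingCat.of K) ⟶ XK := hpb.lift (Spec.map (CommRingCat.ofHom (algebraMap k K)) ≫ wX) (𝟙 _)
    (by rw [Category.assoc, hw', Category.comp_id, Category.id_comp])
  let y := wK (IsLocalRing.closedPoint K)
  have hgy : g y = x := by
    show (wK ≫ g) _ = _
    rw [show wK ≫ g = _ from hpb.lift_fst _ _ _]
    exact congrArg wX (Subsingleton.elim (α := PrimeSpectrum k) _ _)
  have hyV : y ∈ V := hgood trivial
  -- the ideal of the point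
  obtain ⟨N, q, hN, hq, hdeg, hrange⟩ := GenusZeroLib.exists_twist_down (k := k) hdim hxc
    (M := Coh.structureModule X) CurvLib.isInvertible_structureModule
  rw [hr] at hdeg
  have hd0 : Curv2.deg k X (Coh.structureModule X) 1 = 0 := by
    simp [Curv2.deg]
  obtain ⟨W, n, hxW, hn⟩ := TwistLib.exists_genOn hN x
  obtain ⟨c, hc⟩ := (AmpleLib.one_genOn (X := X) W W le_rfl).2 (q.app W n)
  have hc' : q.app W n = c • (1 : Γ(X, W)) := by
    rw [← hc]
    simp only [AmpleLib.res_refl]
    rfl
  have hcx : x ∉ X.basicOpen c := fun h => by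
    have := (hrange W (q.app W n)).1 ⟨n, rfl⟩ hxW
    rw [hc'] at this
    exact this ((AmpleLib.genAt_smul_iff c _ hxW ((AmpleLib.one_genOn (X := X) W).genAt hxW)).2 h)
  refine ⟨N, hN, ?_⟩
  let ψ : pb g N ⟶ P := (Scheme.Modules.pullback g).map q
  have hxWy : g y ∈ W := by rw [hgy]; exact hxW
  have hψ : ψ.app (g ⁻¹ᵁ W) (puSec g n) = g.app W c • puSec g (M := Coh.structureModule X) (1 : Γ(X, W)) := by
    rw [KFlatLib.puSec_natural, hc']
    exact KFlatLib.puSec_smul g c _
  have ho : GenAt P (puSec g (M := Coh.structureModule X) (1 : Γ(X, W))) (show y ∈ g ⁻¹ᵁ W from hxWy) :=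
    TwistLib.GenAt.puSec g ((AmpleLib.one_genOn (X := X) W).genAt hxWy)
  have hnK : GenOn (pb g N) (puSec g n) :=
    TwistLib.genOn_of_genAt fun z hz => TwistLib.GenAt.puSec g (hn.genAt hz)
  have hcy : y ∉ XK.basicOpen (g.app W c) := fun h => by
    rw [← Scheme.preimage_basicOpen] at h
    exact hcx (hgy ▸ h)
  have hbad := not_genAt_whisker L hL ψ hxWy hnK ho hcy hψ
  let φ : CohB1.tensorMod L (pb g N) ⟶ M := ((DCoh.tensorBi (X := XK)).obj L).map ψ
  have hN' : PicF.IsInvertible (pb g N) := AmpleDevLib.isInvertible_pb g hN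
  have hT : PicF.IsInvertible (CohB1.tensorMod L (pb g N)) := HilbPolyLib.isInvertible_tensor hL hN'
  -- nonvanishing
  have hφ : φ ≠ 0 := fun h0 => by
    -- `c ≠ 0`, so its pull-back is nonzero
    have hq' : Mono q := CurvLib.mono_of_ne_zero hN CurvLib.isInvertible_structureModule hq
    have hc0 : c ≠ 0 := fun h => by
      have hn0 : n = 0 := QCohLib.app_injective_of_mono q W (by rw [hc', h, zero_smul, map_zero]; rfl)
      exact genAt_ne_zero (hn.genAt hxW) hn0
    haveI : Surjective g := MorphismProperty.of_isPullback hpb.flip inferInstance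
    have hgc : XK.basicOpen (g.app W c) ≠ ⊥ := fun h => by
      obtain ⟨z, hz⟩ : (X.basicOpen c : Set X).Nonempty :=
        (Opens.ne_bot_iff_nonempty _).1 fun h' => hc0 ((basicOpen_eq_bot_iff c).1 h')
      obtain ⟨z', rfl⟩ := g.surjective z
      rw [← Scheme.preimage_basicOpen] at h
      exact (h ▸ (show z' ∈ g ⁻¹ᵁ X.basicOpen c from hz) : z' ∈ (⊥ : XK.Opens))
    obtain ⟨U, e₁, hyU, he₁⟩ := TwistLib.exists_genOn hL (genericPoint XK)
    have hζ : genericPoint XK ∈ g ⁻¹ᵁ W :=
      ((genericPoint_spec XK).mem_open_set_iff (g ⁻¹ᵁ W).2).2 ⟨y, trivial, hxWy⟩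
    have hζ' : genericPoint XK ∈ XK.basicOpen (g.app W c) :=
      ((genericPoint_spec XK).mem_open_set_iff (XK.basicOpen (g.app W c)).2).2
        ⟨_, trivial, ((Opens.ne_bot_iff_nonempty _).1 hgc).some_mem⟩
    have hU' : genericPoint XK ∈ U ⊓ g ⁻¹ᵁ W := ⟨hyU, hζ⟩
    have hgen : GenAt M (shT (res L inf_le_left e₁)
        (res P inf_le_right (puSec g (M := Coh.structureModule X) (1 : Γ(X, W))))) hU' :=
      ((he₁.res inf_le_left).genAt hU').tensor ((AmpleLib.genAt_res _ _ hU').2
        (TwistLib.GenAt.puSec g ((AmpleLib.one_genOn (X := X) W).genAt hζ)))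
    let c' : Γ(XK, U ⊓ g ⁻¹ᵁ W) := XK.presheaf.map (homOfLE (inf_le_right : U ⊓ g ⁻¹ᵁ W ≤ _)).op (g.app W c)
    have h1' : φ.app (U ⊓ g ⁻¹ᵁ W) (shT (res L inf_le_left e₁) (res (pb g N) inf_le_right (puSec g n))) =
        c' • shT (res L inf_le_left e₁) (res P inf_le_right (puSec g (M := Coh.structureModule X) (1 : Γ(X, W)))) := by
      refine (KFlatLib.tensorBi_map₂_shTm L ψ _ _).trans ?_
      rw [← shT_smul, ← AmpleLib.res_smul, ← hψ]
      exact congrArg (shT (res L inf_le_left e₁))
        (PresheafOfModules.naturality_apply ψ.val (homOfLE (inf_le_right : U ⊓ g ⁻¹ᵁ W ≤ _)).op (puSec g n))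
    have hu : genericPoint XK ∈ XK.basicOpen c' := by
      rw [Scheme.basicOpen_res]; exact ⟨hU', hζ'⟩
    have h2 := (AmpleLib.genAt_smul_iff c' _ hU' hgen).2 hu
    rw [← h1', h0] at h2
    exact genAt_ne_zero h2 rfl
  have hd : Curv2.deg K XK (CohB1.tensorMod L (pb g N)) 1 = Curv2.deg K XK L 1 - 1 := by
    rw [GenusZeroLib.deg_tensor K hdimK hL hN', deg_sq hpb hN, hdeg, hd0]
    push_cast; ring
  haveI : Mono φ := CurvLib.mono_of_ne_zero hT hM hφ
  letI := GenusZeroLib.kmod K (CohB1.tensorMod L (pb g N))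
  haveI := CurvLib.finite_HH (k := K) (CurvLib.isCoh_of_isInvertible hM) 0
  haveI : Module.Finite K Γ(M, ⊤) := Module.Finite.equiv (GenusZeroLib.e0k K M)
  let f : Γ(CohB1.tensorMod L (pb g N), ⊤) →ₗ[K] Γ(M, ⊤) :=
    { toFun := fun t => φ.app ⊤ t
      map_add' := fun a b => map_add (φ.app ⊤).hom a b
      map_smul' := fun a t => Scheme.Modules.Hom.app_smul φ (GenusZeroLib.ρ K (X := XK) a) t }
  have hf : Function.Injective f := QCohLib.app_injective_of_mono φ ⊤
  have hlt : Module.finrank K (Coh.HH XK (CohB1.tensorMod L (pb g N)) 0) < Module.finrank K (Coh.HH XK M 0) := by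
    rw [(GenusZeroLib.e0k K _).finrank_eq, (GenusZeroLib.e0k K M).finrank_eq, ← LinearMap.finrank_range_of_inj hf]
    refine Submodule.finrank_lt fun htop => ?_
    obtain ⟨t, ht⟩ := LinearMap.range_eq_top.mp htop σ
    have h : GenAt M (φ.app ⊤ t) (show y ∈ (⊤ : XK.Opens) from trivial) :=
      (show φ.app ⊤ t = σ from ht) ▸ (show GenAt M σ (show y ∈ (⊤ : XK.Opens) from trivial) from hyV)
    exact hbad t h
  have e1 := CurvLib.euler_curve (k := K) hdimK L
  have e2 := CurvLib.euler_curve (k := K) hdimK (CohB1.tensorMod L (pb g N))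
  simp only [Curv2.deg] at hd
  push_cast at hd
  constructor <;> omega

end Base

section Twist

variable [Smooth (X ↘ Spec (CommRingCat.of k))] [GeometricallyConnected (X ↘ Spec (CommRingCat.of k))]
include hdim

/-- Bundles of degree above `2g - 2` are nonspecial. -/
theorem h1_eq_zero_of_deg {L : X.Modules} (hL : PicF.IsInvertible L)
    (hd : 2 * (Curv2.genus k X : ℤ) - 2 < Curv2.deg k X L 1) : Module.finrank k (Coh.HH X L 1) = 0 := by
  let Ω := Omega.sheaf (X ↘ Spec (CommRingCat.of k))
  have hΩ : PicF.IsInvertible Ω := CurveDualLib.omega_invertible_field k X hdim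
  obtain ⟨eL⟩ := MiscFlat6.nonempty_dualIso hL
  let M := CohB1.tensorMod (MiscFlat6.dual L) Ω
  have hM : PicF.IsInvertible M := HilbPolyLib.isInvertible_tensor (MiscFlat6.dual_isInvertible hL) hΩ
  rw [CurveDualLib.h1_eq_h0 k X hdim hL hM
    ((HilbPolyLib.assocIso L (MiscFlat6.dual L) Ω).symm ≪≫ HilbPolyLib.congrLeft eL Ω ≪≫ HilbPolyLib.unitLeft Ω)]
  by_contra hne
  haveI := CurvLib.finite_HH (k := k) (CurvLib.isCoh_of_isInvertible hM) 0
  haveI : Nontrivial (Coh.HH X M 0) := Module.nontrivial_of_finrank_pos (R := k) (Nat.pos_of_ne_zero hne)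
  obtain ⟨s, hs⟩ := CurvLib.exists_hom_ne_zero (L := M) inferInstance
  have h := Groth.Agent.S1518.result k X hdim M hM s hs
  rw [GenusZeroLib.deg_tensor k hdim (MiscFlat6.dual_isInvertible hL) hΩ, SecantLib.deg_dual (k := k) hdim hL,
    CurveDualLib.deg_omega k X hdim] at h
  omega

/-- With a rational point every degree occurs. -/
theorem exists_deg (σ : Spec (CommRingCat.of k) ⟶ X) (hσ : σ ≫ (X ↘ Spec (CommRingCat.of k)) = 𝟙 _) (d : ℤ) :
    ∃ A : X.Modules, PicF.IsInvertible A ∧ Curv2.deg k X A 1 = d := by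
  let x := σ (IsLocalRing.closedPoint k)
  have hx : IsClosed ({x} : Set X) := GenusZeroLib.isClosed_rational σ hσ _
  haveI := CurveVBLib.regular_stalk (k := k) x
  haveI := GenusZeroLib.isDiscreteValuationRing_stalk k hdim hx (NormalLib.isIntegrallyClosed_of_isRegularLocalRing _)
  obtain ⟨I, -, hI, hId⟩ := GenusZeroLib.exists_idealMod_iso (k := k) hx hdim
  rw [GenusZeroLib.finrank_residueField_rational σ hσ] at hId
  push_cast at hId
  have hpow : ∀ (B : X.Modules), PicF.IsInvertible B → ∀ n : ℕ,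
      Curv2.deg k X (CohB1.tensorPow B n) 1 = n * Curv2.deg k X B 1 := fun B hB n => by
    have h := SerreVanLib.deg_pow (k := k) hdim hB n
    have h1 := CurvLib.euler_curve (k := k) hdim (CohB1.tensorPow B n)
    have h0 := CurvLib.euler_curve (k := k) hdim (Coh.structureModule X)
    simp only [Curv2.deg] at h h1 h0 ⊢
    push_cast at h h1 h0 ⊢
    linarith
  rcases d.eq_nat_or_neg with ⟨n, rfl | rfl⟩
  · refine ⟨_, AmpleThLib.tensorPow_isInvertible (MiscFlat6.dual_isInvertible hI) n, ?_⟩
    rw [hpow _ (MiscFlat6.dual_isInvertible hI), SecantLib.deg_dual (k := k) hdim hI, hId]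
    ring
  · refine ⟨_, AmpleThLib.tensorPow_isInvertible hI n, ?_⟩
    rw [hpow _ hI, hId]
    ring

omit hdim

variable {K : Type u} [Field K] [Algebra k K] {XK : Scheme.{u}} [XK.Over (Spec (CommRingCat.of K))] {g : XK ⟶ X}
  (hpb : IsPullback g (XK ↘ Spec (CommRingCat.of K)) (X ↘ Spec (CommRingCat.of k))
    (Spec.map (CommRingCat.ofHom (algebraMap k K))))
include hpb

/-- With more than `2g` rational points every class has a twist with `h⁰ = 1` and `h¹ = 0`. -/
theorem exists_twist_of_points (hdim : topologicalKrullDim X = 1) {ι : Type} [Fintype ι]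
    (w : ι → (Spec (CommRingCat.of k) ⟶ X)) (hw : ∀ i, w i ≫ (X ↘ Spec (CommRingCat.of k)) = 𝟙 _)
    (hinj : Function.Injective fun i => w i (IsLocalRing.closedPoint k))
    (hn : 2 * Curv2.genus k X < Fintype.card ι) {L : XK.Modules} (hL : PicF.IsInvertible L) :
    ∃ L₀ : X.Modules, PicF.IsInvertible L₀ ∧
      Module.finrank K (Coh.HH XK (CohB1.tensorMod L (pb g L₀)) 0) = 1 ∧
      Module.finrank K (Coh.HH XK (CohB1.tensorMod L (pb g L₀)) 1) = 0 := by
  classical
  haveI := FibVALib.geometricallyIntegral_of_geometricallyConnected (X ↘ Spec (CommRingCat.of k))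
  haveI : IsProper (XK ↘ Spec (CommRingCat.of K)) := MorphismProperty.of_isPullback hpb inferInstance
  haveI : Smooth (XK ↘ Spec (CommRingCat.of K)) := MorphismProperty.of_isPullback hpb inferInstance
  haveI : GeometricallyConnected (XK ↘ Spec (CommRingCat.of K)) := MorphismProperty.of_isPullback hpb inferInstance
  haveI : IsAffineHom g := MorphismProperty.of_isPullback hpb.flip inferInstance
  haveI := CurveBCLib.isIntegral_sq hpb
  haveI := FibVALib.geometricallyIntegral_of_geometricallyConnected (XK ↘ Spec (CommRingCat.of K))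
  have hdimK : topologicalKrullDim XK = 1 := (CurveBCLib.dim_sq hpb).trans hdim
  have hgen : Curv2.genus K XK = Curv2.genus k X := by
    have h := CurveBCLib.finrank_HH_sq hpb (F := Coh.structureModule X) QCohLib.isQCoh_unit 1
    rw [(CurvLib.hIso (k := K) (KFlatLib.pullUnitIso g) 1).finrank_eq] at h
    exact h
  have hch : ∀ (B : XK.Modules), (Module.finrank K (Coh.HH XK B 0) : ℤ) - Module.finrank K (Coh.HH XK B 1) =
      Curv2.deg K XK B 1 + 1 - Curv2.genus K XK := fun B => by
    have h0 := FibVALib.finrank_h0_structure K XK hdimK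
    have h := CurvLib.deg_curve (k := K) hdimK B h0
    omega
  let y : ι → XK := fun i => hpb.lift (Spec.map (CommRingCat.ofHom (algebraMap k K)) ≫ w i) (𝟙 _)
    (by rw [Category.assoc, hw i, Category.comp_id, Category.id_comp]) (IsLocalRing.closedPoint K)
  have hgy : ∀ i, g (y i) = w i (IsLocalRing.closedPoint k) := fun i => by
    show (hpb.lift _ _ _ ≫ g) _ = _
    rw [hpb.lift_fst]
    exact congrArg (w i) (Subsingleton.elim (α := PrimeSpectrum k) _ _)
  have hyinj : Function.Injective y := fun i j h => hinj (by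
    show w i _ = w j _
    rw [← hgy i, ← hgy j, h])
  have hdata : ∀ z ∈ Finset.univ.image y, IsClosed ({z} : Set XK) ∧ IsDiscreteValuationRing (XK.presheaf.stalk z) ∧
      (letI : Algebra K (XK.residueField z) := Curv2.resAlgebra K XK z; Module.finrank K (XK.residueField z) = 1) := by
    intro z hz
    obtain ⟨i, -, rfl⟩ := Finset.mem_image.1 hz
    let v := hpb.lift (Spec.map (CommRingCat.ofHom (algebraMap k K)) ≫ w i) (𝟙 _)
      (by rw [Category.assoc, hw i, Category.comp_id, Category.id_comp])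
    have hv : v ≫ (XK ↘ Spec (CommRingCat.of K)) = 𝟙 _ := hpb.lift_snd _ _ _
    have hc : IsClosed ({y i} : Set XK) := GenusZeroLib.isClosed_rational v hv (IsLocalRing.closedPoint K)
    haveI := CurveVBLib.regular_stalk (k := K) (y i)
    exact ⟨hc, GenusZeroLib.isDiscreteValuationRing_stalk K hdimK hc (NormalLib.isIntegrallyClosed_of_isRegularLocalRing _),
      GenusZeroLib.finrank_residueField_rational v hv _⟩
  -- a first twist
  obtain ⟨x₀⟩ : Nonempty ι := Fintype.card_pos_iff.1 (by omega)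
  obtain ⟨A, hA, hAd⟩ := exists_deg (k := k) hdim (w x₀) (hw x₀)
    (2 * (Curv2.genus k X : ℤ) - Curv2.deg K XK L 1)
  have degA : ∀ B : X.Modules, PicF.IsInvertible B →
      Curv2.deg K XK (CohB1.tensorMod L (pb g B)) 1 = Curv2.deg K XK L 1 + Curv2.deg k X B 1 := fun B hB => by
    rw [GenusZeroLib.deg_tensor K hdimK hL (AmpleDevLib.isInvertible_pb g hB), CurveBCLib.deg_sq hpb hB]
  suffices H : ∀ (n : ℕ) (B : X.Modules), PicF.IsInvertible B →
      Module.finrank K (Coh.HH XK (CohB1.tensorMod L (pb g B)) 0) = n + 1 →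
      Module.finrank K (Coh.HH XK (CohB1.tensorMod L (pb g B)) 1) = 0 →
      Curv2.deg K XK (CohB1.tensorMod L (pb g B)) 1 ≤ 2 * (Curv2.genus k X : ℤ) →
      ∃ L₀ : X.Modules, PicF.IsInvertible L₀ ∧
        Module.finrank K (Coh.HH XK (CohB1.tensorMod L (pb g L₀)) 0) = 1 ∧
        Module.finrank K (Coh.HH XK (CohB1.tensorMod L (pb g L₀)) 1) = 0 by
    have h1 : Module.finrank K (Coh.HH XK (CohB1.tensorMod L (pb g A)) 1) = 0 :=
      h1_eq_zero_of_deg (k := K) hdimK (HilbPolyLib.isInvertible_tensor hL (AmpleDevLib.isInvertible_pb g hA))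
        (by rw [degA A hA, hAd, hgen]; omega)
    have h := hch (CohB1.tensorMod L (pb g A))
    rw [h1, degA A hA, hAd, hgen] at h
    exact H (Curv2.genus k X) A hA (by omega) h1 (by rw [degA A hA, hAd]; omega)
  intro n
  induction n with
  | zero => exact fun B hB h0 h1 _ => ⟨B, hB, h0, h1⟩
  | succ n ih =>
    intro B hB h0 h1 hle
    set M := CohB1.tensorMod L (pb g B) with hMdef
    have hM : PicF.IsInvertible M := HilbPolyLib.isInvertible_tensor hL (AmpleDevLib.isInvertible_pb g hB)
    let P := CohB1.tensorMod M (pb g (Coh.structureModule X))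
    let e : P ≅ M := HilbPolyLib.congrRight M (KFlatLib.pullUnitIso g) ≪≫ KFlatLib.tensSwap (Coh.structureModule XK) M ≪≫ KFlatLib.tensUnitIso M
    obtain ⟨i, σ, hσ⟩ : ∃ i, ∃ σ : Γ(P, ⊤), GenAt P σ (show y i ∈ (⊤ : XK.Opens) from trivial) := by
      by_contra hcon
      push_neg at hcon
      have h := card_le_deg (k := K) hdimK (Finset.univ.image y) hdata P
        (HilbPolyLib.isInvertible_of_iso e.symm hM) (by rw [(CurvLib.hIso (k := K) e 0).finrank_eq]; omega)
        (fun z hz t => by obtain ⟨i, -, rfl⟩ := Finset.mem_image.1 hz; exact hcon i t)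
      rw [Finset.card_image_of_injective _ hyinj, Finset.card_univ, CurvLib.deg_congr (k := K) e] at h
      omega
    obtain ⟨N, hN, hN0, hN1⟩ := exists_step_at hpb hdim hdimK hM h1 (w i) (hw i) σ fun _ => hσ
    let eN : CohB1.tensorMod M (pb g N) ≅ CohB1.tensorMod L (pb g (CohB1.tensorMod B N)) :=
      HilbPolyLib.assocIso L (pb g B) (pb g N) ≪≫ HilbPolyLib.congrRight L (asIso (KFlatLib.pullθ g B N)).symm
    rw [(CurvLib.hIso (k := K) eN 0).finrank_eq] at hN0
    rw [(CurvLib.hIso (k := K) eN 1).finrank_eq] at hN1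
    have hBN := HilbPolyLib.isInvertible_tensor hB hN
    refine ih _ hBN (by omega) hN1 ?_
    have e1 := hch (CohB1.tensorMod L (pb g (CohB1.tensorMod B N)))
    have e2 := hch M
    rw [hN1] at e1
    rw [h1] at e2
    omega

end Twist

end PicCurveLib
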