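import Groth.Agent.PicCurveLib.Fibre
import Groth.Agent.CurvOpenLib.Smooth
import Groth.Agent.FibDimLib.Comps

/-!
# Families of smooth curves are smooth of relative dimension one
-/

set_option autoImplicit false
set_option linter.style.haveILetI false
set_option linter.unusedSectionVars false
set_option backward.isDefEq.respectTransparency false
set_option backward.isDefEq.respectTransparency.types false

universe u

open CategoryTheory CategoryTheory.Limits AlgebraicGeometry TopologicalSpace

noncomputable section

namespace PicCurveLib

theorem Fam.smoothOfRelativeDimension {C S : Scheme.{u}} {f : C ⟶ S} (hf : Fam f) :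
    SmoothOfRelativeDimension 1 f := by
  refine (CurvOpenLib.smoothOfRelativeDimension_iff_forall 1 f).2 ⟨hf.smooth, fun x => ?_⟩
  haveI : IsIntegral (f.fiber (f.base x)) := hf.isIntegral_fibre _
  haveI := hf.proper
  haveI : LocallyOfFiniteType (f.fiberToSpecResidueField (f.base x)) :=
    MorphismProperty.pullback_snd f _ (inferInstance : LocallyOfFiniteType f)
  show FlatMor.localDim (f.fiber (f.base x)) (f.asFiber x) = _
  rw [FibDimLib.localDim_of_irreducible (k := S.residueField (f.base x)) (f.fiberToSpecResidueField (f.base x)), hf.dim]
  rfl

end PicCurveLib

end
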