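import Groth.Agent.PicCurveLib.DegInv
import Groth.Agent.PicCurveLib.RelDimOne
import Groth.Agent.HilbPtsLib.Smooth

/-!
# Degrees of the classes of points
-/

set_option autoImplicit false
set_option linter.style.haveILetI false
set_option linter.unusedSectionVars false
set_option backward.isDefEq.respectTransparency false
set_option backward.isDefEq.respectTransparency.types false
set_option maxRecDepth 8000
set_option maxHeartbeats 1000000

universe u

open CategoryTheory CategoryTheory.Limits AlgebraicGeometry TopologicalSpace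
open CubeConsLib (pull pull_comp pull_cl cl cl_eq_iff cl_tensor IsoCls)
open EllLawLib (idCls)

noncomputable section

namespace PicCurveLib

variable {C S : Scheme.{u}} {f : C ⟶ S}

/-- The class of the ideal of a point. -/
def pc {T : Over S} (u : T ⟶ Over.mk f) : IsoCls (PicF.XT f T) :=
  idCls (HilbPts.SC.secF f u.left (Over.w u)).ker

variable [IsProper f] [Flat f] [LocallyOfFinitePresentation f] (hf : Fam f)
include hf

theorem finLocFree_sec {T : Over S} (u : T ⟶ Over.mk f) :
    Mor2.IsFinLocFreeOfDeg 1 ((HilbPts.SC.secF f u.left (Over.w u)).ker.subschemeι ≫ pullback.snd f T.hom) :=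
  haveI := hf.smoothOfRelativeDimension
  HilbPts.SC.prop_secF f u.left (Over.w u)

theorem effCartier_sec {T : Over S} (u : T ⟶ Over.mk f) :
    BlowUp.IsEffCartierIdeal (HilbPts.SC.secF f u.left (Over.w u)).ker :=
  haveI := hf.smoothOfRelativeDimension
  effCartier_of_finLocFree (finLocFree_sec hf u).1

theorem invC_pc {T : Over S} (u : T ⟶ Over.mk f) : InvC (pc u) := invC_idCls (effCartier_sec hf u)

theorem pull_pc {T T' : Over S} (g : T' ⟶ T) (u : T ⟶ Over.mk f) :
    pull (PicF.XTmap f g) (pc u) = pc (g ≫ u) := by
  haveI := hf.smoothOfRelativeDimension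
  rw [HilbPts.xtMap_eq, pc, pc, pull_idCls_m (finLocFree_sec hf u).1 g.left (Over.w g),
    HilbPts.SC.comap_secF f u.left (Over.w u) g.left (Over.w g)]
  rfl

/-- Fibre degrees are additive. -/
theorem deg_tensor (T : Over S) {L M : (PicF.XT f T).Modules} (hL : PicF.IsInvertible L) (hM : PicF.IsInvertible M)
    (t : T.left) : deg f T (CohB1.tensorMod L M) t = deg f T L t + deg f T M t := by
  have hW : Fam ((FGA.fibreAt f T t).left ↘ Spec (CommRingCat.of (T.left.residueField t))) :=
    (fam_snd hf T.hom).of_isPullback (IsPullback.of_hasPullback (pullback.snd f T.hom) _)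
  have e : chi (T.left.residueField t) (FGA.restrFibre f T t (CohB1.tensorMod L M)) =
      chi (T.left.residueField t) (CohB1.tensorMod (FGA.restrFibre f T t L) (FGA.restrFibre f T t M)) :=
    chi_of_cl (K := T.left.residueField t) (by
      rw [cl_tensor]
      show pull _ (cl (CohB1.tensorMod L M)) = pull _ (cl L) * pull _ (cl M)
      rw [cl_tensor, map_mul])
  have h := chi_tensor (K := T.left.residueField t) hW (L := FGA.restrFibre f T t L) (M := FGA.restrFibre f T t M)
    (AmpleDevLib.isInvertible_pb _ hL) (AmpleDevLib.isInvertible_pb _ hM)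
  show chi (T.left.residueField t) _ - chi (T.left.residueField t) _ =
    (chi (T.left.residueField t) _ - chi (T.left.residueField t) _) +
      (chi (T.left.residueField t) _ - chi (T.left.residueField t) _)
  rw [e, h]
  ring

theorem deg_of_cl_mul (T : Over S) {L M N : (PicF.XT f T).Modules} (hL : PicF.IsInvertible L) (hM : PicF.IsInvertible M)
    (e : cl N = cl L * cl M) (t : T.left) : deg f T N t = deg f T L t + deg f T M t :=
  (deg_congr f (fun s => (hf.dim s).le) T (e.trans (cl_tensor L M).symm) t).trans (deg_tensor hf T hL hM t)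

omit hf in
theorem deg_structure (T : Over S) (t : T.left) : deg f T (Coh.structureModule _) t = 0 :=
  sub_eq_zero.2 (chi_of_cl (K := T.left.residueField t) (M := FGA.restrFibre f T t (Coh.structureModule _))
    (N := Coh.structureModule (FGA.fibreAt f T t).left) (map_one (pull _)))

/-- The inverse of the ideal of a point has degree one. -/
theorem deg_inv_pc {T : Over S} (u : T ⟶ Over.mk f) {L : (PicF.XT f T).Modules} (hL : PicF.IsInvertible L)
    (h : cl L * pc u = 1) (t : T.left) : deg f T L t = 1 := by
  haveI := hf.smoothOfRelativeDimension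
  haveI := smooth_snd (f := f) T.hom
  let K : Type u := T.left.residueField t
  let W := (FGA.fibreAt f T t).left
  let I := (HilbPts.SC.secF f u.left (Over.w u)).ker
  let pr : W ⟶ pullback f T.hom := pullback.fst (PicF.XTproj f T) (T.left.fromSpecResidueField t)
  have hW : Fam (W ↘ Spec (CommRingCat.of K)) :=
    (fam_snd hf T.hom).of_isPullback (IsPullback.of_hasPullback (pullback.snd f T.hom) _)
  haveI : SmoothOfRelativeDimension 1 (W ↘ Spec (CommRingCat.of K)) := smooth_snd (f := pullback.snd f T.hom) _
  have hd' : Mor2.IsFinLocFreeOfDeg 1 ((I.comap pr).subschemeι ≫ (W ↘ Spec (CommRingCat.of K))) :=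
    HilbPts.SC.finrank_fibre_eq (pullback.snd f T.hom) I (finLocFree_sec hf u) (T.left.fromSpecResidueField t)
  have hc : BlowUp.IsEffCartierIdeal (I.comap pr) :=
    (HilbPts.SC.effCartier_of_finLocFree (W ↘ Spec (CommRingCat.of K)) _ hd'.1).1
  have e : idCls (I.comap pr) * cl (FGA.restrFibre f T t L) = 1 := by
    rw [← EllLawLib.pull_idCls pr (effCartier_sec hf u) hc,
      show cl (FGA.restrFibre f T t L) = pull pr (cl L) from rfl, ← map_mul, mul_comm]
    exact (congrArg (pull pr) h).trans (map_one _)
  have h' := chi_divisor hW hc hd' (AmpleDevLib.isInvertible_pb pr hL) e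
  show chi K _ - chi K _ = 1
  rw [show chi K (FGA.restrFibre f T t L) = chi K (Coh.structureModule W) + ((1 : ℕ) : ℤ) from h']
  simp [W]

/-- The ideal of a point has degree minus one. -/
theorem deg_pc {T : Over S} (u : T ⟶ Over.mk f) {L : (PicF.XT f T).Modules} (hL : PicF.IsInvertible L)
    (h : cl L = pc u) (t : T.left) : deg f T L t = -1 := by
  obtain ⟨d, ⟨N, hN, rfl⟩, hd⟩ := (invC_pc hf u).exists_inv
  have h1 := deg_of_cl_mul hf T hL hN (N := Coh.structureModule _) (by rw [h, hd]; rfl) t
  rw [deg_structure, deg_inv_pc hf u hN (by rw [mul_comm]; exact hd) t] at h1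
  omega

end PicCurveLib

end
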