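import Groth.Agent.PicCurveLib.Good
import Groth.Agent.EllLawLib.Exists
import Groth.Agent.HilbPtsLib.SmoothCurve

/-!
# A good bundle on a family of curves is the bundle of a unique divisor, up to the base
-/

set_option autoImplicit false
set_option linter.style.haveILetI false
set_option linter.unusedSectionVars false
set_option maxRecDepth 8000
set_option synthInstance.maxHeartbeats 100000
set_option maxHeartbeats 1000000
universe u

open CategoryTheory CategoryTheory.Limits AlgebraicGeometry TopologicalSpace Opposite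

noncomputable section

namespace PicCurveLib

open CubeConsLib EllLawLib

variable {C S : Scheme.{u}} {f : C ⟶ S}

theorem Fam.fibre (hf : Fam f) (s : S) :
    IsProper (f.fiberToSpecResidueField s) ∧ Smooth (f.fiberToSpecResidueField s) ∧
      GeometricallyConnected (f.fiberToSpecResidueField s) :=
  ⟨MorphismProperty.pullback_snd f _ hf.proper, MorphismProperty.pullback_snd f _ hf.smooth,
    MorphismProperty.pullback_snd f _ hf.conn⟩

theorem Fam.isIntegral_fibre (hf : Fam f) (s : S) : IsIntegral (f.fiber s) := by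
  obtain ⟨h₁, h₂, h₃⟩ := hf.fibre s
  letI : (f.fiber s).Over (Spec (CommRingCat.of (S.residueField s))) := ⟨f.fiberToSpecResidueField s⟩
  haveI : IsProper ((f.fiber s) ↘ Spec (CommRingCat.of (S.residueField s))) := h₁
  haveI : Smooth ((f.fiber s) ↘ Spec (CommRingCat.of (S.residueField s))) := h₂
  haveI : GeometricallyConnected ((f.fiber s) ↘ Spec (CommRingCat.of (S.residueField s))) := h₃
  haveI := FibVALib.geometricallyIntegral_of_geometricallyConnected ((f.fiber s) ↘ Spec (CommRingCat.of (S.residueField s)))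
  exact GeometricallyIntegral.isIntegral_of_subsingleton ((f.fiber s) ↘ Spec (CommRingCat.of (S.residueField s)))

/-- A nonzero section of a module on an integral curve is injective. -/
theorem mono_fibre (hf : Fam f) (s : S) {M : (f.fiber s).Modules} (hM : PicF.IsInvertible M)
    (τ : Coh.structureModule (f.fiber s) ⟶ M) (hτ : τ ≠ 0) : Mono τ := by
  haveI := hf.isIntegral_fibre s
  exact CurvLib.mono_of_ne_zero CurvLib.isInvertible_structureModule hM hτ

/-- The direct image of a good bundle. -/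
theorem push_good (hf : Fam f) {L : C.Modules} (hL : PicF.IsInvertible L) (hg : Good f L) :
    PicF.IsInvertible ((Scheme.Modules.pushforward f).obj L) ∧
      ∀ s, IsIso (CohBC.bc0 f (S.fromSpecResidueField s) (f.fiberToSpecResidueField s) (f.fiberι s)
        (f.fiber_fac s) L) := by
  haveI := hf.proper; haveI := hf.smooth
  obtain ⟨hQ, hfp, hfl⟩ := CohCmpLib.rank_one_hyps f ((CohCmpLib.invertible_iff_rank_one L).1 hL)
  haveI := hQ
  obtain ⟨hP, hbc⟩ := CohCmpLib.stratLocal_one hfp hfl (fun s => (hg s).2)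
    (fun s => CohCmpLib.epi_bc0_of_vanishing_one f hfp hfl s (hg.subsingleton hL s))
  exact ⟨(CohCmpLib.invertible_iff_rank_one _).2 hP,
    fun s => hbc (IsPullback.of_hasPullback f (S.fromSpecResidueField s))⟩

/-- A section of a good bundle which is nonzero on every fibre trivialises the direct image. -/
theorem isIso_push_sec (hf : Fam f) {L : C.Modules} (hL : PicF.IsInvertible L) (hg : Good f L)
    (σ : Coh.structureModule C ⟶ L) (hne : ∀ s : S, SecDivLib.pbSec (f.fiberι s) σ ≠ 0) :
    IsIso (ClSub.unitToPush f ≫ (Scheme.Modules.pushforward f).map σ) := by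
  haveI := hf.proper; haveI := hf.smooth
  let h := ClSub.unitToPush f ≫ (Scheme.Modules.pushforward f).map σ
  have key : ∀ s : S,
      Epi ((Scheme.Modules.pullback (S.fromSpecResidueField s)).map h ≫
        CohBC.bc0 f (S.fromSpecResidueField s) (f.fiberToSpecResidueField s) (f.fiberι s) (f.fiber_fac s) L) := by
    intro s
    obtain ⟨h₁, h₂, h₃⟩ := hf.fibre s
    let k : Type u := S.residueField s
    letI : (f.fiber s).Over (Spec (CommRingCat.of k)) := ⟨f.fiberToSpecResidueField s⟩
    haveI : IsProper ((f.fiber s) ↘ Spec (CommRingCat.of k)) := h₁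
    let g := S.fromSpecResidueField s
    let f' := f.fiberToSpecResidueField s
    let L' := KFlatLib.pb (f.fiberι s) L
    have h1 : Module.finrank k (Coh.HH (f.fiber s) L' 0) = 1 := (hg s).2
    have e : (Scheme.Modules.pullback g).map h ≫ CohBC.bc0 f g f' (f.fiberι s) (f.fiber_fac s) L =
        (KFlatLib.pullUnitIso g).hom ≫ ClSub.unitToPush f' ≫
          (Scheme.Modules.pushforward f').map (SecDivLib.pbSec (f.fiberι s) σ) := by
      rw [Functor.map_comp, Category.assoc, SecDivLib.bc0_naturality,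
        ← reassoc_of% (CohCmpLib.bc0_unit (f.fiber_fac s)),
        ← Functor.map_comp, SecDivLib.pbSec, Iso.hom_inv_id_assoc]
    rw [e]
    haveI : QuasiSeparated f' := inferInstanceAs (QuasiSeparated ((f.fiber s) ↘ Spec (CommRingCat.of k)))
    haveI : QuasiCompact f' := inferInstanceAs (QuasiCompact ((f.fiber s) ↘ Spec (CommRingCat.of k)))
    haveI : Coh.IsQCoh L' := TwistLib.isQCoh_of_isInvertible (AmpleDevLib.isInvertible_pb _ hL)
    haveI : Coh.IsQCoh ((Scheme.Modules.pushforward f').obj L') := QCohLib.isQCoh_pushforward f' L'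
    haveI : Epi (ClSub.unitToPush f' ≫ (Scheme.Modules.pushforward f').map (SecDivLib.pbSec (f.fiberι s) σ)) := by
      refine QCohLib.epi_of_surjective_on_affines _ fun O t z hz => ?_
      obtain rfl : O = ⊤ := top_le_iff.1 fun z' _ => by rwa [Subsingleton.elim (α := PrimeSpectrum k) z' z]
      refine ⟨⊤, le_rfl, hz, ?_⟩
      letI := GenusZeroLib.kmod k L'
      have hne' : (SecDivLib.pbSec (f.fiberι s) σ).app ⊤ (1 : Γ(f.fiber s, ⊤)) ≠ 0 := fun h0 =>
        hne s (ProjSecLib.eq_zero_of_sec _ h0)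
      have h1' : Module.finrank k Γ(L', ⊤) = 1 := (GenusZeroLib.e0k k L').finrank_eq.symm.trans h1
      obtain ⟨c, hc⟩ := (finrank_eq_one_iff_of_nonzero' _ hne').1 h1'
        (show Γ(L', ⊤) from ((Scheme.Modules.pushforward f').obj L').presheaf.map (homOfLE le_rfl).op t)
      refine ⟨(Scheme.ΓSpecIso (CommRingCat.of k)).inv c, Eq.trans ?_ hc⟩
      exact AmpleFinGenLib.app_eq_smul_secOn (SecDivLib.pbSec (f.fiberι s) σ) ⊤ _
    exact epi_comp _ _
  obtain ⟨hP, hbc⟩ := push_good hf hL hg
  have hP' := (CohCmpLib.invertible_iff_rank_one _).1 hP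
  have hPc := LocSuppLib.isCoh_of_isFinLocFree fun x => let ⟨U, h⟩ := hP' x; ⟨U, 1, h⟩
  haveI : Coh.IsQCoh (Coh.structureModule S) := QCohLib.isQCoh_unit
  haveI : Coh.IsQCoh ((Scheme.Modules.pushforward f).obj L) := hPc.1
  haveI : Epi h := by
    refine CohCmpLib.epi_of_epi_pullbacks hPc.2 _ fun s => ?_
    obtain ⟨z⟩ : Nonempty (Spec (S.residueField s)) := inferInstance
    refine ⟨_, S.fromSpecResidueField s, z, Scheme.fromSpecResidueField_apply _ _, ?_⟩
    haveI := hbc s
    exact (epi_comp_iff_of_isIso _ _).1 (key s)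
  exact CohCmpLib.isIso_of_epi_rank_one (CohCmpLib.rank_one_structureModule S) hP' h

/-- A trivialisation of the direct image gives sections nonzero on every fibre. -/
theorem sec_ne_zero (hf : Fam f) {L : C.Modules} (hL : PicF.IsInvertible L) (hg : Good f L)
    (σ : Coh.structureModule C ⟶ L)
    (hσ : IsIso (ClSub.unitToPush f ≫ (Scheme.Modules.pushforward f).map σ)) (s : S) :
    SecDivLib.pbSec (f.fiberι s) σ ≠ 0 := by
  intro h0
  obtain ⟨-, hbc⟩ := push_good hf hL hg
  haveI := hbc s
  let g := S.fromSpecResidueField s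
  let f' := f.fiberToSpecResidueField s
  let h := ClSub.unitToPush f ≫ (Scheme.Modules.pushforward f).map σ
  have e' : (Scheme.Modules.pullback g).map h ≫ CohBC.bc0 f g f' (f.fiberι s) (f.fiber_fac s) L =
      (KFlatLib.pullUnitIso g).hom ≫ ClSub.unitToPush f' ≫
        (Scheme.Modules.pushforward f').map (SecDivLib.pbSec (f.fiberι s) σ) := by
    rw [Functor.map_comp, Category.assoc, SecDivLib.bc0_naturality,
      ← reassoc_of% (CohCmpLib.bc0_unit (f.fiber_fac s)),
      ← Functor.map_comp, SecDivLib.pbSec, Iso.hom_inv_id_assoc]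
  rw [h0] at e'
  simp only [Functor.map_zero, comp_zero] at e'
  haveI : IsIso h := hσ
  have hz : (Scheme.Modules.pullback g).map h = 0 :=
    (cancel_mono (CohBC.bc0 f g f' (f.fiberι s) (f.fiber_fac s) L)).1 (e'.trans zero_comp.symm)
  have hZ : IsZero ((Scheme.Modules.pullback g).obj (Coh.structureModule S)) :=
    IsZero.of_mono_eq_zero _ hz
  exact CohCmpLib.structureModule_id_ne_zero ((hZ.of_iso (KFlatLib.pullUnitIso g).symm).eq_of_src _ _)

/-- The zero scheme of a section nonzero on every fibre is a relative divisor, finite over the base. -/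
theorem isFinLocFree_zeroScheme [SmoothOfRelativeDimension 1 f] (hf : Fam f) {L : C.Modules}
    (hL : PicF.IsInvertible L) (σ : Coh.structureModule C ⟶ L)
    (hne : ∀ s : S, SecDivLib.pbSec (f.fiberι s) σ ≠ 0) :
    BlowUp.IsEffCartierIdeal (PicF2.zeroScheme L σ) ∧
      Mor2.IsFinLocFree ((PicF2.zeroScheme L σ).subschemeι ≫ f) := by
  haveI := hf.proper; haveI := hf.smooth
  set I := PicF2.zeroScheme L σ with hIdef
  obtain ⟨hI, hfl⟩ := RelQRegLib.relEffCartier_of_locPrincipal f I (isLocPrincipal_zeroScheme hL σ) fun s => by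
    rw [← SecDivLib.zeroScheme_pbSec (f.fiberι s) hL σ]
    haveI := mono_fibre hf s (AmpleDevLib.isInvertible_pb _ hL) _ (hne s)
    exact AmpleFinGenLib.isEffCartier_zeroScheme (AmpleDevLib.isInvertible_pb _ hL) _
  obtain ⟨hq, hfl', hfp⟩ := (HilbPts.SC.effCartier_iff f I).1 ⟨hI, hfl⟩
  haveI := hq; haveI := hfl'; haveI := hfp
  exact ⟨hI, IsFinite.of_isProper_of_locallyQuasiFinite _, hfl', hfp⟩

/-- The bundle of a divisor has a section cutting it out, nonzero on every fibre. -/
theorem exists_sec_divisor [SmoothOfRelativeDimension 1 f] (hf : Fam f) {L : C.Modules}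
    (hL : PicF.IsInvertible L) {I : C.IdealSheafData} (hI : Mor2.IsFinLocFree (I.subschemeι ≫ f))
    (h : idCls I * cl L = 1) :
    ∃ σ : Coh.structureModule C ⟶ L, PicF2.zeroScheme L σ = I ∧ ∀ s : S, SecDivLib.pbSec (f.fiberι s) σ ≠ 0 := by
  haveI := hf.proper; haveI := hf.smooth
  obtain ⟨hIe, hfl⟩ := HilbPts.SC.effCartier_of_finLocFree f I hI
  obtain ⟨σ, hσ⟩ := SecDivLib.exists_secHom hL hIe
    (cl_eq_one_iff.1 ((cl_tensor _ _).trans ((mul_comm _ _).trans h)))
  refine ⟨σ, hσ, fun s h0 => ?_⟩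
  haveI : Flat (I.subschemeι ≫ f) := hfl
  have hc : BlowUp.IsEffCartierIdeal (I.comap (f.fiberι s)) :=
    Groth.Agent.S1662.result f I hIe (S.fromSpecResidueField s)
  have hz := SecDivLib.zeroScheme_pbSec (f.fiberι s) hL σ
  rw [hσ] at hz
  haveI := RelDualLib.mono_of_zeroScheme (AmpleDevLib.isInvertible_pb _ hL) hc _ hz
  have hZ : IsZero (Coh.structureModule (f.fiber s)) := IsZero.of_mono_eq_zero (SecDivLib.pbSec (f.fiberι s) σ) h0
  haveI := hf.isIntegral_fibre s
  exact CohCmpLib.structureModule_id_ne_zero (hZ.eq_of_src _ _)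

/-- **A good bundle is the bundle of a relative divisor, up to the base.** -/
theorem exists_divisor [SmoothOfRelativeDimension 1 f] (hf : Fam f) {L : C.Modules} (hL : PicF.IsInvertible L)
    (hg : Good f L) :
    ∃ (I : C.IdealSheafData) (M : S.Modules), Mor2.IsFinLocFree (I.subschemeι ≫ f) ∧ PicF.IsInvertible M ∧
      idCls I * cl L = pull f (cl M) := by
  haveI := hf.proper; haveI := hf.smooth
  obtain ⟨hN, -⟩ := push_good hf hL hg
  let N := (Scheme.Modules.pushforward f).obj L
  obtain ⟨N', hN', hNN'⟩ := exists_inv_rep hN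
  let L' := CohB1.tensorMod (KFlatLib.pb f N') L
  have hL' : PicF.IsInvertible L' := HilbPolyLib.isInvertible_tensor (AmpleDevLib.isInvertible_pb f hN') hL
  have hg' : Good f L' := fun s => by
    letI : (f.fiber s).Over (Spec (CommRingCat.of (S.residueField s))) := ⟨f.fiberToSpecResidueField s⟩
    have h : pull (f.fiberι s) (cl L') = pull (f.fiberι s) (cl L) := by
      rw [cl_tensor, map_mul]
      exact (congrArg (· * pull (f.fiberι s) (cl L)) (pull_fibre_base s hN')).trans (one_mul _)
    obtain ⟨e⟩ := cl_eq_iff.1 h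
    exact ⟨((CurvLib.hIso (k := S.residueField s) e 1).finrank_eq).trans (hg s).1,
      ((CurvLib.hIso (k := S.residueField s) e 0).finrank_eq).trans (hg s).2⟩
  haveI : HasInjectiveResolutions C.Modules := inferInstance
  obtain ⟨pf⟩ := Groth.Agent.S0927.result f L N' (AmpleDevLib.isFinLocFree_of_isInvertible hN') 0
  haveI : PreservesFiniteLimits (Scheme.Modules.pushforward f) := CohCmpLib.preservesFiniteLimits_push
  let r := (Scheme.Modules.pushforward f).rightDerivedZeroIsoSelf
  obtain ⟨e1⟩ := cl_eq_one_iff.1 ((cl_tensor N' N).trans ((mul_comm _ _).trans hNN'))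
  let e : Coh.structureModule S ≅ (Scheme.Modules.pushforward f).obj L' :=
    e1.symm ≪≫ HilbPolyLib.congrRight N' (r.app L).symm ≪≫ pf ≪≫ r.app L'
  let t : Γ(L', ⊤) := e.hom.app ⊤ (show Γ(Coh.structureModule S, ⊤) from (1 : Γ(S, ⊤)))
  let σ := QCohLib.unitHom L' t
  have he : ClSub.unitToPush f ≫ (Scheme.Modules.pushforward f).map σ = e.hom := by
    rw [NakaiLib.eq_unitHom (ClSub.unitToPush f ≫ (Scheme.Modules.pushforward f).map σ), NakaiLib.eq_unitHom e.hom]
    congr 1
    show σ.app ⊤ (f.appTop (1 : Γ(S, ⊤))) = t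
    rw [map_one, QCohLib.unitHom_app, one_smul]
    exact congr($(L'.presheaf.map_id _) t)
  have hne : ∀ s, SecDivLib.pbSec (f.fiberι s) σ ≠ 0 := sec_ne_zero hf hL' hg' σ (by rw [he]; infer_instance)
  obtain ⟨hI, hfin⟩ := isFinLocFree_zeroScheme hf hL' σ hne
  refine ⟨_, N, hfin, hN, ?_⟩
  haveI := RelDualLib.mono_of_zeroScheme hL' hI σ rfl
  have h1 : idCls (PicF2.zeroScheme L' σ) * (pull f (cl N') * cl L) = 1 :=
    (cl_tensor _ _).symm.trans (cl_eq_one_iff.2 (AmpleFinGenLib.idealMod_tensor_iso hL' σ))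
  have h2 : pull f (cl N) * pull f (cl N') = 1 := by rw [← map_mul, hNN', map_one]
  calc idCls (PicF2.zeroScheme L' σ) * cl L
      = (pull f (cl N) * pull f (cl N')) * (idCls (PicF2.zeroScheme L' σ) * cl L) := by rw [h2, one_mul]
    _ = pull f (cl N) * (idCls (PicF2.zeroScheme L' σ) * (pull f (cl N') * cl L)) := by ac_rfl
    _ = pull f (cl N) := by rw [h1, mul_one]

/-- Two divisors of the same good bundle are equal. -/
theorem divisor_eq [SmoothOfRelativeDimension 1 f] (hf : Fam f) {L : C.Modules} (hL : PicF.IsInvertible L)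
    (hg : Good f L) {I J : C.IdealSheafData} (hI : Mor2.IsFinLocFree (I.subschemeι ≫ f))
    (hJ : Mor2.IsFinLocFree (J.subschemeι ≫ f)) (hIL : idCls I * cl L = 1) (hJL : idCls J * cl L = 1) :
    I = J := by
  haveI := hf.proper; haveI := hf.smooth
  obtain ⟨σ, hσ, hne⟩ := exists_sec_divisor hf hL hI hIL
  obtain ⟨σ', hσ', hne'⟩ := exists_sec_divisor hf hL hJ hJL
  haveI := isIso_push_sec hf hL hg σ hne
  haveI := isIso_push_sec hf hL hg σ' hne'
  let one : Γ(Coh.structureModule C, ⊤) := show Γ(C, ⊤) from 1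
  have key : ∀ τ : Coh.structureModule C ⟶ L,
      IsIso (ClSub.unitToPush f ≫ (Scheme.Modules.pushforward f).map τ) →
        Function.Bijective fun c : Γ(S, ⊤) => (f.appTop c) • τ.app ⊤ one := fun τ hτ => by
    have e : (fun c : Γ(S, ⊤) => (f.appTop c) • τ.app ⊤ one) =
        fun c : Γ(S, ⊤) => (ClSub.unitToPush f ≫ (Scheme.Modules.pushforward f).map τ).app ⊤
          (show Γ(Coh.structureModule S, ⊤) from c) :=
      funext fun c => (AmpleFinGenLib.app_eq_smul_secOn τ ⊤ (f.appTop c)).symm
    rw [e]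
    exact ConcreteCategory.bijective_of_isIso
      ((ClSub.unitToPush f ≫ (Scheme.Modules.pushforward f).map τ).app ⊤)
  obtain ⟨a, ha⟩ := (key σ inferInstance).2 (σ'.app ⊤ one)
  obtain ⟨b, hb⟩ := (key σ' inferInstance).2 (σ.app ⊤ one)
  simp only at ha hb
  have hab : b * a = 1 := (key σ inferInstance).1 (by
    simp only
    rw [map_mul, mul_smul, ha, hb, map_one, one_smul])
  have hu : IsUnit (f.appTop a) := (IsUnit.of_mul_eq_one b (by rw [mul_comm]; exact hab)).map f.appTop.hom
  rw [← hσ, ← hσ']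
  exact (SecDivLib.zeroScheme_congr hL σ σ' hu ha.symm).symm

/-- A good bundle twisted by a bundle of the base is good. -/
theorem Good.twist (hf : Fam f) {L : C.Modules} (hg : Good f L) {N : S.Modules} (hN : PicF.IsInvertible N) :
    Good f (CohB1.tensorMod (KFlatLib.pb f N) L) := fun s => by
  letI : (f.fiber s).Over (Spec (CommRingCat.of (S.residueField s))) := ⟨f.fiberToSpecResidueField s⟩
  have h : pull (f.fiberι s) (cl (CohB1.tensorMod (KFlatLib.pb f N) L)) = pull (f.fiberι s) (cl L) := by
    rw [cl_tensor, map_mul]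
    exact (congrArg (· * pull (f.fiberι s) (cl L)) (pull_fibre_base s hN)).trans (one_mul _)
  obtain ⟨e⟩ := cl_eq_iff.1 h
  exact ⟨((CurvLib.hIso (k := S.residueField s) e 1).finrank_eq).trans (hg s).1,
    ((CurvLib.hIso (k := S.residueField s) e 0).finrank_eq).trans (hg s).2⟩

/-- The direct image detects the twist. -/
theorem push_of_divisor [SmoothOfRelativeDimension 1 f] (hf : Fam f) {L : C.Modules} (hL : PicF.IsInvertible L)
    (hg : Good f L) {N : S.Modules} (hN : PicF.IsInvertible N) {I : C.IdealSheafData}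
    (hI : Mor2.IsFinLocFree (I.subschemeι ≫ f)) (h : idCls I * (pull f (cl N) * cl L) = 1) :
    cl N * cl ((Scheme.Modules.pushforward f).obj L) = 1 := by
  haveI := hf.proper; haveI := hf.smooth
  let L' := CohB1.tensorMod (KFlatLib.pb f N) L
  have hL' : PicF.IsInvertible L' := HilbPolyLib.isInvertible_tensor (AmpleDevLib.isInvertible_pb f hN) hL
  obtain ⟨σ, -, hne⟩ := exists_sec_divisor hf hL' hI h
  haveI := isIso_push_sec hf hL' (hg.twist hf hN) σ hne
  haveI : HasInjectiveResolutions C.Modules := inferInstance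
  obtain ⟨pf⟩ := Groth.Agent.S0927.result f L N (AmpleDevLib.isFinLocFree_of_isInvertible hN) 0
  haveI : PreservesFiniteLimits (Scheme.Modules.pushforward f) := CohCmpLib.preservesFiniteLimits_push
  let r := (Scheme.Modules.pushforward f).rightDerivedZeroIsoSelf
  exact (cl_tensor _ _).symm.trans (cl_eq_one_iff.2 ⟨HilbPolyLib.congrRight N (r.app L).symm ≪≫ pf ≪≫ r.app L' ≪≫
    (asIso (ClSub.unitToPush f ≫ (Scheme.Modules.pushforward f).map σ)).symm⟩)

/-- **Two divisors of a good bundle, up to the base, are equal.** -/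
theorem divisor_eq' [SmoothOfRelativeDimension 1 f] (hf : Fam f) {L : C.Modules} (hL : PicF.IsInvertible L)
    (hg : Good f L) {I J : C.IdealSheafData} (hI : Mor2.IsFinLocFree (I.subschemeι ≫ f))
    (hJ : Mor2.IsFinLocFree (J.subschemeι ≫ f)) {M N : S.Modules} (hM : PicF.IsInvertible M)
    (hN : PicF.IsInvertible N) (hIL : idCls I * cl L = pull f (cl M)) (hJL : idCls J * cl L = pull f (cl N)) :
    I = J := by
  obtain ⟨M', hM', hMM'⟩ := exists_inv_rep hM
  obtain ⟨N', hN', hNN'⟩ := exists_inv_rep hN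
  have h1 : idCls I * (pull f (cl M') * cl L) = 1 := by
    rw [mul_left_comm, hIL, ← map_mul, mul_comm, hMM', map_one]
  have h2 : idCls J * (pull f (cl N') * cl L) = 1 := by
    rw [mul_left_comm, hJL, ← map_mul, mul_comm, hNN', map_one]
  have e1 := push_of_divisor hf hL hg hM' hI h1
  have e2 := push_of_divisor hf hL hg hN' hJ h2
  have e : cl N' = cl M' := by
    calc cl N' = cl N' * (cl M' * cl ((Scheme.Modules.pushforward f).obj L)) := by rw [e1, mul_one]
      _ = cl M' * (cl N' * cl ((Scheme.Modules.pushforward f).obj L)) := mul_left_comm _ _ _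
      _ = cl M' := by rw [e2, mul_one]
  rw [e] at h2
  exact divisor_eq hf (HilbPolyLib.isInvertible_tensor (AmpleDevLib.isInvertible_pb f hM') hL) (hg.twist hf hM')
    hI hJ h1 h2

end PicCurveLib

end
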