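import Groth.Agent.PicCurveLib.AlgTriv
import Groth.Agent.DescAppLib.RigApps

/-!
# Sheafified `Pic⁰` of a family of curves with a section: rigidified classes of degree zero
-/

set_option autoImplicit false
set_option linter.style.haveILetI false
set_option linter.unusedSectionVars false
set_option backward.isDefEq.respectTransparency false
set_option backward.isDefEq.respectTransparency.types false
set_option maxRecDepth 8000
set_option maxHeartbeats 1000000

universe u

open CategoryTheory CategoryTheory.Limits AlgebraicGeometry TopologicalSpace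
open CubeConsLib (pull pull_comp pull_cl cl cl_eq_iff cl_tensor IsoCls)

noncomputable section

namespace PicCurveLib

variable {C S : Scheme.{u}} {f : C ⟶ S} (hf : Fam f) [IsProper f] [Flat f] [LocallyOfFinitePresentation f]
  [Smooth f] [GeometricallyConnected f] {σ : S ⟶ C} {hσ : σ ≫ f = 𝟙 S}
  {P₀ : Over S} {φ : ∀ T : Over S, PicF.Cl (PicF.XT f T) → (T ⟶ P₀)}
  (hP : AbDual.IsRelPicZeroK Scheme.fppfPrecoverage f P₀ φ)

include hf

omit [Flat f] [LocallyOfFinitePresentation f] in
theorem bijective_app_XT (T : Over S) (V : T.left.Opens) : Function.Bijective ((PicF.XTproj f T).app V) := by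
  haveI := (fam_snd hf T.hom).conn
  haveI := (fam_snd hf T.hom).smooth
  haveI := (fam_snd hf T.hom).proper
  haveI := FibVALib.geometricallyIntegral_of_geometricallyConnected (pullback.snd f T.hom)
  exact H0Lib.bijective_app_of_geometrically (pullback.snd f T.hom) V

/-- Twisting by the base does not change the degree. -/
theorem deg_twist (T : Over S) {L L' : (PicF.XT f T).Modules} {D : T.left.Modules} (hD : PicF.IsInvertible D)
    (e : cl L' = cl L * pull (PicF.XTproj f T) (cl D)) (t : T.left) : deg f T L' t = deg f T L t := by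
  refine congrArg (· - _) (chi_of_cl (K := T.left.residueField t) (M := FGA.restrFibre f T t L')
    (N := FGA.restrFibre f T t L) ?_)
  show pull _ (cl L') = pull _ (cl L)
  rw [e, map_mul]
  erw [EllLawLib.pull_fibre_base (f := PicF.XTproj f T) t hD]
  exact mul_one _

include hP

omit [Smooth f] [GeometricallyConnected f] in
theorem natural_zero {A B : Over S} (v : B ⟶ A) {L : (PicF.XT f A).Modules} (hL : PicF.IsInvertible L)
    (h0 : ∀ t, deg f A L t = 0) :
    φ B (PicF.cl ((Scheme.Modules.pullback (PicF.XTmap f v)).obj L)) = v ≫ φ A (PicF.cl L) :=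
  hP.natural _ _ v (PicF.cl L) ((isPicZeroCl_iff hf A hL).2 h0)

theorem inj_zero (A : Over S) {L L' : (PicF.XT f A).Modules} (hL : PicF.IsInvertible L) (hL' : PicF.IsInvertible L')
    (h0 : ∀ t, deg f A L t = 0) (h0' : ∀ t, deg f A L' t = 0)
    (hs : pull (PicF.secT f σ hσ A) (cl L) = 1) (hs' : pull (PicF.secT f σ hσ A) (cl L') = 1)
    (heq : φ A (PicF.cl L) = φ A (PicF.cl L')) : cl L = cl L' := by
  obtain ⟨R, hR, hR'⟩ := hP.locallyInjective A _ _ ((isPicZeroCl_iff hf A hL).2 h0)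
    ((isPicZeroCl_iff hf A hL').2 h0') heq
  obtain ⟨U, g, hg, -, hUg⟩ := DescAppLib.exists_points_subfamily hR
  exact DescAppLib.unique_family (PicF.XTproj f A) (DescAppLib.xtFam f σ hσ A U g)
    (Scheme.fppfPrecoverage_le_fpqcPrecoverage _ hUg)
    (fun W t _ => DescAppLib.bij_XT f (bijective_app_XT hf) A W t) hL hL' hs hs' fun k => hR' (g k) (hg k)

/-- Every point of `P₀` comes from a rigidified class of degree zero. -/
theorem surj_zero (T : Over S) (h : T ⟶ P₀) :
    ∃ N : (PicF.XT f T).Modules, PicF.IsInvertible N ∧ pull (PicF.secT f σ hσ T) (cl N) = 1 ∧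
      (∀ t, deg f T N t = 0) ∧ φ T (PicF.cl N) = h := by
  have hb := bijective_app_XT hf
  obtain ⟨R, hR, hR'⟩ := hP.locallySurjective T h
  obtain ⟨U, g, hg, hgsurj, hUg⟩ := DescAppLib.exists_points_subfamily hR
  choose c hc hφ using fun k => hR' (g k) (hg k)
  choose L hcL hL hLa using hc
  have hL0 : ∀ k t, deg f (AbDual.ovr T (g k)) (L k) t = 0 := fun k =>
    (isPicZeroCl_iff hf _ (hL k)).1 ⟨L k, rfl, hL k, hLa k⟩
  have hmem := Scheme.fppfPrecoverage_le_fpqcPrecoverage _ hUg
  have hex : ∀ k, ∃ L' : (PicF.XT f (AbDual.ovr T (g k))).Modules, PicF.IsInvertible L' ∧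
      pull (PicF.secT f σ hσ (AbDual.ovr T (g k))) (cl L') = 1 ∧ (∀ t, deg f (AbDual.ovr T (g k)) L' t = 0) ∧
      φ (AbDual.ovr T (g k)) (PicF.cl L') = AbDual.ovrHom T (g k) ≫ h := by
    intro k
    let A := AbDual.ovr T (g k)
    let D := MiscFlat6.dual ((Scheme.Modules.pullback (PicF.secT f σ hσ A)).obj (L k))
    have hM := AmpleDevLib.isInvertible_pb (PicF.secT f σ hσ A) (hL k)
    have hD : PicF.IsInvertible D := MiscFlat6.dual_isInvertible hM
    let L' := CohB1.tensorMod (L k) ((Scheme.Modules.pullback (PicF.XTproj f A)).obj D)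
    have hL' : PicF.IsInvertible L' :=
      HilbPolyLib.isInvertible_tensor (hL k) (AmpleDevLib.isInvertible_pb (PicF.XTproj f A) hD)
    have hc' : cl L' = cl (L k) * pull (PicF.XTproj f A) (cl D) := rfl
    have h0 : ∀ t, deg f A L' t = 0 := fun t => (deg_twist hf A hD hc' t).trans (hL0 k t)
    refine ⟨L', hL', ?_, h0, ?_⟩
    · rw [hc', map_mul, pull_comp _ _ (cl D), DescAppLib.secT_proj, DescAppLib.pull_id]
      exact CubeConsLib.cl_eq_one_iff.2 (MiscFlat6.nonempty_dualIso hM)
    · rw [← hφ k, ← hcL k]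
      refine Over.OverMorphism.ext (Scheme.hom_ext_of_forall _ _ fun y => ?_)
      obtain ⟨V, e, hyV, he⟩ := TwistLib.exists_genOn hD y
      let v : AbDual.ovr A V.ι ⟶ A := AbDual.ovrHom A V.ι
      have hDV : pull V.ι (cl D) = 1 :=
        CubeConsLib.cl_eq_one_iff.2 (CubeLib.trivial_of_genOn_top
          (CubeLib.genOn_puSecLE V.ι he (le_of_eq V.ι_preimage_self.symm)))
      have heq : pull (PicF.XTmap f v) (cl L') = pull (PicF.XTmap f v) (cl (L k)) := by
        rw [hc', map_mul, pull_comp, DescAppLib.XTmap_proj, ← pull_comp]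
        show _ * pull (PicF.XTproj f (AbDual.ovr A V.ι)) (pull V.ι (cl D)) = _
        rw [hDV, map_one, mul_one]
      have h2 : v ≫ φ A (PicF.cl L') = v ≫ φ A (PicF.cl (L k)) :=
        (natural_zero hf hP v hL' h0).symm.trans ((congrArg (φ _) (EllLawLib.toCl_eq.2 heq)).trans
          (natural_zero hf hP v (hL k) (hL0 k)))
      exact ⟨V, hyV, congrArg CommaMorphism.left h2⟩
  choose L' hL' hs h0 hφ' using hex
  have hbij : ∀ (W : Scheme.{u}) (t : W ⟶ T.left), Flat t →
      Function.Bijective (pullback.snd (PicF.XTproj f T) t).appTop := fun W t _ => DescAppLib.bij_XT f hb T W t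
  obtain ⟨N, hN, hN1, hN2⟩ := DescAppLib.exists_descend_cls (PicF.XTproj f T) (DescAppLib.xtFam f σ hσ T U g)
    hmem hbij L' hL' hs (fun k l => by
      obtain ⟨j, hj1, hj2⟩ := DescAppLib.exists_ovr_overlap f σ hσ T U g k l
      let W := AbDual.ovr (AbDual.ovr T (g k)) (pullback.fst (g k) (g l))
      let a : W ⟶ AbDual.ovr T (g k) := AbDual.ovrHom (AbDual.ovr T (g k)) (pullback.fst (g k) (g l))
      let b : W ⟶ AbDual.ovr T (g l) := Over.homMk (pullback.snd (g k) (g l)) (pullback.condition_assoc T.hom).symm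
      have hab : a ≫ AbDual.ovrHom T (g k) = b ≫ AbDual.ovrHom T (g l) :=
        Over.OverMorphism.ext pullback.condition
      have hr : ∀ {k : T.left} (v : W ⟶ AbDual.ovr T (g k)),
          pull (PicF.secT f σ hσ W) (cl ((Scheme.Modules.pullback (PicF.XTmap f v)).obj (L' k))) = 1 := fun {k} v => by
        rw [← pull_cl, pull_comp, DescAppLib.secT_natural, ← pull_comp, hs k, map_one]
      have hz : ∀ {k : T.left} (v : W ⟶ AbDual.ovr T (g k)) (w : W.left),
          deg f W ((Scheme.Modules.pullback (PicF.XTmap f v)).obj (L' k)) w = 0 := fun {k} v w =>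
        (deg_map f hf.dim_le v (hL' k) w).trans (h0 k _)
      have he := inj_zero hf hP W (σ := σ) (hσ := hσ) (AmpleDevLib.isInvertible_pb (PicF.XTmap f a) (hL' k))
        (AmpleDevLib.isInvertible_pb (PicF.XTmap f b) (hL' l)) (hz a) (hz b) (hr a) (hr b)
        (by rw [natural_zero hf hP a (hL' k) (h0 k), natural_zero hf hP b (hL' l) (h0 l), hφ' k, hφ' l,
          reassoc_of% hab])
      rw [← hj1, ← hj2]
      exact (pull_comp j _ (cl (L' k))).symm.trans
        ((congrArg (pull j) he).trans (pull_comp j _ (cl (L' l)))))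
  have hN0 : ∀ t, deg f T N t = 0 := fun t => by
    obtain ⟨z, hz⟩ := hgsurj t
    have h1 := deg_map f hf.dim_le (AbDual.ovrHom T (g t)) hN z
    rw [deg_congr f hf.dim_le _ (L := (Scheme.Modules.pullback (PicF.XTmap f (AbDual.ovrHom T (g t)))).obj N) (M := L' t) (hN2 t) z, h0 t z] at h1
    exact (congrArg (deg f T N) hz).symm.trans h1.symm
  refine ⟨N, hN, hN1, hN0, ?_⟩
  haveI : ∀ k, Flat (g k) := fun k => DescLib.ofArrows_flat hmem k
  haveI : Surjective (Limits.Sigma.desc g) := ⟨fun t => by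
    obtain ⟨z, hz⟩ := hgsurj t
    exact ⟨Limits.Sigma.ι U t z, (congrArg (fun m : U t ⟶ T.left => m z) (Limits.Sigma.ι_desc (f := U) g t)).trans hz⟩⟩
  haveI : Epi (Limits.Sigma.desc g) := Flat.epi_of_flat_of_surjective _
  refine Over.OverMorphism.ext ((cancel_epi (Limits.Sigma.desc g)).1 (Limits.Sigma.hom_ext _ _ fun k => ?_))
  rw [Limits.Sigma.ι_desc_assoc, Limits.Sigma.ι_desc_assoc]
  have h3 : AbDual.ovrHom T (g k) ≫ φ T (PicF.cl N) = AbDual.ovrHom T (g k) ≫ h :=
    (natural_zero hf hP (AbDual.ovrHom T (g k)) hN hN0).symm.trans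
      ((congrArg (φ _) (EllLawLib.toCl_eq.2 (hN2 k))).trans (hφ' k))
  exact congrArg CommaMorphism.left h3

/-- With a section, `P₀` carries a universal rigidified class of degree zero. -/
theorem exists_universal_zero :
    ∃ ξ : PicF.Rig f σ hσ P₀, FGA.HasFibreDegreeZeroCl f P₀ ξ.1 ∧ φ P₀ ξ.1 = 𝟙 P₀ ∧
      ∀ (T : Over S) (c : PicF.Rig f σ hσ T), FGA.HasFibreDegreeZeroCl f T c.1 →
        ∃! g : T ⟶ P₀, PicF.pullCl (PicF.XTmap f g) ξ.1 = c.1 := by
  obtain ⟨N, hN, hN1, hN0, hNφ⟩ := surj_zero hf hP (σ := σ) (hσ := hσ) P₀ (𝟙 P₀)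
  refine ⟨⟨PicF.cl N, ⟨N, rfl, hN⟩, EllLawLib.toCl_eq.2 hN1⟩, ⟨N, rfl, (hasFibreDegreeZero_iff P₀ N).2 hN0⟩, hNφ,
    fun T ⟨_, ⟨L, rfl, hL⟩, hr⟩ hc => ?_⟩
  have h0 := (isPicZeroCl_iff hf T hL).1 ((hasFibreDegreeZeroCl_iff hf T hL).1 hc)
  have hn : ∀ g : T ⟶ P₀, φ T (PicF.cl ((Scheme.Modules.pullback (PicF.XTmap f g)).obj N)) = g := fun g => by
    rw [natural_zero hf hP g hN hN0, hNφ, Category.comp_id]
  refine ⟨φ T (PicF.cl L), ?_, fun g (hg : PicF.cl ((Scheme.Modules.pullback (PicF.XTmap f g)).obj N) = PicF.cl L) =>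
    (hn g).symm.trans (congrArg (φ T) hg)⟩
  refine EllLawLib.toCl_eq.2 (inj_zero hf hP T (σ := σ) (hσ := hσ) (AmpleDevLib.isInvertible_pb _ hN) hL
    (fun t => (deg_map f hf.dim_le _ hN t).trans (hN0 _)) h0 ?_ (EllLawLib.toCl_eq.1 hr) (hn _))
  rw [← pull_cl, pull_comp, DescAppLib.secT_natural, ← pull_comp, hN1, map_one]

end PicCurveLib

end
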