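import Groth.Agent.PicCurveLib.PicZeroRig
import Groth.Agent.PicCurveLib.BCZero
import Groth.Agent.PicCurveLib.JacDim

/-!
# The dimension of the fibres of `Pic⁰` of a family of curves
-/

set_option autoImplicit false
set_option linter.style.haveILetI false
set_option linter.unusedSectionVars false
set_option backward.isDefEq.respectTransparency false
set_option backward.isDefEq.respectTransparency.types false
set_option maxRecDepth 8000
set_option maxHeartbeats 1000000
set_option synthInstance.maxHeartbeats 100000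

universe u

open CategoryTheory CategoryTheory.Limits AlgebraicGeometry TopologicalSpace

noncomputable section

namespace PicCurveLib

/-- A nonempty scheme of finite type over an algebraically closed field has a point. -/
theorem exists_section_of_isAlgClosed {Ω : Type u} [Field Ω] [IsAlgClosed Ω] {X : Scheme.{u}}
    (q : X ⟶ Spec (CommRingCat.of Ω)) [LocallyOfFiniteType q] [Nonempty X] :
    ∃ σ : Spec (CommRingCat.of Ω) ⟶ X, σ ≫ q = 𝟙 _ := by
  haveI : JacobsonSpace X := LocallyOfFiniteType.jacobsonSpace q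
  obtain ⟨x, -, hx⟩ := nonempty_inter_closedPoints (Z := (Set.univ : Set X)) Set.univ_nonempty
    isOpen_univ.isLocallyClosed
  exact ⟨pointOfClosedPoint q x hx, pointOfClosedPoint_comp _ _ _⟩

/-- **The fibres of `Pic⁰` have dimension the genus.** -/
theorem krullDim_fiber_picZero {C S : Scheme.{u}} {f : C ⟶ S} (hf : Fam f) [IsProper f]
    (P₀ : Over S) (φ₀ : ∀ T : Over S, PicF.Cl (PicF.XT f T) → (T ⟶ P₀))
    (hP₀ : AbDual.IsRelPicZeroK Scheme.fppfPrecoverage f P₀ φ₀) [LocallyOfFiniteType P₀.hom] (s : S) :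
    topologicalKrullDim ↥(P₀.hom.fiber s) = (CohIII.fiberRank f (Coh.structureModule C) 1 s : WithBot ℕ∞) := by
  obtain ⟨Ω, _, _, ⟨ω⟩⟩ := AlgEquivLib.exists_geom S s
  let t : Spec (CommRingCat.of Ω) ⟶ S := ω ≫ S.fromSpecResidueField s
  have ht : t (IsLocalRing.closedPoint Ω) = s := Scheme.fromSpecResidueField_apply s _
  have hB := isRelPicZeroK_bc (X := Over.mk f) (φ := φ₀) t hP₀
  let f' := (Red.bc t (Over.mk f)).hom
  have hsq : IsPullback (pullback.fst f t) f' f t := IsPullback.of_hasPullback f t
  have hf' : Fam f' := hf.of_isPullback hsq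
  letI : (Red.bc t (Over.mk f)).left.Over (Spec (CommRingCat.of Ω)) := ⟨f'⟩
  haveI : IsProper f' := hf'.proper
  haveI : Smooth f' := hf'.smooth
  haveI : GeometricallyConnected f' := hf'.conn
  haveI : IsIntegral (Red.bc t (Over.mk f)).left := isIntegral_total (K := Ω) hf'
  obtain ⟨σ, hσ⟩ := exists_section_of_isAlgClosed f'
  obtain ⟨ξ, hξ, -, huniv⟩ := exists_universal_zero hf' hB (σ := σ) (hσ := hσ)
  have hdimJ := jacobian_dim (k := Ω) (X := (Red.bc t (Over.mk f)).left)
    ⟨hf'.proper, hf'.smooth, inferInstance, dim_total (K := Ω) hf'⟩ (Red.bc t P₀) ξ hξ huniv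
  have h1 : topologicalKrullDim ↥(P₀.hom.fiber s) = topologicalKrullDim (Red.bc t P₀).left := by
    rw [← ht]
    exact ((EllLawLib.dim_fiber_spec (Red.bc t P₀).hom (IsLocalRing.closedPoint Ω)).symm.trans
      (FibDimLib.topologicalKrullDim_fiber_baseChange (IsPullback.of_hasPullback P₀.hom t) _)).symm
  rw [h1, hdimJ]
  congr 1
  have h2 := fiberRank_bc hsq CurvLib.isInvertible_structureModule (IsLocalRing.closedPoint Ω) 1
  rw [ht] at h2
  rw [← h2]
  have hO : KFlatLib.pb (pullback.fst f t) (Coh.structureModule C) ≅ Coh.structureModule _ :=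
    KFlatLib.pullUnitIso (pullback.fst f t)
  exact_mod_cast ((fiberRank_congr hO (IsLocalRing.closedPoint Ω) 1).trans
    (fiberRank_spec_mod f' CurvLib.isInvertible_structureModule 1 _)).symm

end PicCurveLib

end
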