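import Groth.Agent.PicCurveLib.SmoothSec
import Groth.Agent.AVDualLib.PicDescent
import Groth.Agent.S12404
import Groth.Agent.S0115
import Groth.Agent.TorsTupleLib.SmoothCrit
import Groth.Agent.PicH1Lib.Lift
import Groth.Agent.PicH1Lib.Adic
import Groth.Agent.FibVanLib.Affine
import Groth.Agent.H0Lib.Main
import Groth.Agent.FibDimLib.FieldExt
import Groth.Agent.EllLawLib.PicZero
import Groth.Agent.SweepSix.ConormalSpec

/-!
# Smoothness of the Picard scheme of a relative curve
-/

set_option autoImplicit false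
set_option linter.style.haveILetI false
set_option linter.unusedSectionVars false
set_option backward.isDefEq.respectTransparency false
set_option backward.isDefEq.respectTransparency.types false
set_option maxRecDepth 8000
set_option maxHeartbeats 1000000
set_option synthInstance.maxHeartbeats 100000

universe u

open CategoryTheory CategoryTheory.Limits AlgebraicGeometry TopologicalSpace
open CubeConsLib (pull pull_comp pull_cl cl cl_eq_iff cl_tensor IsoCls)

noncomputable section

namespace PicCurveLib

variable {C S : Scheme.{u}} (f : C ⟶ S) [IsProper f] [Flat f] [LocallyOfFinitePresentation f]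
  [GeometricallyReduced f] [GeometricallyConnected f]

/-- With a section the Picard scheme of a relative curve is smooth. -/
theorem smooth_pic_of_section (hdim : ∀ s : S, topologicalKrullDim ↥(f.fiber s) ≤ 1)
    (σ : S ⟶ C) (hσ : σ ≫ f = 𝟙 S) (P : Over S) (φ : ∀ T : Over S, PicF.Cl (PicF.XT f T) → (T ⟶ P))
    (hP : AbDual.IsRelPicK Scheme.fppfPrecoverage f P φ) [LocallyOfFinitePresentation P.hom] :
    Smooth P.hom := by
  have ha : ∀ (T : Over S) (U : T.left.Opens), IsIso ((PicF.XTproj f T).app U) := fun T U => by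
    haveI : GeometricallyConnected (pullback.snd f T.hom) := MorphismProperty.pullback_snd f _ ‹_›
    exact (ConcreteCategory.isIso_iff_bijective _).2
      (H0Lib.bijective_app_of_geometrically (pullback.snd f T.hom) U)
  refine Groth.Agent.TorsTuple.smooth_of_lifts P.hom fun y => ⟨⊤, trivial, fun R _ I hI p _ τ hτ => ?_⟩
  let T : Over S := Over.mk p
  let π : Spec (CommRingCat.of (R ⧸ I)) ⟶ Spec (CommRingCat.of R) :=
    Spec.map (CommRingCat.ofHom (Ideal.Quotient.mk I))
  let T₀ : Over S := Over.mk (π ≫ p)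
  let i : T₀ ⟶ T := Over.homMk π rfl
  let τ₀ : T₀ ⟶ P := Over.homMk τ hτ
  obtain ⟨⟨c, hc, _⟩, hcτ⟩ := (Groth.Agent.S12404.result f σ hσ ha P φ hP T₀).2 τ₀
  obtain ⟨L₀, rfl, hL₀⟩ := hc
  haveI : IsClosedImmersion π := IsClosedImmersion.spec_of_surjective _ Ideal.Quotient.mk_surjective
  have hpb : IsPullback (PicF.XTmap f i) (PicF.XTproj f T₀) (PicF.XTproj f T) π := DescAppLib.isPullback_XTmap f i
  haveI : IsClosedImmersion (PicF.XTmap f i) := MorphismProperty.of_isPullback (P := @IsClosedImmersion) hpb.flip ‹_›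
  have hker : (PicF.XTmap f i).ker = π.ker.comap (PicF.XTproj f T) := by
    rw [← hpb.isoPullback_hom_fst, Scheme.Hom.ker_comp_of_isIso, Scheme.IdealSheafData.ker_fst_of_isClosedImmersion]
  have hsq : (PicF.XTmap f i).ker * (PicF.XTmap f i).ker = ⊥ := by
    rw [hker]
    refine PicH1Lib.comap_mul_self_eq_bot _ _ (PicH1Lib.ker_mul_ker_eq_bot _ _ ?_)
    rw [Ideal.mk_ker, ← pow_two, hI]
  haveI : Coh.IsQCoh (ClSub.idealMod (PicF.XTmap f i).ker) := SweepSix.ConormalSpec.isQCoh_idealMod _
  haveI : IsProper (PicF.XTproj f T) := MorphismProperty.pullback_snd f _ ‹IsProper f›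
  haveI : IsAffine T.left := inferInstanceAs (IsAffine (Spec (CommRingCat.of R)))
  have h2 : Subsingleton (Coh.HH (PicF.XT f T) (ClSub.idealMod (PicF.XTmap f i).ker) 2) :=
    FibVanLib.subsingleton_HH_affine (PicF.XTproj f T) 1
      (fun s => (FibDimLib.topologicalKrullDim_fiber_baseChange (IsPullback.of_hasPullback f T.hom) s).le.trans
        (hdim _)) _ 2 (by omega)
  obtain ⟨L, hL, ⟨e⟩⟩ := PicH1Lib.exists_pullback_iso (PicF.XTmap f i) hsq h2 hL₀
  have h : i ≫ φ T (PicF.cl L) = τ₀ := by
    rw [← hP.natural T T₀ i _ ⟨L, rfl, hL⟩]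
    exact (congrArg (φ T₀) (EllLawLib.toCl_eq.2 (cl_eq_iff.2 ⟨e⟩))).trans hcτ
  exact ⟨(φ T (PicF.cl L)).left, congrArg CommaMorphism.left h, Over.w (φ T (PicF.cl L))⟩

/-- **The Picard scheme of a relative curve is smooth.** -/
theorem smooth_pic (hdim : ∀ s : S, topologicalKrullDim ↥(f.fiber s) = 1)
    (P : Over S) (φ : ∀ T : Over S, PicF.Cl (PicF.XT f T) → (T ⟶ P))
    (hP : AbDual.IsRelPicK Scheme.fppfPrecoverage f P φ) [LocallyOfFinitePresentation P.hom] :
    Smooth P.hom := by
  have hne : ∀ s : S, Nonempty (f.fiber s) := fun s => by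
    by_contra hn
    haveI := not_nonempty_iff.1 hn
    have h := hdim s
    haveI : IsEmpty (IrreducibleCloseds ↥(f.fiber s)) := ⟨fun Z => Z.2.1.elim fun x _ => isEmptyElim x⟩
    rw [topologicalKrullDim, Order.krullDim_eq_bot] at h
    exact absurd h (by simp)
  obtain ⟨S', g, hg, hgs, h, hh⟩ := exists_etale_cover_section f hne
  haveI := hg
  haveI := hgs
  have hB := AVDualLib.isRelPicK_bc (X := Over.mk f) g hP
  let f' := (Red.bc g (Over.mk f)).hom
  have hsq : IsPullback (pullback.fst f g) f' f g := IsPullback.of_hasPullback f g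
  haveI : IsProper f' := MorphismProperty.pullback_snd f g ‹IsProper f›
  haveI : Flat f' := MorphismProperty.pullback_snd f g ‹Flat f›
  haveI : LocallyOfFinitePresentation f' := MorphismProperty.pullback_snd f g ‹LocallyOfFinitePresentation f›
  haveI : GeometricallyConnected f' := MorphismProperty.pullback_snd f g ‹GeometricallyConnected f›
  haveI : GeometricallyReduced f' := MorphismProperty.pullback_snd f g ‹GeometricallyReduced f›
  haveI : LocallyOfFinitePresentation (Red.bc g P).hom :=
    MorphismProperty.pullback_snd P.hom g ‹LocallyOfFinitePresentation P.hom›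
  haveI : Smooth (Red.bc g P).hom := smooth_pic_of_section f'
    (fun s => (FibDimLib.topologicalKrullDim_fiber_baseChange hsq s).le.trans (hdim _).le)
    (pullback.lift h (𝟙 S') (show h ≫ f = 𝟙 S' ≫ g by rw [hh, Category.id_comp])) (pullback.lift_snd _ _ _) (Red.bc g P) _ hB
  haveI : Smooth (pullback.fst P.hom g ≫ P.hom) := by
    rw [pullback.condition]
    exact inferInstanceAs (Smooth ((Red.bc g P).hom ≫ g))
  exact Groth.Agent.S0115.result (pullback.fst P.hom g) P.hom

end PicCurveLib

end
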