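import Groth.Agent.PicCurveLib.Reach
import Groth.Agent.PicCurveLib.PicZeroDim
import Groth.Agent.PicCurveLib.SmoothPic
import Groth.Agent.CubeConsLib.PicSep
import Groth.Agent.WeilResLib.GeomConn

/-!
# The Jacobian of a family of smooth curves inside its Picard scheme
-/

set_option autoImplicit false
set_option linter.style.haveILetI false
set_option linter.unusedSectionVars false
set_option backward.isDefEq.respectTransparency false
set_option backward.isDefEq.respectTransparency.types false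
set_option maxRecDepth 8000
set_option maxHeartbeats 1000000
set_option synthInstance.maxHeartbeats 100000

universe u

open CategoryTheory CategoryTheory.Limits AlgebraicGeometry TopologicalSpace
open CubeConsLib (pull pull_comp pull_cl cl cl_eq_iff cl_tensor IsoCls)

noncomputable section

namespace PicCurveLib

variable {C S : Scheme.{u}} {f : C ⟶ S} [IsProper f] [Flat f] [LocallyOfFinitePresentation f] (hf : Fam f)
  {P : Over S} {φ : ∀ T : Over S, PicF.Cl (PicF.XT f T) → (T ⟶ P)}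
  (hP : AbDual.IsRelPicK Scheme.fppfPrecoverage f P φ)
  {P₀ : Over S} {φ₀ : ∀ T : Over S, PicF.Cl (PicF.XT f T) → (T ⟶ P₀)}
  (hP₀ : AbDual.IsRelPicZeroK Scheme.fppfPrecoverage f P₀ φ₀)
  (j : P₀ ⟶ P) (hj : ∀ (T : Over S) (c : PicF.Cl (PicF.XT f T)), AbDual.IsPicZeroCl f T c → φ₀ T c ≫ j = φ T c)

include hf hP hP₀ hj

omit hf in
theorem mono_jac : Mono j := ⟨fun {T} a b hab => by
  obtain ⟨R, hR, hR'⟩ := hP₀.locallySurjective T a
  refine CubeConsLib.hom_ext_fppf hR fun U u hu => ?_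
  obtain ⟨c, hc, hca⟩ := hR' u hu
  obtain ⟨R', hR₂, hR₂'⟩ := hP₀.locallySurjective (AbDual.ovr T u) (AbDual.ovrHom T u ≫ b)
  refine CubeConsLib.hom_ext_fppf hR₂ fun V v hv => ?_
  obtain ⟨c', hc', hcb⟩ := hR₂' v hv
  let i := AbDual.ovrHom (AbDual.ovr T u) v
  have hci : AbDual.IsPicZeroCl f (AbDual.ovr (AbDual.ovr T u) v) (PicF.pullCl (PicF.XTmap f i) c) :=
    CubeConsLib.isPicZeroCl_XTmap (A := Over.mk f) i hc
  have hinv : ∀ {T : Over S} {c : PicF.Cl (PicF.XT f T)}, AbDual.IsPicZeroCl f T c → PicF.IsInvertibleCl c :=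
    fun ⟨L, e, hL, _⟩ => ⟨L, e, hL⟩
  have he : φ _ (PicF.pullCl (PicF.XTmap f i) c) = φ _ c' := by
    rw [← hj _ _ hci, ← hj _ _ hc', hP₀.natural _ _ i c hc, hca, hcb]
    simp only [Category.assoc]
    exact congrArg (i ≫ ·) (congrArg (AbDual.ovrHom T u ≫ ·) hab)
  obtain ⟨R'', hR₃, hR₃'⟩ := hP.locallyInjective _ _ _ (hinv hci) (hinv hc') he
  refine CubeConsLib.hom_ext_fppf hR₃ fun W w hw => ?_
  rw [show AbDual.ovrHom (AbDual.ovr T u) v ≫ AbDual.ovrHom T u ≫ a =
    φ₀ _ (PicF.pullCl (PicF.XTmap f i) c) by rw [hP₀.natural _ _ i c hc, hca], ← hcb,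
    ← hP₀.natural _ _ _ _ hci, ← hP₀.natural _ _ _ _ hc', hR₃' w hw]⟩

/-- **`Pic⁰` is the open and closed locus of degree zero.** -/
theorem openClosed_jac : IsOpenImmersion j.left ∧ IsClosedImmersion j.left := by
  haveI := mono_jac hP hP₀ j hj
  have hdim : ∀ s : S, topologicalKrullDim ↥(f.fiber s) ≤ 1 := fun s => (hf.dim s).le
  obtain ⟨d, hd, hdφ⟩ := exists_degree f hdim P φ hP
  let O : P.left.Opens := ⟨d ⁻¹' {0}, hd.isOpen_fiber 0⟩
  have hclosed : IsClosed (O : Set P.left) := hd.isClosed_fiber 0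
  have hrange : Set.range j.left ⊆ Set.range O.ι := by
    rw [Scheme.Opens.range_ι]
    rintro _ ⟨x, rfl⟩
    obtain ⟨R, hR, hR'⟩ := hP₀.locallySurjective P₀ (𝟙 P₀)
    obtain ⟨U, u, y, hu, rfl⟩ := CubeConsLib.exists_mem_fppf hR x
    obtain ⟨c, hc, hcu⟩ := hR' u hu
    obtain ⟨L, rfl, hL, hLa⟩ := hc
    have h1 := congrArg CommaMorphism.left ((hj _ _ ⟨L, rfl, hL, hLa⟩).symm.trans (congrArg (· ≫ j) hcu))
    show d (j.left (u y)) = 0
    rw [show j.left (u y) = (φ _ (PicF.cl L)).left y from (congrArg (fun z : U ⟶ P.left => z y) h1).symm, hdφ _ L hL y]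
    exact (isPicZeroCl_iff hf _ hL).1 ⟨L, rfl, hL, hLa⟩ y
  let j' : P₀.left ⟶ O.toScheme := IsOpenImmersion.lift O.ι j.left hrange
  have hj' : j' ≫ O.ι = j.left := IsOpenImmersion.lift_fac _ _ _
  haveI hmono : Mono j' := ⟨fun {W} a b hab => by
    have h : a ≫ j.left = b ≫ j.left := by rw [← hj', ← Category.assoc, hab, Category.assoc]
    have hw : a ≫ P₀.hom = b ≫ P₀.hom := by
      rw [← Over.w j, ← Category.assoc, h, Category.assoc]
    exact congrArg CommaMorphism.left ((cancel_mono j).1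
      (show (Over.homMk a rfl : Over.mk (a ≫ P₀.hom) ⟶ P₀) ≫ j = Over.homMk b hw.symm ≫ j from
        Over.OverMorphism.ext h))⟩
  let T : Over S := Over.mk (O.ι ≫ P.hom)
  obtain ⟨R, hR, hR'⟩ := hP.locallySurjective T (Over.homMk O.ι rfl)
  obtain ⟨U, g, hg, hgsurj, hUg⟩ := DescAppLib.exists_points_subfamily hR
  have hl : ∀ x, ∃ v : U x ⟶ P₀.left, v ≫ j' = g x := fun x => by
    obtain ⟨c, ⟨L, rfl, hL⟩, hcφ⟩ := hR' (g x) (hg x)
    have h0 : ∀ y, deg f _ L y = 0 := fun y => by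
      rw [← hdφ _ L hL y, hcφ]
      exact (g x y).2
    have hz := (isPicZeroCl_iff hf _ hL).2 h0
    refine ⟨(φ₀ _ (PicF.cl L)).left, (cancel_mono O.ι).1 ?_⟩
    rw [Category.assoc, hj']
    exact congrArg CommaMorphism.left ((hj _ _ hz).trans hcφ)
  choose v hv using hl
  haveI hflat : ∀ x, Flat (g x) := fun x => (hR.2 (hg x)).1
  haveI hlfp : ∀ x, LocallyOfFinitePresentation (g x) := fun x => (hR.2 (hg x)).2
  have hsur : Surjective (Sigma.desc g) := ⟨fun t => by
    obtain ⟨z, hz⟩ := hgsurj t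
    exact ⟨Sigma.ι U t z, by rw [← Scheme.Hom.comp_apply, Sigma.ι_desc]; exact hz⟩⟩
  have hfl : Flat (Sigma.desc g) := IsZariskiLocalAtSource.sigmaDesc (P := @Flat) hflat
  have hfp : LocallyOfFinitePresentation (Sigma.desc g) :=
    IsZariskiLocalAtSource.sigmaDesc (P := @LocallyOfFinitePresentation) hlfp
  have hsq : Sigma.desc v ≫ j' = 𝟙 _ ≫ Sigma.desc g := by
    rw [Category.id_comp]
    exact Sigma.hom_ext _ _ fun i => by rw [Sigma.ι_desc_assoc, hv, Sigma.ι_desc]
  haveI : IsSplitEpi (pullback.snd j' (Sigma.desc g)) :=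
    ⟨⟨⟨pullback.lift (Sigma.desc v) (𝟙 _) hsq, pullback.lift_snd _ _ _⟩⟩⟩
  haveI : IsIso (pullback.snd j' (Sigma.desc g)) := isIso_of_mono_of_isSplitEpi _
  haveI : IsIso j' :=
    MorphismProperty.of_pullback_snd_of_descendsAlong (P := MorphismProperty.isomorphisms Scheme.{u})
      (Q := @Surjective ⊓ @Flat ⊓ @LocallyOfFinitePresentation) (g := Sigma.desc g) ⟨⟨hsur, hfl⟩, hfp⟩ ‹_›
  rw [← hj']
  haveI : IsClosedImmersion O.ι :=
    IsClosedImmersion.iff_isPreimmersion.mpr ⟨inferInstance, by rw [Scheme.Opens.range_ι]; exact hclosed⟩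
  exact ⟨inferInstance, inferInstance⟩

omit hP hj in
/-- The points of `Pic⁰` with values in an algebraically closed field come from classes of degree zero. -/
theorem exists_class_zero {Ω : Type u} [Field Ω] [IsAlgClosed Ω] (q : Spec (CommRingCat.of Ω) ⟶ P₀.left) :
    ∃ L : (PicF.XT f (Over.mk (q ≫ P₀.hom))).Modules, PicF.IsInvertible L ∧
      (∀ t, deg f (Over.mk (q ≫ P₀.hom)) L t = 0) ∧
      φ₀ (Over.mk (q ≫ P₀.hom)) (PicF.cl L) = Over.homMk q rfl := by
  let T : Over S := Over.mk (q ≫ P₀.hom)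
  obtain ⟨R, hR, hR'⟩ := hP₀.locallySurjective T (Over.homMk q rfl)
  obtain ⟨U, u, y, hu, -⟩ := CubeConsLib.exists_mem_fppf hR (IsLocalRing.closedPoint Ω)
  obtain ⟨c, hc, hcu⟩ := hR' u hu
  haveI : LocallyOfFinitePresentation (show U ⟶ Spec (CommRingCat.of Ω) from u) := (hR.2 hu).2
  haveI : Nonempty U := ⟨y⟩
  obtain ⟨ω, hω⟩ := exists_section_of_isAlgClosed (show U ⟶ Spec (CommRingCat.of Ω) from u)
  let i : T ⟶ AbDual.ovr T u := Over.homMk ω (by
    show ω ≫ u ≫ T.hom = T.hom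
    rw [← Category.assoc]
    exact (congrArg (· ≫ T.hom) hω).trans (Category.id_comp _))
  have hi := CubeConsLib.isPicZeroCl_XTmap (A := Over.mk f) i hc
  obtain ⟨L, hLe, hL, hLa⟩ := hi
  refine ⟨L, hL, (isPicZeroCl_iff hf T hL).1 ⟨L, rfl, hL, hLa⟩, ?_⟩
  rw [hLe]
  exact (hP₀.natural _ _ i c hc).trans ((congrArg (i ≫ ·) hcu).trans
    (Over.OverMorphism.ext (show ω ≫ u ≫ q = q by
      rw [← Category.assoc]; exact (congrArg (· ≫ q) hω).trans (Category.id_comp _))))

omit hP hj in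
/-- Differences of `n` pairs of points cover the fibres of genus at most `n`. -/
theorem exists_cover_map (n : ℕ) :
    ∃ (W : Over S) (a : W ⟶ P₀), (IsProper W.hom ∧ GeometricallyConnected W.hom) ∧
      ∀ x : P₀.left, CohIII.fiberRank f (Coh.structureModule C) 1 (P₀.hom x) ≤ n → x ∈ Set.range a.left := by
  obtain ⟨W, M, ⟨hp, -, -, hgc⟩, hM, hM0, huniv⟩ := exists_diff_family hf n
  refine ⟨W, φ₀ W (PicF.cl M), ⟨hp, hgc⟩, fun x hx => ?_⟩
  obtain ⟨Ω, _, _, ⟨ω⟩⟩ := AlgEquivLib.exists_geom P₀.left x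
  let q : Spec (CommRingCat.of Ω) ⟶ P₀.left := ω ≫ P₀.left.fromSpecResidueField x
  have hq : q (IsLocalRing.closedPoint Ω) = x := Scheme.fromSpecResidueField_apply x _
  let T : Over S := Over.mk (q ≫ P₀.hom)
  obtain ⟨L, hL, h0, hφ⟩ := exists_class_zero hf hP₀ q
  obtain ⟨xs, ys, hxy⟩ := exists_points_of_deg_zero hf (q ≫ P₀.hom) hL h0 n
    (by rw [Scheme.Hom.comp_apply, hq]; exact hx)
  obtain ⟨w, hw⟩ := huniv T _ xs ys hxy
  have h : w ≫ φ₀ W (PicF.cl M) = Over.homMk q rfl := by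
    rw [← hP₀.natural W T w _ ((isPicZeroCl_iff hf W hM).2 hM0), ← hφ]
    exact congrArg (φ₀ T) (EllLawLib.toCl_eq.2 hw)
  refine ⟨w.left (IsLocalRing.closedPoint Ω), ?_⟩
  rw [← Scheme.Hom.comp_apply]
  exact (congrArg (fun z : T ⟶ P₀ => z.left (IsLocalRing.closedPoint Ω)) h).trans hq

omit hP hj in
theorem isProper_picZero [IsSeparated P₀.hom] [LocallyOfFiniteType P₀.hom] : IsProper P₀.hom := by
  obtain ⟨-, hfp, hfl⟩ := CohCmpLib.rank_one_hyps f
    ((CohCmpLib.invertible_iff_rank_one _).1 (CurvLib.isInvertible_structureModule (X := C)))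
  have hlc := CohCmpLib.isLocallyConstant_eulerChar hfp hfl
  haveI : UniversallyClosed P₀.hom := by
    refine IsZariskiLocalAtTarget.of_iSup_eq_top (P := @UniversallyClosed) (fun U : S.affineOpens => U.1)
      (iSup_affineOpens_eq_top S) fun V => ?_
    haveI : CompactSpace (V.1 : Set S) := isCompact_iff_compactSpace.1 V.2.isCompact
    obtain ⟨N, hN⟩ : ∃ N : ℕ, ∀ s ∈ (V.1 : Set S), CohIII.fiberRank f (Coh.structureModule C) 1 s ≤ N := by
      obtain ⟨N, hN⟩ := (((hlc.comp_continuous continuous_subtype_val).range_finite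
        (X := (V.1 : Set S))).image fun z : ℤ => z.natAbs + 1).bddAbove
      refine ⟨N, fun s hs => ?_⟩
      have h := hN ⟨_, ⟨⟨s, hs⟩, rfl⟩, rfl⟩
      have h1 := eulerChar_eq hf (CurvLib.isInvertible_structureModule (X := C)) s
      have h0 : CohIII.fiberRank f (Coh.structureModule C) 0 s ≤ 1 := by
        letI : (f.fiber s).Over (Spec (CommRingCat.of (S.residueField s))) := ⟨f.fiberToSpecResidueField s⟩
        have hW : Fam ((f.fiber s) ↘ Spec (CommRingCat.of (S.residueField s))) :=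
          hf.of_isPullback (IsPullback.of_hasPullback f (S.fromSpecResidueField s))
        exact le_of_eq (((CurvLib.hIso (k := S.residueField s) (KFlatLib.pullUnitIso (f.fiberι s)) 0).finrank_eq).trans
          (h0_structure (K := S.residueField s) hW))
      simp only [Function.comp] at h
      omega
    obtain ⟨W, a, ⟨hp, -⟩, hcov⟩ := exists_cover_map hf hP₀ N
    haveI := hp
    haveI : Surjective (a.left ∣_ (P₀.hom ⁻¹ᵁ V.1)) := ⟨fun y => by
      obtain ⟨w, hw⟩ := hcov y.1 (hN _ y.2)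
      exact ⟨⟨w, show a.left w ∈ (P₀.hom ⁻¹ᵁ V.1 : Set P₀.left) by rw [hw]; exact y.2⟩,
        Subtype.ext ((morphismRestrict_base_coe _ _ _).trans hw)⟩⟩
    haveI : UniversallyClosed ((a.left ∣_ (P₀.hom ⁻¹ᵁ V.1)) ≫ P₀.hom ∣_ V.1) := by
      rw [← morphismRestrict_comp]
      haveI : IsProper (a.left ≫ P₀.hom) := by rw [Over.w a]; exact hp
      exact MorphismProperty.of_isPullback (P := @UniversallyClosed)
        (isPullback_morphismRestrict (a.left ≫ P₀.hom) V.1).flip inferInstance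
    exact UniversallyClosed.of_comp_surjective (a.left ∣_ (P₀.hom ⁻¹ᵁ V.1)) _
  exact IsProper.mk

omit hP hj in
theorem geometricallyConnected_picZero : GeometricallyConnected P₀.hom := by
  refine Groth.Agent.WeilRes.geometricallyConnected_of_geomPt P₀.hom fun s => ?_
  obtain ⟨W, a, ⟨-, hgc⟩, hcov⟩ := exists_cover_map hf hP₀ (CohIII.fiberRank f (Coh.structureModule C) 1 s)
  let Ω : Type u := AlgebraicClosure (S.residueField s)
  let t : Spec (CommRingCat.of Ω) ⟶ S := Red.geomPt s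
  haveI : ConnectedSpace ↥(pullback W.hom t) :=
    hgc.geometrically_connectedSpace _ _ _ (IsPullback.of_hasPullback W.hom t)
  let b : pullback W.hom t ⟶ pullback P₀.hom t :=
    pullback.lift (pullback.fst W.hom t ≫ a.left) (pullback.snd W.hom t)
      (by rw [Category.assoc, Over.w a, pullback.condition])
  have H : IsPullback b (pullback.fst W.hom t) (pullback.fst P₀.hom t) a.left := by
    refine IsPullback.of_right ?_ (pullback.lift_fst _ _ _) (IsPullback.of_hasPullback P₀.hom t).flip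
    rw [Over.w a, pullback.lift_snd]
    exact (IsPullback.of_hasPullback W.hom t).flip
  have hb : Function.Surjective b := fun y => by
    have hy : P₀.hom (pullback.fst P₀.hom t y) = s := by
      rw [← Scheme.Hom.comp_apply, pullback.condition, Scheme.Hom.comp_apply]
      exact Scheme.fromSpecResidueField_apply s _
    obtain ⟨w, hw⟩ := hcov _ (by rw [hy])
    obtain ⟨z, hz1, -⟩ := Scheme.Pullback.exists_preimage_pullback (f := pullback.fst P₀.hom t) (g := a.left) y w hw.symm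
    refine ⟨H.isoPullback.inv z, ?_⟩
    rw [← Scheme.Hom.comp_apply, H.isoPullback_inv_fst]
    exact hz1
  exact hb.connectedSpace b.continuous

/-- **The Jacobian of a family of smooth curves.** -/
theorem jacobian_props [Smooth f] [GeometricallyConnected f] [LocallyOfFinitePresentation P.hom] :
    IsOpenImmersion j.left ∧ IsClosedImmersion j.left ∧ IsProper P₀.hom ∧ Smooth P₀.hom ∧
      GeometricallyConnected P₀.hom := by
  obtain ⟨ho, hc⟩ := openClosed_jac hf hP hP₀ j hj
  haveI := ho; haveI := hc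
  haveI : GeometricallyReduced f := AbSchLib.geometricallyReduced_of_smooth f
  haveI := FibVALib.geometricallyIntegral_of_geometricallyConnected f
  haveI : Smooth P.hom := smooth_pic f hf.dim P φ hP
  haveI : IsSeparated P.hom := CubeConsLib.isSeparated_of_isRelPicK f hP
  haveI : Smooth P₀.hom := by rw [← Over.w j]; infer_instance
  haveI : IsSeparated P₀.hom := by rw [← Over.w j]; infer_instance
  exact ⟨ho, hc, isProper_picZero hf hP₀, inferInstance, geometricallyConnected_picZero hf hP₀⟩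

end PicCurveLib

end
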