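import Groth.Agent.PicCurveLib.PicZeroRig
import Groth.Agent.PicCurveLib.JacFamily

/-!
# From a universal rigidified class to the sheafified Picard functors
-/

set_option autoImplicit false
set_option linter.style.haveILetI false
set_option linter.unusedSectionVars false
set_option backward.isDefEq.respectTransparency false
set_option backward.isDefEq.respectTransparency.types false
set_option maxRecDepth 8000
set_option maxHeartbeats 1000000

universe u

open CategoryTheory CategoryTheory.Limits AlgebraicGeometry TopologicalSpace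
open CubeConsLib (pull pull_comp pull_cl cl cl_eq_iff cl_tensor IsoCls)

noncomputable section

namespace PicCurveLib

variable {C S : Scheme.{u}} {f : C ⟶ S} {σ : S ⟶ C} {hσ : σ ≫ f = 𝟙 S}
  {P : Over S} {ξ : PicF.Rig f σ hσ P}
  (huniv : ∀ (T : Over S) (c : PicF.Rig f σ hσ T), ∃! g : T ⟶ P, PicF.pullCl (PicF.XTmap f g) ξ.1 = c.1)
include huniv

theorem pull_secT_proj (T : Over S) (n : IsoCls T.left) :
    pull (PicF.secT f σ hσ T) (pull (PicF.XTproj f T) n) = n := by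
  rw [pull_comp, DescAppLib.secT_proj, DescAppLib.pull_id]

/-- A universal rigidified class represents the relative Picard functor. -/
theorem exists_isRelPicK : ∃ φ : ∀ T : Over S, PicF.Cl (PicF.XT f T) → (T ⟶ P),
    AbDual.IsRelPicK Scheme.fppfPrecoverage f P φ := by
  classical
  obtain ⟨⟨N, hNc, hN⟩, htr⟩ := ξ.2
  rw [← hNc] at htr
  have hNr : pull (PicF.secT f σ hσ P) (cl N) = 1 := EllLawLib.toCl_eq.1 htr
  have rigN : ∀ {T : Over S} (g : T ⟶ P), pull (PicF.secT f σ hσ T) (pull (PicF.XTmap f g) (cl N)) = 1 := fun g => by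
    rw [pull_comp, DescAppLib.secT_natural, ← pull_comp, hNr, map_one]
  let Q : ∀ T : Over S, PicF.Cl (PicF.XT f T) → (T ⟶ P) → Prop := fun T c g =>
    ∃ (L : (PicF.XT f T).Modules) (n : IsoCls T.left), PicF.cl L = c ∧ InvC n ∧
      pull (PicF.XTmap f g) (cl N) = cl L * pull (PicF.XTproj f T) n
  have ex : ∀ (T : Over S) (L : (PicF.XT f T).Modules), PicF.IsInvertible L → ∃ g, Q T (PicF.cl L) g := by
    intro T L hL
    obtain ⟨c', n, hc', hn, hr, e⟩ := exists_rigid (f := f) (σ := σ) (hσ := hσ) (g := T.hom) (c := cl L) ⟨L, hL, rfl⟩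
    obtain ⟨M, hM, rfl⟩ := hc'
    obtain ⟨g, hg, -⟩ := huniv T ⟨PicF.cl M, ⟨M, rfl, hM⟩, EllLawLib.toCl_eq.2 hr⟩
    rw [← hNc] at hg
    exact ⟨g, L, n, rfl, hn, (EllLawLib.toCl_eq.1 hg).trans e⟩
  have uniq : ∀ (T : Over S) (c : PicF.Cl (PicF.XT f T)) (g g' : T ⟶ P), Q T c g → Q T c g' → g = g' := by
    rintro T c g g' ⟨L, n, hL, hn, e⟩ ⟨L', n', hL', hn', e'⟩
    have eL : cl L = cl L' := EllLawLib.toCl_eq.1 (hL.trans hL'.symm)
    have h : pull (PicF.XTmap f g) (cl N) = pull (PicF.XTmap f g') (cl N) := by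
      refine eq_of_rigid (σ := σ) (hσ := hσ) (g := T.hom) (InvC.pull ⟨N, hN, rfl⟩ _) (rigN g) (rigN g') (n := n') (n' := n) hn' ?_
      rw [e, e', eL]
      exact mul_right_comm _ _ _
    refine (huniv T ⟨PicF.cl ((Scheme.Modules.pullback (PicF.XTmap f g)).obj N),
      ⟨_, rfl, AmpleDevLib.isInvertible_pb _ hN⟩, EllLawLib.toCl_eq.2 (rigN g)⟩).unique ?_ ?_
    · rw [← hNc]; rfl
    · rw [← hNc]; exact EllLawLib.toCl_eq.2 h.symm
  have ex' : ∀ (T : Over S) (c : PicF.Cl (PicF.XT f T)), PicF.IsInvertibleCl c → ∃ g, Q T c g := by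
    rintro T _ ⟨L, rfl, hL⟩
    exact ex T L hL
  obtain ⟨g₀, hg₀⟩ : ∃ g₀ : ∀ T : Over S, T ⟶ P, True :=
    ⟨fun T => (ex T _ CurvLib.isInvertible_structureModule).choose, trivial⟩
  let φ : ∀ T : Over S, PicF.Cl (PicF.XT f T) → (T ⟶ P) := fun T c =>
    if h : PicF.IsInvertibleCl c then (ex' T c h).choose else g₀ T
  have hφ : ∀ (T : Over S) (c : PicF.Cl (PicF.XT f T)), PicF.IsInvertibleCl c → Q T c (φ T c) := fun T c h => by
    simp only [φ, dif_pos h]
    exact Exists.choose_spec _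
  refine ⟨φ, ⟨fun T T' g c hc => ?_, fun T g => ?_, fun T c c' hc hc' e => ?_⟩⟩
  · obtain ⟨L, n, rfl, hn, e⟩ := hφ T c hc
    obtain ⟨L₁, hL₁, hL₁i⟩ := hc
    refine uniq T' (PicF.pullCl (PicF.XTmap f g) (PicF.cl L)) _ _ (hφ _ _ ?_) ?_
    · rw [← hL₁]; exact ⟨_, rfl, AmpleDevLib.isInvertible_pb (PicF.XTmap f g) hL₁i⟩
    · refine ⟨(Scheme.Modules.pullback (PicF.XTmap f g)).obj L, pull g.left n, rfl, hn.pull _, ?_⟩
      rw [← DescAppLib.XTmap_comp, ← pull_comp, e, map_mul, pull_comp (PicF.XTmap f g), DescAppLib.XTmap_proj,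
        ← pull_comp]
      rfl
  · refine ⟨_, Scheme.Hom.singleton_mem_fppfPrecoverage (𝟙 T.left), fun U u hu => ?_⟩
    obtain ⟨⟩ := hu
    let T' := AbDual.ovr T (𝟙 T.left)
    let h : T' ⟶ P := AbDual.ovrHom T (𝟙 T.left) ≫ g
    have hinv := AmpleDevLib.isInvertible_pb (PicF.XTmap f h) hN
    refine ⟨PicF.cl ((Scheme.Modules.pullback (PicF.XTmap f h)).obj N), ⟨_, rfl, hinv⟩,
      uniq _ _ _ _ (hφ _ _ ⟨_, rfl, hinv⟩) ⟨_, 1, rfl, ⟨_, CurvLib.isInvertible_structureModule, rfl⟩, ?_⟩⟩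
    rw [map_one, mul_one]
    rfl
  · obtain ⟨L, n, rfl, hn, eL⟩ := hφ T c hc
    obtain ⟨L', n', rfl, hn', eL'⟩ := hφ T c' hc'
    rw [e, eL'] at eL
    obtain ⟨d, hd, hnd⟩ := hn.exists_inv
    obtain ⟨D, hD, hDc⟩ := hn'.mul hd
    have key : cl L = cl L' * pull (PicF.XTproj f T) (cl D) := by
      have hu : pull (PicF.XTproj f T) n * pull (PicF.XTproj f T) d = 1 := by rw [← map_mul, hnd, map_one]
      rw [hDc, map_mul, ← mul_assoc, eL, mul_assoc, hu, mul_one]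
    choose V e' hxV hV using fun x : T.left => TwistLib.exists_genOn hD x
    let 𝒰 : T.left.OpenCover := T.left.openCoverOfIsOpenCover V
      (eq_top_iff.mpr fun x _ => Opens.mem_iSup.mpr ⟨x, hxV x⟩)
    refine ⟨_, Scheme.zariskiPrecoverage_le_fppfPrecoverage _ 𝒰.mem₀, fun U u hu => ?_⟩
    obtain ⟨i⟩ := hu
    have hDV : pull (V i).ι (cl D) = 1 := CubeConsLib.cl_eq_one_iff.2 (CubeLib.trivial_of_genOn_top
      (CubeLib.genOn_puSecLE (V i).ι (hV i) (le_of_eq (V i).ι_preimage_self.symm)))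
    refine EllLawLib.toCl_eq.2 ?_
    show pull _ (cl L) = pull _ (cl L')
    rw [key, map_mul, pull_comp, DescAppLib.XTmap_proj, ← pull_comp]
    show _ * pull (PicF.XTproj f (AbDual.ovr T (V i).ι)) (pull (V i).ι (cl D)) = _
    rw [hDV, map_one, mul_one]

omit huniv

/-- The open and closed subscheme of degree zero represents `Pic⁰`. -/
theorem exists_picZero (hf : Fam f) [IsProper f] [Flat f] [LocallyOfFinitePresentation f]
    {φ : ∀ T : Over S, PicF.Cl (PicF.XT f T) → (T ⟶ P)} (hP : AbDual.IsRelPicK Scheme.fppfPrecoverage f P φ) :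
    ∃ (P₀ : Over S) (φ₀ : ∀ T : Over S, PicF.Cl (PicF.XT f T) → (T ⟶ P₀)) (j : P₀ ⟶ P),
      AbDual.IsRelPicZeroK Scheme.fppfPrecoverage f P₀ φ₀ ∧
      ∀ (T : Over S) (c : PicF.Cl (PicF.XT f T)), AbDual.IsPicZeroCl f T c → φ₀ T c ≫ j = φ T c := by
  classical
  have hdim : ∀ s : S, topologicalKrullDim ↥(f.fiber s) ≤ 1 := fun s => (hf.dim s).le
  obtain ⟨d, hd, hdφ⟩ := exists_degree f hdim P φ hP
  let O : P.left.Opens := ⟨d ⁻¹' {0}, hd.isOpen_fiber 0⟩
  let P₀ : Over S := Over.mk (O.ι ≫ P.hom)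
  let j : P₀ ⟶ P := Over.homMk O.ι rfl
  haveI : IsOpenImmersion j.left := inferInstanceAs (IsOpenImmersion O.ι)
  have monoj : ∀ {T : Over S} (a b : T ⟶ P₀), a ≫ j = b ≫ j → a = b := fun a b h =>
    Over.OverMorphism.ext ((cancel_mono O.ι).1 (congrArg CommaMorphism.left h))
  have inv : ∀ {T : Over S} {c : PicF.Cl (PicF.XT f T)}, AbDual.IsPicZeroCl f T c → PicF.IsInvertibleCl c :=
    fun ⟨L, e, hL, _⟩ => ⟨L, e, hL⟩
  have dz : ∀ {T : Over S} {c : PicF.Cl (PicF.XT f T)}, AbDual.IsPicZeroCl f T c → ∀ t, d ((φ T c).left t) = 0 := by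
    rintro T c ⟨L, rfl, hL, hLa⟩ t
    rw [hdφ T L hL t]
    exact (isPicZeroCl_iff hf T hL).1 ⟨L, rfl, hL, hLa⟩ t
  have exl : ∀ (T : Over S) (g : T ⟶ P), (∀ t, d (g.left t) = 0) → ∃ h : T ⟶ P₀, h ≫ j = g := by
    intro T g hg
    have hr : Set.range g.left ⊆ Set.range O.ι := by
      rw [Scheme.Opens.range_ι]; rintro _ ⟨t, rfl⟩; exact hg t
    exact ⟨Over.homMk (IsOpenImmersion.lift O.ι g.left hr) (by
      show IsOpenImmersion.lift O.ι g.left hr ≫ O.ι ≫ P.hom = T.hom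
      rw [← Category.assoc, IsOpenImmersion.lift_fac, Over.w g]), Over.OverMorphism.ext (IsOpenImmersion.lift_fac _ _ _)⟩
  have hone : ∀ T : Over S, AbDual.IsPicZeroCl f T (PicF.cl (Coh.structureModule (PicF.XT f T))) := fun T =>
    (isPicZeroCl_iff hf T CurvLib.isInvertible_structureModule).2 fun t => deg_structure T t
  let φ₀ : ∀ T : Over S, PicF.Cl (PicF.XT f T) → (T ⟶ P₀) := fun T c =>
    if h : AbDual.IsPicZeroCl f T c then (exl T _ (dz h)).choose else (exl T _ (dz (hone T))).choose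
  have hj : ∀ (T : Over S) (c : PicF.Cl (PicF.XT f T)), AbDual.IsPicZeroCl f T c → φ₀ T c ≫ j = φ T c := fun T c h => by
    simp only [φ₀, dif_pos h]
    exact (exl T _ (dz h)).choose_spec
  refine ⟨P₀, φ₀, j, ⟨fun T T' g c hc => ?_, fun T g => ?_, fun T c c' hc hc' e => ?_⟩, hj⟩
  · refine monoj _ _ ?_
    have hc' : AbDual.IsPicZeroCl f T' (PicF.pullCl (PicF.XTmap f g) c) :=
      CubeConsLib.isPicZeroCl_XTmap (A := Over.mk f) g hc
    rw [hj _ _ hc', hP.natural _ _ g c (inv hc), Category.assoc,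
      hj T c hc]
  · obtain ⟨R, hR, hR'⟩ := hP.locallySurjective T (g ≫ j)
    refine ⟨R, hR, fun U u hu => ?_⟩
    obtain ⟨c, ⟨L, rfl, hL⟩, hc⟩ := hR' u hu
    have hz : AbDual.IsPicZeroCl f (AbDual.ovr T u) (PicF.cl L) := (isPicZeroCl_iff hf _ hL).2 fun t => by
      rw [← hdφ _ L hL t, hc]
      exact (g.left (u t)).2
    exact ⟨PicF.cl L, hz, monoj _ _ (by rw [hj _ _ hz, hc, Category.assoc])⟩
  · exact hP.locallyInjective T c c' (inv hc) (inv hc') ((hj T c hc).symm.trans ((congrArg (· ≫ j) e).trans (hj T c' hc')))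

end PicCurveLib

end
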