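import Groth.Agent.PicCurveLib.Div
import Groth.Agent.HilbPtsLib.SymHilb
import Mathlib.AlgebraicGeometry.Sites.Representability

/-!
# Charts of the rigidified Picard functor of a family of curves
-/

set_option autoImplicit false
set_option linter.style.haveILetI false
set_option linter.unusedSectionVars false
set_option backward.isDefEq.respectTransparency false
set_option backward.isDefEq.respectTransparency.types false
set_option maxRecDepth 8000
set_option maxHeartbeats 1000000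

universe u

open CategoryTheory CategoryTheory.Limits AlgebraicGeometry TopologicalSpace Opposite
open CubeConsLib (pull pull_comp pull_cl cl cl_eq_iff cl_tensor IsoCls)
open EllLawLib (idCls isUnit_cl exists_inv_rep)
open HilbPts (m m_comp m_id m_fst m_snd isPullback_m)

noncomputable section

namespace PicCurveLib

variable {X S : Scheme.{u}} {f : X ⟶ S} {σ : S ⟶ X} {hσ : σ ≫ f = 𝟙 S} {T T' : Scheme.{u}} {g : T ⟶ S}
  {g' : T' ⟶ S}

/-- The pullback of a class of the total space. -/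
abbrev tw (a : IsoCls X) (g : T ⟶ S) : IsoCls (pullback f g) := pull (pullback.fst f g) a

theorem map_eq_iff {Y : Scheme.{u}} (ξ : RPt f σ hσ Y) (P : RPt f σ hσ T) (x : T ⟶ Y) :
    ξ.map x = P ↔ ∃ w : x ≫ ξ.g = P.g, pull (m f x w) ξ.c = P.c := by
  constructor
  · intro h
    have w : x ≫ ξ.g = P.g := congrArg RPt.g h
    refine ⟨w, ?_⟩
    have h2 := RPt.c_eq h.symm (show 𝟙 T ≫ (ξ.map x).g = P.g by rw [Category.id_comp]; exact w)
    refine Eq.trans ?_ h2.symm
    show _ = pull _ (pull (m f x rfl) ξ.c)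
    refine Eq.trans ?_ (pull_comp _ _ _).symm
    erw [m_comp]
    congr 2
  · rintro ⟨w, h⟩
    refine RPt.ext' w ?_
    show pull (m f x rfl) ξ.c = pull _ P.c
    rw [← h]
    refine Eq.trans ?_ (pull_comp _ _ _).symm
    erw [m_comp]
    congr 2

variable [SmoothOfRelativeDimension 1 f]

/-- The locus where a twist of a point is good, with its divisor. -/
theorem exists_good_div (hf : Fam f) {a : IsoCls X} (ha : InvC a) (P : RPt f σ hσ T) :
    ∃ (W : T.Opens) (I : (pullback f (W.ι ≫ P.g)).IdealSheafData),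
      IsDiv f (W.ι ≫ P.g) (pull (m f W.ι rfl) (P.c * tw a P.g)) I ∧
      GoodC f (W.ι ≫ P.g) (pull (m f W.ι rfl) (P.c * tw a P.g)) ∧
      ∀ (Z : Scheme.{u}) (g₁ : Z ⟶ S) (x : Z ⟶ T) (w : x ≫ P.g = g₁),
        GoodC f g₁ (pull (m f x w) (P.c * tw a P.g)) ↔ ∀ z, x z ∈ W := by
  obtain ⟨L, hL, eL⟩ := (show InvC P.c from P.inv).mul (ha.pull (pullback.fst f P.g))
  have key : ∀ (Z : Scheme.{u}) (g₁ : Z ⟶ S) (x : Z ⟶ T) (w : x ≫ P.g = g₁),
      GoodC f g₁ (pull (m f x w) (P.c * tw a P.g)) ↔ ∀ z, x z ∈ goodOpen (fam_snd hf P.g) hL := by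
    intro Z g₁ x w
    rw [← good_pb_iff (fam_snd hf P.g) hL (isPullback_m f x w), ← eL, pull_cl]
    exact ⟨fun h => h.good, fun h => ⟨_, AmpleDevLib.isInvertible_pb _ hL, rfl, h⟩⟩
  have hg : GoodC f ((goodOpen (fam_snd hf P.g) hL).ι ≫ P.g)
      (pull (m f (goodOpen (fam_snd hf P.g) hL).ι rfl) (P.c * tw a P.g)) :=
    (key _ _ _ rfl).2 fun z => z.2
  obtain ⟨I, hI⟩ := exists_isDiv hf hg
  exact ⟨_, I, hI, hg, key⟩

variable (hf : Fam f) {d : ℕ} {H : Over S} {Z : HilbD.Obj f d H} (hZ : HilbD.IsUniversal f d H Z)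
  {a : IsoCls X} (ha : InvC a)

include hf hZ ha

/-- **The chart of a twist and a degree.** -/
theorem exists_chart : ∃ (Y : Scheme.{u}) (ξ : RPt f σ hσ Y) (IY : (pullback f ξ.g).IdealSheafData),
    (∃ (j : Y ⟶ H.left) (w : j ≫ H.hom = ξ.g), IsOpenImmersion j ∧ Z.1.comap (m f j w) = IY) ∧
    GoodC f ξ.g (ξ.c * tw a ξ.g) ∧ IsDiv f ξ.g (ξ.c * tw a ξ.g) IY ∧
    Mor2.IsFinLocFreeOfDeg d (IY.subschemeι ≫ pullback.snd f ξ.g) ∧
    (∀ (T : Scheme.{u}) (x x' : T ⟶ Y), ξ.map x = ξ.map x' → x = x') ∧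
    ∀ (T : Scheme.{u}) (P : RPt f σ hσ T) (I : (pullback f P.g).IdealSheafData),
      GoodC f P.g (P.c * tw a P.g) → IsDiv f P.g (P.c * tw a P.g) I →
      Mor2.IsFinLocFreeOfDeg d (I.subschemeι ≫ pullback.snd f P.g) → ∃ x : T ⟶ Y, ξ.map x = P := by
  haveI := hf.proper
  have hZf : Mor2.IsFinLocFree (Z.1.subschemeι ≫ pullback.snd f H.hom) := Z.2.1
  obtain ⟨ζ, hζ, eζ⟩ := (invC_idCls (effCartier_of_finLocFree (g := H.hom) hZf)).exists_inv
  obtain ⟨N, hN, eN⟩ := hζ
  let U := goodOpen (fam_snd hf H.hom) hN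
  let gY : U.toScheme ⟶ S := U.ι ≫ H.hom
  let IY : (pullback f gY).IdealSheafData := Z.1.comap (m f U.ι rfl)
  have hIYd : Mor2.IsFinLocFreeOfDeg d (IY.subschemeι ≫ pullback.snd f gY) :=
    HilbPts.isFinLocFreeOfDeg_of_isPullback (HilbPts.isPullback_comap_m f U.ι rfl Z.1) Z.2
  let ζY : IsoCls (pullback f gY) := pull (m f U.ι rfl) ζ
  have hζY : GoodC f gY ζY := ⟨_, AmpleDevLib.isInvertible_pb _ hN, by show cl _ = pull _ ζ; rw [← eN]; rfl,
    (good_pb_iff (fam_snd hf H.hom) hN (isPullback_m f U.ι rfl)).2 fun z => z.2⟩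
  have eY : idCls IY * ζY = 1 := by
    show idCls (Z.1.comap _) * pull (m f U.ι rfl) ζ = 1
    rw [← pull_idCls_m (g := H.hom) hZf U.ι rfl, ← map_mul]
    exact (congrArg _ eζ).trans (map_one _)
  obtain ⟨a', ha', ea'⟩ := ha.exists_inv
  obtain ⟨c', n, hc', hn, hr, ec'⟩ :=
    exists_rigid (f := f) (σ := σ) (hσ := hσ) (g := gY) (hζY.inv.mul (ha'.pull (pullback.fst f gY)))
  have ec : c' * tw a gY = pull (pullback.snd f gY) n * ζY := by
    have h1 : pull (pullback.fst f gY) a' * tw a gY = 1 := by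
      rw [← map_mul, mul_comm, ea', map_one]
    calc c' * tw a gY = pull (pullback.snd f gY) n * ζY * (pull (pullback.fst f gY) a' * tw a gY) := by
          rw [ec']; ac_rfl
      _ = pull (pullback.snd f gY) n * ζY := by rw [h1, mul_one]
  let ξ : RPt f σ hσ U.toScheme := ⟨gY, c', hc', hr⟩
  have hgood : GoodC f gY (c' * tw a gY) := by rw [ec]; exact hζY.twist hf hn
  have hdiv : IsDiv f gY (c' * tw a gY) IY := by
    rw [ec]
    exact IsDiv.twist ⟨hIYd.1, 1, ⟨_, CurvLib.isInvertible_structureModule, rfl⟩, by rw [eY, map_one]⟩ hn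
  refine ⟨_, ξ, IY, ⟨U.ι, rfl, inferInstance, rfl⟩, hgood, hdiv, hIYd, fun T x x' h => ?_, fun T P I hP hI hId => ?_⟩
  · obtain ⟨w₀, hc⟩ := (map_eq_iff ξ (ξ.map x') x).1 h
    have w : x ≫ gY = x' ≫ gY := w₀
    change pull (m f x w) c' = pull (m f x' rfl) c' at hc
    have e1 : pull (m f x w) (c' * tw a gY) = pull (m f x' rfl) (c' * tw a gY) := by
      rw [map_mul, map_mul, hc]
      exact congrArg (_ * ·) ((pull_fst_m x w a).trans (pull_fst_m x' rfl a).symm)
    have h1 := hdiv.comap x w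
    rw [e1] at h1
    have hI := h1.unique hf (hgood.pull_m hf x' rfl) (hdiv.comap x' rfl)
    refine (cancel_mono U.ι).1 (HilbPts.SC.hom_eq_of_comap_eq f hZ (g := x' ≫ gY) (x ≫ U.ι) (x' ≫ U.ι)
      (by rw [Category.assoc]; exact w) (Category.assoc _ _ _) ?_)
    change (Z.1.comap (m f U.ι rfl)).comap (m f x w) = (Z.1.comap (m f U.ι rfl)).comap (m f x' rfl) at hI
    rwa [← Scheme.IdealSheafData.comap_comp, ← Scheme.IdealSheafData.comap_comp, m_comp, m_comp] at hI
  · obtain ⟨b, hb, hbI⟩ := HilbPts.SC.exists_hom f hZ I hId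
    obtain ⟨hIf, n₀, hn₀, e₀⟩ := hI
    let ζT : IsoCls (pullback f P.g) := pull (m f b hb) ζ
    have eT : idCls I * ζT = 1 := by
      show idCls I * pull (m f b hb) ζ = 1
      rw [← hbI, ← pull_idCls_m (g := H.hom) hZf b hb, ← map_mul]
      exact (congrArg _ eζ).trans (map_one _)
    have eP : P.c * tw a P.g = pull (pullback.snd f P.g) n₀ * ζT := by
      rw [← e₀]
      calc P.c * tw a P.g = idCls I * ζT * (P.c * tw a P.g) := by rw [eT, one_mul]
        _ = idCls I * (P.c * tw a P.g) * ζT := by ac_rfl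
    have hζT : GoodC f P.g ζT := by
      obtain ⟨n₁, hn₁, en₁⟩ := hn₀.exists_inv
      have := hP.twist hf hn₁
      rwa [eP, ← mul_assoc, ← map_mul, mul_comm n₁, en₁, map_one, one_mul] at this
    have hbU : ∀ z, b z ∈ U := by
      refine (good_pb_iff (fam_snd hf H.hom) hN (isPullback_m f b hb)).1 ?_
      refine GoodC.good (f := f) (g := P.g) ?_
      rw [show cl ((Scheme.Modules.pullback (m f b hb)).obj N) = ζT by rw [← pull_cl, eN]]
      exact hζT
    let l : T ⟶ U.toScheme := IsOpenImmersion.lift U.ι b (by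
      rw [Scheme.Opens.range_ι]; rintro _ ⟨z, rfl⟩; exact hbU z)
    have hl : l ≫ U.ι = b := IsOpenImmersion.lift_fac _ _ _
    have w : l ≫ ξ.g = P.g := by
      show l ≫ U.ι ≫ H.hom = P.g
      rw [← Category.assoc, hl, hb]
    refine ⟨l, (map_eq_iff ξ P l).2 ⟨w, ?_⟩⟩
    have el : pull (m f l w) c' * tw a P.g = pull (pullback.snd f P.g) (pull l n) * ζT := by
      have h := congrArg (pull (m f l w)) ec
      rw [map_mul, map_mul, pull_fst_m, pull_snd_m] at h
      refine h.trans (congrArg (_ * ·) ?_)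
      show pull (m f l w) (pull (m f U.ι rfl) ζ) = pull (m f b hb) ζ
      refine (pull_comp _ _ _).trans ?_
      erw [m_comp]
      congr 2
      simp only [hl]
    refine eq_of_rigid (σ := σ) (hσ := hσ) (hc'.pull _) ?_ P.rig (n := n₀) (n' := pull l n) hn₀ ?_
    · refine (pull_comp _ _ _).trans ?_
      erw [secT_m l w]
      exact (pull_comp _ _ _).symm.trans ((congrArg (pull l) hr).trans (map_one _))
    · refine (ha.pull (pullback.fst f P.g)).isUnit.mul_left_injective ?_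
      show pull (m f l w) c' * pull (pullback.snd f P.g) n₀ * tw a P.g = P.c * pull (pullback.snd f P.g) (pull l n) * tw a P.g
      rw [mul_right_comm, el, mul_right_comm P.c, eP]
      ac_rfl

end PicCurveLib

end
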