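import Groth.Agent.PicCurveLib.Fibre
import Groth.Agent.CubeConsLib.Transpose
import Groth.Agent.FibDimLib.FieldExt
import Groth.Prelude.Def_Pic13
import Groth.Prelude.Def_AbDual

/-!
# The degree of an invertible module on the fibres of a relative curve
-/

set_option autoImplicit false
set_option linter.style.haveILetI false
set_option linter.unusedSectionVars false
set_option backward.isDefEq.respectTransparency false
set_option backward.isDefEq.respectTransparency.types false
set_option maxRecDepth 8000
set_option maxHeartbeats 1000000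

universe u

open CategoryTheory CategoryTheory.Limits AlgebraicGeometry TopologicalSpace
open CubeConsLib (pull pull_comp pull_cl cl cl_eq_iff cl_tensor IsoCls)

noncomputable section

namespace PicCurveLib

variable {C S : Scheme.{u}} (f : C ⟶ S) [IsProper f] [Flat f] [LocallyOfFinitePresentation f]

/-- The Euler characteristic at a point with values in a field. -/
theorem chi_point (hdim : ∀ s : S, topologicalKrullDim ↥(f.fiber s) ≤ 1) {L : C.Modules}
    (hL : PicF.IsInvertible L) {K : Type u} [Field K] {Z : Scheme.{u}} [Z.Over (Spec (CommRingCat.of K))]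
    {g' : Z ⟶ C} {v : Spec (CommRingCat.of K) ⟶ S}
    (H : IsPullback g' (Z ↘ Spec (CommRingCat.of K)) f v) (z : Spec (CommRingCat.of K)) :
    chi K ((Scheme.Modules.pullback g').obj L) = PerfAux.eulerChar f L (v z) := by
  obtain ⟨-, hfp, hfl⟩ := CohCmpLib.rank_one_hyps f ((CohCmpLib.invertible_iff_rank_one _).1 hL)
  refine Eq.trans ?_ (CohCmpLib.euler_bc hfp hfl H z)
  haveI : IsProper (Z ↘ Spec (CommRingCat.of K)) := MorphismProperty.of_isPullback (P := @IsProper) H ‹_›
  haveI := CurvLib.isNoetherian K (X := Z)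
  have hd : topologicalKrullDim Z ≤ ((1 : ℕ) : WithBot ℕ∞) :=
    ((EllLawLib.dim_fiber_spec (Z ↘ Spec (CommRingCat.of K)) z).symm.trans
      (FibDimLib.topologicalKrullDim_fiber_baseChange H z)).le.trans (hdim _)
  rw [chi_eq]
  exact (CurvLib.euler_eq_sub fun n hn => CurvLib.subsingleton_HH_of_dim_le _ hd n (by omega)).symm

/-- The degree of a module on the fibre at a point. -/
def deg (T : Over S) (L : (PicF.XT f T).Modules) (t : T.left) : ℤ :=
  FGA.eulerCharLE (T.left.residueField t) (FGA.fibreAt f T t).left (FGA.restrFibre f T t L) 1 -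
    FGA.eulerCharLE (T.left.residueField t) (FGA.fibreAt f T t).left
      (Coh.structureModule (FGA.fibreAt f T t).left) 1

variable (hdim : ∀ s : S, topologicalKrullDim ↥(f.fiber s) ≤ 1)
include hdim

theorem dim_XT (T : Over S) (t : T.left) : topologicalKrullDim ↥((pullback.snd f T.hom).fiber t) ≤ 1 :=
  (FibDimLib.topologicalKrullDim_fiber_baseChange (IsPullback.of_hasPullback f T.hom) t).le.trans (hdim _)

/-- The degree through Euler characteristics on the total space. -/
theorem deg_eq (T : Over S) {L : (PicF.XT f T).Modules} (hL : PicF.IsInvertible L) (t : T.left) :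
    deg f T L t = PerfAux.eulerChar (pullback.snd f T.hom) L t -
      PerfAux.eulerChar (pullback.snd f T.hom) (Coh.structureModule _) t := by
  have key : ∀ {M : (PicF.XT f T).Modules}, PicF.IsInvertible M →
      chi (T.left.residueField t) (FGA.restrFibre f T t M) = PerfAux.eulerChar (pullback.snd f T.hom) M t :=
    fun {M} hM => (chi_point (K := T.left.residueField t) (Z := (FGA.fibreAt f T t).left)
      (pullback.snd f T.hom) (dim_XT f hdim T) hM (g' := pullback.fst (PicF.XTproj f T) (T.left.fromSpecResidueField t))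
      (v := T.left.fromSpecResidueField t) (IsPullback.of_hasPullback _ _) (IsLocalRing.closedPoint _)).trans
      (congrArg (PerfAux.eulerChar (pullback.snd f T.hom) M) (Scheme.fromSpecResidueField_apply t _))
  rw [← key hL, ← key (CurvLib.isInvertible_structureModule (X := pullback f T.hom))]
  exact congrArg (_ - ·) (chi_of_cl (K := T.left.residueField t) (M := Coh.structureModule (FGA.fibreAt f T t).left)
    (N := FGA.restrFibre f T t (Coh.structureModule _)) (map_one (pull _)).symm)

/-- The degree at the image of a point with values in a field. -/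
theorem deg_point (T : Over S) {L : (PicF.XT f T).Modules} (hL : PicF.IsInvertible L) {K : Type u} [Field K]
    {Z : Scheme.{u}} [Z.Over (Spec (CommRingCat.of K))] {g' : Z ⟶ PicF.XT f T}
    {v : Spec (CommRingCat.of K) ⟶ T.left}
    (H : IsPullback g' (Z ↘ Spec (CommRingCat.of K)) (PicF.XTproj f T) v) (z : Spec (CommRingCat.of K)) :
    chi K ((Scheme.Modules.pullback g').obj L) - chi K (Coh.structureModule Z) = deg f T L (v z) := by
  have h1 := chi_point (pullback.snd f T.hom) (dim_XT f hdim T) hL H z
  have hO := CurvLib.isInvertible_structureModule (X := pullback f T.hom)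
  have h3 := chi_point (pullback.snd f T.hom) (dim_XT f hdim T) hO H z
  rw [chi_of_cl (show cl ((Scheme.Modules.pullback g').obj (Coh.structureModule _)) =
    cl (Coh.structureModule Z) from map_one (pull g'))] at h3
  rw [h1, h3, deg_eq f hdim T hL]

theorem deg_congr (T : Over S) {L M : (PicF.XT f T).Modules} (e : cl L = cl M) (t : T.left) :
    deg f T L t = deg f T M t :=
  congrArg (· - _) (chi_of_cl (K := T.left.residueField t) (M := FGA.restrFibre f T t L)
    (N := FGA.restrFibre f T t M) (congrArg (pull _) e))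

/-- The degree is compatible with base change. -/
theorem deg_map {T T' : Over S} (g : T' ⟶ T) {L : (PicF.XT f T).Modules} (hL : PicF.IsInvertible L) (t' : T'.left) :
    deg f T' ((Scheme.Modules.pullback (PicF.XTmap f g)).obj L) t' = deg f T L (g.left t') := by
  let pr := pullback.fst (PicF.XTproj f T') (T'.left.fromSpecResidueField t')
  have h := deg_point (K := T'.left.residueField t') (Z := (FGA.fibreAt f T' t').left) f hdim T hL
    (g' := pr ≫ PicF.XTmap f g) (v := T'.left.fromSpecResidueField t' ≫ g.left)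
    ((IsPullback.of_hasPullback _ _).paste_horiz (DescAppLib.isPullback_XTmap f g)) (IsLocalRing.closedPoint _)
  refine Eq.trans ?_ (h.trans (congrArg (deg f T L)
    (congrArg g.left (Scheme.fromSpecResidueField_apply t' _))))
  refine congrArg (· - _) (chi_of_cl (K := T'.left.residueField t')
    (M := FGA.restrFibre f T' t' ((Scheme.Modules.pullback (PicF.XTmap f g)).obj L))
    (N := (Scheme.Modules.pullback (pr ≫ PicF.XTmap f g)).obj L) ?_)
  show pull pr (pull (PicF.XTmap f g) (cl L)) = pull _ (cl L)
  rw [pull_comp]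

/-- The degree is locally constant. -/
theorem isLocallyConstant_deg (T : Over S) {L : (PicF.XT f T).Modules} (hL : PicF.IsInvertible L) :
    IsLocallyConstant (deg f T L) := by
  have key : deg f T L = fun t => PerfAux.eulerChar (pullback.snd f T.hom) L t -
      PerfAux.eulerChar (pullback.snd f T.hom) (Coh.structureModule _) t := funext fun t => deg_eq f hdim T hL t
  obtain ⟨-, hfp, hfl⟩ := CohCmpLib.rank_one_hyps (pullback.snd f T.hom) ((CohCmpLib.invertible_iff_rank_one _).1 hL)
  obtain ⟨-, hfp', hfl'⟩ := CohCmpLib.rank_one_hyps (pullback.snd f T.hom)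
    ((CohCmpLib.invertible_iff_rank_one _).1 (CurvLib.isInvertible_structureModule (X := pullback f T.hom)))
  rw [key]
  exact (CohCmpLib.isLocallyConstant_eulerChar hfp hfl).comp₂
    (CohCmpLib.isLocallyConstant_eulerChar hfp' hfl') (· - ·)

/-- A scheme carrying the sheafified relative Picard functor has a degree function. -/
theorem exists_degree (P : Over S) (φ : ∀ T : Over S, PicF.Cl (PicF.XT f T) → (T ⟶ P))
    (hP : AbDual.IsRelPicK Scheme.fppfPrecoverage f P φ) :
    ∃ d : ↥P.left → ℤ, IsLocallyConstant d ∧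
      ∀ (T : Over S) (L : (PicF.XT f T).Modules), PicF.IsInvertible L → ∀ t : T.left,
        d ((φ T (PicF.cl L)).left t) = deg f T L t := by
  have nat : ∀ {A B : Over S} (v : B ⟶ A) (L : (PicF.XT f A).Modules), PicF.IsInvertible L →
      φ B (PicF.cl ((Scheme.Modules.pullback (PicF.XTmap f v)).obj L)) = v ≫ φ A (PicF.cl L) :=
    fun v L hL => hP.natural _ _ v (PicF.cl L) ⟨L, rfl, hL⟩
  let D : P.left → ℤ → Prop := fun p n => ∃ (T : Over S) (L : (PicF.XT f T).Modules) (t : T.left),
    PicF.IsInvertible L ∧ (φ T (PicF.cl L)).left t = p ∧ deg f T L t = n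
  have uniq : ∀ p n n', D p n → D p n' → n = n' := by
    rintro p n n' ⟨T, L, t, hL, hp, rfl⟩ ⟨T', L', t', hL', hp', rfl⟩
    let a₀ := (φ T (PicF.cl L)).left
    let b₀ := (φ T' (PicF.cl L')).left
    obtain ⟨z, hz1, hz2⟩ := Scheme.Pullback.exists_preimage_pullback (f := a₀) (g := b₀) t t' (hp.trans hp'.symm)
    let W : Over S := Over.mk (pullback.fst a₀ b₀ ≫ T.hom)
    let a : W ⟶ T := Over.homMk (pullback.fst a₀ b₀) rfl
    let b : W ⟶ T' := Over.homMk (pullback.snd a₀ b₀) (by
      show pullback.snd a₀ b₀ ≫ T'.hom = pullback.fst a₀ b₀ ≫ T.hom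
      rw [← Over.w (φ T (PicF.cl L)), ← Over.w (φ T' (PicF.cl L')), ← Category.assoc, ← pullback.condition,
        Category.assoc])
    have hab : a ≫ φ T (PicF.cl L) = b ≫ φ T' (PicF.cl L') := Over.OverMorphism.ext pullback.condition
    have hLa := AmpleDevLib.isInvertible_pb (PicF.XTmap f a) hL
    have hLb := AmpleDevLib.isInvertible_pb (PicF.XTmap f b) hL'
    obtain ⟨R, hR, hR'⟩ := hP.locallyInjective W (PicF.cl ((Scheme.Modules.pullback (PicF.XTmap f a)).obj L))
      (PicF.cl ((Scheme.Modules.pullback (PicF.XTmap f b)).obj L')) ⟨_, rfl, hLa⟩ ⟨_, rfl, hLb⟩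
      ((nat a L hL).trans (hab.trans (nat b L' hL').symm))
    obtain ⟨U, u, y, hu, hy⟩ := CubeConsLib.exists_mem_fppf hR z
    have e := EllLawLib.toCl_eq.1 (hR' u hu)
    have h := deg_congr f hdim (AbDual.ovr W u) e y
    rw [deg_map f hdim _ hLa, deg_map f hdim _ hLb] at h
    have hy' : (AbDual.ovrHom W u).left y = z := hy
    rw [hy', deg_map f hdim a hL, deg_map f hdim b hL'] at h
    change deg f T L (pullback.fst a₀ b₀ z) = deg f T' L' (pullback.snd a₀ b₀ z) at h
    rwa [hz1, hz2] at h
  obtain ⟨R, hR, hR'⟩ := hP.locallySurjective P (𝟙 P)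
  have hloc : ∀ (U : Scheme.{u}) (u : U ⟶ P.left), R u → ∃ L : (PicF.XT f (AbDual.ovr P u)).Modules,
      PicF.IsInvertible L ∧ (φ _ (PicF.cl L)).left = u := fun U u hu => by
    obtain ⟨c, ⟨L, rfl, hL⟩, hφ⟩ := hR' u hu
    exact ⟨L, hL, (congrArg CommaMorphism.left hφ).trans (Category.comp_id u)⟩
  have ex : ∀ p, ∃ n, D p n := fun p => by
    obtain ⟨U, u, y, hu, hy⟩ := CubeConsLib.exists_mem_fppf hR p
    obtain ⟨L, hL, hφ⟩ := hloc U u hu
    exact ⟨_, AbDual.ovr P u, L, y, hL, by rw [hφ]; exact hy, rfl⟩
  choose d hd using ex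
  have main : ∀ (T : Over S) (L : (PicF.XT f T).Modules), PicF.IsInvertible L → ∀ t : T.left,
      d ((φ T (PicF.cl L)).left t) = deg f T L t :=
    fun T L hL t => uniq _ _ _ (hd _) ⟨T, L, t, hL, rfl, rfl⟩
  refine ⟨d, fun A => ?_, main⟩
  rw [isOpen_iff_forall_mem_open]
  intro p hp
  obtain ⟨U, u, y, hu, hy⟩ := CubeConsLib.exists_mem_fppf hR p
  obtain ⟨L, hL, hφ⟩ := hloc U u hu
  haveI : Flat u := (hR.2 hu).1
  haveI : LocallyOfFinitePresentation u := (hR.2 hu).2
  have hdu : ∀ x, deg f (AbDual.ovr P u) L x = d (u x) := fun x => by rw [← main _ L hL x, hφ]; rfl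
  refine ⟨u '' (deg f (AbDual.ovr P u) L ⁻¹' A), ?_,
    u.isOpenMap _ (isLocallyConstant_deg f hdim (AbDual.ovr P u) hL A), ⟨y, ?_, hy⟩⟩
  · rintro _ ⟨x, hx, rfl⟩
    exact (hdu x ▸ hx : d (u x) ∈ A)
  · show deg f (AbDual.ovr P u) L y ∈ A
    rw [hdu, hy]; exact hp

end PicCurveLib

end
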