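import Groth.Agent.DescAppLib.RigApps
import Groth.Agent.HilbPtsLib.Basic
import Groth.Agent.PicH1Lib.Pic
import Groth.Agent.EllLawLib.PicZero

/-!
# The Zariski sheaf of rigidified classes
-/

set_option autoImplicit false
set_option linter.style.haveILetI false
set_option linter.unusedSectionVars false
set_option backward.isDefEq.respectTransparency false
set_option backward.isDefEq.respectTransparency.types false
set_option maxRecDepth 8000
set_option maxHeartbeats 1000000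

universe u

open CategoryTheory CategoryTheory.Limits AlgebraicGeometry TopologicalSpace Opposite
open CubeConsLib (pull pull_comp pull_cl cl cl_eq_iff IsoCls)
open HilbPts (m m_comp m_id)

noncomputable section

namespace PicCurveLib

/-- Invertible classes form a small type. -/
theorem small_invertible (Y : Scheme.{u}) :
    Small.{u} {c : IsoCls Y // ∃ L : Y.Modules, PicF.IsInvertible L ∧ cl L = c} := by
  choose L hL hc using fun c : {c : IsoCls Y // ∃ L : Y.Modules, PicF.IsInvertible L ∧ cl L = c} => c.2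
  choose φ hφ using fun c => PicH1Lib.exists_rel_of_isInvertible (PicH1Lib.isHomeomorph_id Y) (hL c)
  refine small_of_injective (f := φ) fun a b h => Subtype.ext ?_
  obtain ⟨i⟩ := (hφ a).iso_of_eq (h ▸ hφ b)
  rw [← hc a, ← hc b]
  exact cl_eq_iff.2 ⟨i⟩

variable {X S : Scheme.{u}} (f : X ⟶ S) (σ : S ⟶ X) (hσ : σ ≫ f = 𝟙 S)

/-- A `T`-point: a map to the base and a rigidified class. -/
structure RPt (T : Scheme.{u}) where
  /-- the map to the base -/
  g : T ⟶ S
  /-- the class -/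
  c : IsoCls (pullback f g)
  inv : ∃ L : (pullback f g).Modules, PicF.IsInvertible L ∧ cl L = c
  rig : pull (PicF.secT f σ hσ (Over.mk g)) c = 1

variable {f σ hσ}

theorem RPt.ext' {T : Scheme.{u}} {P Q : RPt f σ hσ T} (hg : P.g = Q.g)
    (hc : P.c = pull (m f (𝟙 T) (by rw [Category.id_comp, hg])) Q.c) : P = Q := by
  obtain ⟨g, c, hp, hp'⟩ := P
  obtain ⟨g', c', hq, hq'⟩ := Q
  obtain rfl : g = g' := hg
  rw [m_id, DescAppLib.pull_id] at hc
  cases hc
  rfl

theorem RPt.c_eq {T : Scheme.{u}} {P Q : RPt f σ hσ T} (h : P = Q) (w : 𝟙 T ≫ Q.g = P.g) :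
    P.c = pull (m f (𝟙 T) w) Q.c := by
  subst h
  rw [m_id, DescAppLib.pull_id]

theorem secT_m {T T' : Scheme.{u}} {g : T ⟶ S} {g' : T' ⟶ S} (h : T' ⟶ T) (w : h ≫ g = g') :
    PicF.secT f σ hσ (Over.mk g') ≫ m f h w = h ≫ PicF.secT f σ hσ (Over.mk g) := by
  have e := DescAppLib.secT_natural f σ hσ (Over.homMk h w : Over.mk g' ⟶ Over.mk g)
  rw [HilbPts.xtMap_eq] at e
  exact e

/-- The base change of a point. -/
def RPt.map {T T' : Scheme.{u}} (h : T' ⟶ T) (P : RPt f σ hσ T) : RPt f σ hσ T' :=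
  ⟨h ≫ P.g, pull (m f h rfl) P.c,
    by
      obtain ⟨L, hL, e⟩ := P.inv
      exact ⟨_, AmpleDevLib.isInvertible_pb (m f h rfl) hL, by rw [← e]; rfl⟩,
    by
      refine (pull_comp _ _ _).trans ?_
      erw [secT_m h rfl]
      exact (pull_comp _ _ _).symm.trans ((congrArg (pull h) P.rig).trans (map_one _))⟩

theorem RPt.map_id {T : Scheme.{u}} (P : RPt f σ hσ T) : P.map (𝟙 T) = P :=
  RPt.ext' (Category.id_comp _) rfl

theorem RPt.map_map {T T' T'' : Scheme.{u}} (h : T' ⟶ T) (h' : T'' ⟶ T') (P : RPt f σ hσ T) :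
    (P.map h).map h' = P.map (h' ≫ h) := by
  refine RPt.ext' (Category.assoc _ _ _).symm ?_
  show pull (m f h' rfl) (pull (m f h rfl) P.c) = pull (m f (𝟙 T'') _) (pull (m f (h' ≫ h) rfl) P.c)
  rw [pull_comp, pull_comp, m_comp, m_comp]
  congr 2

theorem small_rPt (T : Scheme.{u}) : Small.{u} (RPt f σ hσ T) := by
  haveI : ∀ g : T ⟶ S, Small.{u} {c : IsoCls (pullback f g) //
      ∃ L : (pullback f g).Modules, PicF.IsInvertible L ∧ cl L = c} := fun g => small_invertible _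
  refine small_of_injective (f := fun P : RPt f σ hσ T =>
    (⟨P.g, ⟨P.c, P.inv⟩⟩ : Σ g : T ⟶ S, {c : IsoCls (pullback f g) //
      ∃ L : (pullback f g).Modules, PicF.IsInvertible L ∧ cl L = c})) fun P Q h => ?_
  obtain ⟨g, c, hp, hp'⟩ := P
  obtain ⟨g', c', hq, hq'⟩ := Q
  simp only [Sigma.mk.injEq] at h
  obtain ⟨rfl, h⟩ := h
  obtain rfl := congrArg Subtype.val (eq_of_heq h)
  rfl

instance (T : Scheme.{u}) : Small.{u} (RPt f σ hσ T) := small_rPt T

variable (f σ hσ)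

/-- The functor of rigidified classes, on all schemes. -/
def rigF : Scheme.{u}ᵒᵖ ⥤ Type u where
  obj T := Shrink.{u} (RPt f σ hσ T.unop)
  map h := TypeCat.ofHom fun P => equivShrink _ (((equivShrink _).symm P).map h.unop)
  map_id T := ConcreteCategory.hom_ext _ _ fun P => by
    show equivShrink _ (((equivShrink _).symm P).map (𝟙 _)) = P
    rw [RPt.map_id, Equiv.apply_symm_apply]
  map_comp h h' := ConcreteCategory.hom_ext _ _ fun P => by
    show equivShrink _ (((equivShrink _).symm P).map (h'.unop ≫ h.unop)) =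
      equivShrink _ (((equivShrink _).symm (equivShrink _ (((equivShrink _).symm P).map h.unop))).map h'.unop)
    rw [Equiv.symm_apply_apply, RPt.map_map]

variable {f σ hσ}

/-- The point of a section of the functor. -/
abbrev toPt {T : Scheme.{u}} (a : (rigF f σ hσ).obj (op T)) : RPt f σ hσ T := (equivShrink _).symm a

/-- The section of a point. -/
abbrev ofPt {T : Scheme.{u}} (P : RPt f σ hσ T) : (rigF f σ hσ).obj (op T) := equivShrink _ P

theorem toPt_map {T T' : Scheme.{u}} (h : T' ⟶ T) (a : (rigF f σ hσ).obj (op T)) :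
    toPt ((rigF f σ hσ).map h.op a) = (toPt a).map h :=
  Equiv.symm_apply_apply _ _

variable (ha : ∀ (T : Over S) (U : T.left.Opens), Function.Bijective ((PicF.XTproj f T).app U))
include ha

theorem cover_mem {T : Scheme.{u}} (𝒰 : Scheme.OpenCover.{u} T) :
    Presieve.ofArrows 𝒰.X 𝒰.f ∈ Scheme.fpqcPrecoverage T := by
  refine Scheme.zariskiPrecoverage_le_fpqcPrecoverage _ ?_
  exact (Scheme.ofArrows_mem_precoverage_iff _).2 ⟨fun y => 𝒰.exists_eq y, fun i => inferInstance⟩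

theorem RPt.eq_of_cover {T : Scheme.{u}} {P Q : RPt f σ hσ T} (𝒰 : Scheme.OpenCover.{u} T)
    (h : ∀ i, P.map (𝒰.f i) = Q.map (𝒰.f i)) : P = Q := by
  have hg : P.g = Q.g := 𝒰.hom_ext _ _ fun i => congrArg RPt.g (h i)
  refine RPt.ext' hg ?_
  let T₀ : Over S := Over.mk P.g
  obtain ⟨L, hL, eL⟩ := P.inv
  obtain ⟨M, hM, eM⟩ := Q.inv
  have hw : 𝟙 T ≫ Q.g = P.g := by rw [Category.id_comp, hg]
  have hM' : PicF.IsInvertible ((Scheme.Modules.pullback (m f (𝟙 T) hw)).obj M) := AmpleDevLib.isInvertible_pb _ hM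
  have eM' : cl ((Scheme.Modules.pullback (m f (𝟙 T) hw)).obj M) = pull (m f (𝟙 T) hw) Q.c := by rw [← eM]; rfl
  rw [← eL, ← eM']
  refine DescAppLib.unique_family (PicF.XTproj f T₀) (DescAppLib.xtFam f σ hσ T₀ 𝒰.X 𝒰.f) (cover_mem ha 𝒰)
    (fun W t _ => DescAppLib.bij_XT f ha T₀ W t) hL hM' ?_ ?_ fun i => ?_
  · rw [eL]; exact P.rig
  · rw [eM']
    refine (pull_comp _ _ _).trans ?_
    erw [secT_m (𝟙 T) hw, Category.id_comp]
    exact Q.rig
  · rw [eL, eM']
    show pull (PicF.XTmap f (AbDual.ovrHom T₀ (𝒰.f i))) P.c = pull (PicF.XTmap f (AbDual.ovrHom T₀ (𝒰.f i))) _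
    rw [HilbPts.xtMap_eq]
    refine Eq.trans ?_ (pull_comp _ _ _).symm
    erw [m_comp]
    have h2 := RPt.c_eq (h i) (show 𝟙 (𝒰.X i) ≫ 𝒰.f i ≫ Q.g = 𝒰.f i ≫ P.g by rw [Category.id_comp, hg])
    refine (h2 : pull (m f (𝒰.f i) rfl) P.c = _).trans ?_
    show pull _ (pull (m f (𝒰.f i) rfl) Q.c) = _
    refine (pull_comp _ _ _).trans ?_
    erw [m_comp]
    congr 2

/-- Compatible points on an open cover glue. -/
theorem RPt.exists_glue {T : Scheme.{u}} (𝒰 : Scheme.OpenCover.{u} T) (P : ∀ i, RPt f σ hσ (𝒰.X i))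
    (hP : ∀ i j, (P i).map (pullback.fst (𝒰.f i) (𝒰.f j)) = (P j).map (pullback.snd (𝒰.f i) (𝒰.f j))) :
    ∃ Q : RPt f σ hσ T, ∀ i, Q.map (𝒰.f i) = P i := by
  let g : T ⟶ S := 𝒰.glueMorphisms (fun i => (P i).g) fun i j => congrArg RPt.g (hP i j)
  have hg : ∀ i, 𝒰.f i ≫ g = (P i).g := fun i => Scheme.Cover.ι_glueMorphisms 𝒰 _ _ i
  let T₀ : Over S := Over.mk g
  let B := DescAppLib.xtFam f σ hσ T₀ 𝒰.X 𝒰.f
  have hw : ∀ i, 𝟙 (𝒰.X i) ≫ (P i).g = (AbDual.ovr T₀ (𝒰.f i)).hom := fun i =>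
    (Category.id_comp _).trans (hg i).symm
  choose L₀ hL₀ eL₀ using fun i => (P i).inv
  let L : ∀ i, (B.P i).Modules := fun i => (Scheme.Modules.pullback (m f (𝟙 (𝒰.X i)) (hw i))).obj (L₀ i)
  have eL : ∀ i, cl (L i) = pull (m f (𝟙 (𝒰.X i)) (hw i)) (P i).c := fun i => by rw [← eL₀ i]; rfl
  obtain ⟨N, hN, hN1, hN2⟩ := DescAppLib.exists_descend_cls (PicF.XTproj f T₀) B (cover_mem ha 𝒰)
    (fun W t _ => DescAppLib.bij_XT f ha T₀ W t) L (fun i => AmpleDevLib.isInvertible_pb _ (hL₀ i))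
    (fun i => by
      rw [eL i]
      show pull (PicF.secT f σ hσ (Over.mk (AbDual.ovr T₀ (𝒰.f i)).hom)) _ = 1
      refine (pull_comp _ _ _).trans ?_
      erw [secT_m (𝟙 (𝒰.X i)) (hw i), Category.id_comp]
      exact (P i).rig)
    (fun i j => by
      obtain ⟨q, hq1, hq2⟩ := DescAppLib.exists_ovr_overlap f σ hσ T₀ 𝒰.X 𝒰.f i j
      rw [← hq1, ← hq2, ← pull_comp, ← pull_comp]
      refine congrArg (pull q) ?_
      rw [eL i, eL j, HilbPts.xtMap_eq, HilbPts.xtMap_eq]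
      refine (pull_comp _ _ _).trans (Eq.trans ?_ (pull_comp _ _ _).symm)
      erw [m_comp, m_comp]
      have hc := RPt.c_eq (hP i j) (by
        show 𝟙 _ ≫ pullback.snd (𝒰.f i) (𝒰.f j) ≫ (P j).g = pullback.fst (𝒰.f i) (𝒰.f j) ≫ (P i).g
        rw [Category.id_comp, ← hg i, ← hg j, pullback.condition_assoc])
      let K : Over S := AbDual.ovr (AbDual.ovr T₀ (𝒰.f i)) (pullback.fst (𝒰.f i) (𝒰.f j))
      have hK : 𝟙 _ ≫ pullback.fst (𝒰.f i) (𝒰.f j) ≫ (P i).g = K.hom := by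
        rw [Category.id_comp, ← hg i]
        rfl
      have h3 := congrArg (pull (m f (𝟙 _) hK)) hc
      change pull _ (pull (m f (pullback.fst (𝒰.f i) (𝒰.f j)) rfl) (P i).c) =
        pull _ (pull _ (pull (m f (pullback.snd (𝒰.f i) (𝒰.f j)) rfl) (P j).c)) at h3
      rw [pull_comp, pull_comp, pull_comp, m_comp, m_comp] at h3
      refine Eq.trans ?_ (h3.trans ?_)
      · congr 2
      · congr 2
        exact (m_comp _ _ _ _ _).trans (by congr 1))
  refine ⟨⟨g, cl N, ⟨N, hN, rfl⟩, hN1⟩, fun i => RPt.ext' (hg i) ?_⟩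
  show pull (m f (𝒰.f i) rfl) (cl N) = pull (m f (𝟙 _) _) (P i).c
  refine Eq.trans ?_ ((hN2 i).trans (eL i))
  show pull _ (cl N) = pull (PicF.XTmap f (AbDual.ovrHom T₀ (𝒰.f i))) (cl N)
  rw [HilbPts.xtMap_eq]
  rfl

theorem isSheaf_rigF : Presheaf.IsSheaf Scheme.zariskiTopology (rigF f σ hσ) := by
  rw [isSheaf_iff_isSheaf_of_type, Precoverage.isSheaf_toGrothendieck_iff_of_isStableUnderBaseChange_of_small.{u}]
  intro T (𝒰 : T.OpenCover)
  refine (Presieve.isSheafFor_arrows_iff _ _).2 fun a₀ ha₀ => ?_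
  let a : ∀ i, RPt f σ hσ (𝒰.X i) := fun i => toPt (a₀ i)
  obtain ⟨Q, hQ⟩ := RPt.exists_glue ha 𝒰 a fun i j => by
    show (toPt (a₀ i)).map _ = (toPt (a₀ j)).map _
    rw [← toPt_map, ← toPt_map]
    exact congrArg toPt (ha₀ i j _ _ _ pullback.condition)
  refine ⟨ofPt Q, fun i => ?_, fun y hy => ?_⟩
  · refine (equivShrink _).symm.injective ?_
    refine (toPt_map (𝒰.f i) (ofPt Q)).trans ?_
    show (toPt (ofPt Q)).map (𝒰.f i) = a i
    rw [show toPt (ofPt Q) = Q from Equiv.symm_apply_apply _ _]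
    exact hQ i
  · refine (equivShrink _).symm.injective ?_
    show toPt y = toPt (ofPt Q)
    rw [show toPt (ofPt Q) = Q from Equiv.symm_apply_apply _ _]
    refine RPt.eq_of_cover ha 𝒰 fun i => ?_
    rw [← toPt_map, hQ i]
    exact congrArg toPt (hy i)

omit ha in
/-- Points of `T` over the base are rigidified classes. -/
def ofCl {T : Over S} {c : IsoCls (PicF.XT f T)} (hc : ∃ L : (PicF.XT f T).Modules, PicF.IsInvertible L ∧ cl L = c)
    (hr : pull (PicF.secT f σ hσ T) c = 1) : RPt f σ hσ T.left :=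
  ⟨T.hom, c, hc, hr⟩

/-- The universal class of a representing object. -/
theorem universal_of_representableBy {G : Scheme.{u}} (R : (rigF f σ hσ).RepresentableBy G) :
    ∃ ξ' : PicF.Rig f σ hσ (Over.mk (toPt (R.homEquiv (𝟙 G))).g), ∀ (T : Over S) (c : PicF.Rig f σ hσ T),
      ∃! g : T ⟶ Over.mk (toPt (R.homEquiv (𝟙 G))).g, PicF.pullCl (PicF.XTmap f g) ξ'.1 = c.1 := by
  let ξ : RPt f σ hσ G := toPt (R.homEquiv (𝟙 G))
  have hR : ∀ {T : Scheme.{u}} (h : T ⟶ G), toPt (R.homEquiv h) = ξ.map h := fun {T} h => by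
    have h1 := R.homEquiv_comp h (𝟙 G)
    rw [Category.comp_id] at h1
    rw [h1, toPt_map]
  obtain ⟨L, hL, eL⟩ := ξ.inv
  refine ⟨⟨PicF.cl L, ⟨L, rfl, hL⟩, EllLawLib.toCl_eq.2 ?_⟩, fun T c => ?_⟩
  · have := ξ.rig
    rw [← eL] at this
    exact this
  obtain ⟨⟨M, hMc, hM⟩, htriv⟩ := c.2
  have hMr : pull (PicF.secT f σ hσ T) (cl M) = 1 := by
    rw [← hMc] at htriv
    exact EllLawLib.toCl_eq.1 htriv
  let P : RPt f σ hσ T.left := ofCl ⟨M, hM, rfl⟩ hMr
  have hiff : ∀ g : T ⟶ Over.mk ξ.g, PicF.pullCl (PicF.XTmap f g) (PicF.cl L) = c.1 ↔ ξ.map g.left = P := fun g => by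
    rw [← hMc]
    refine (EllLawLib.toCl_eq (A := (Scheme.Modules.pullback (PicF.XTmap f g)).obj L) (B := M)).trans ?_
    constructor
    · intro hg
      refine RPt.ext' (Over.w g) ?_
      show pull (m f g.left rfl) ξ.c = pull _ (cl M)
      rw [← hg, ← eL, ← pull_cl, HilbPts.xtMap_eq]
      refine Eq.trans ?_ (pull_comp _ _ _).symm
      erw [m_comp]
      congr 2
    · intro hg
      refine Eq.trans ?_ (RPt.c_eq hg.symm (by rw [Category.id_comp]; exact Over.w g)).symm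
      show cl _ = pull _ (pull (m f g.left rfl) ξ.c)
      rw [← pull_cl, HilbPts.xtMap_eq, eL]
      refine Eq.trans ?_ (pull_comp _ _ _).symm
      erw [m_comp]
      congr 2
  obtain ⟨h, hh⟩ := R.homEquiv.surjective (ofPt P)
  have hh' : ξ.map h = P := by rw [← hR, hh]; exact Equiv.symm_apply_apply _ _
  refine ⟨Over.homMk h (congrArg RPt.g hh'), (hiff _).2 hh', fun g hg => Over.OverMorphism.ext ?_⟩
  refine R.homEquiv.injective ((equivShrink _).symm.injective ?_)
  exact ((hR _).trans ((hiff g).1 hg)).trans ((hR h).trans hh').symm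

/-- A representing object gives a universal rigidified class. -/
theorem rigRepresentable_of_representableBy {G : Scheme.{u}} (R : (rigF f σ hσ).RepresentableBy G) :
    PicF.RigRepresentable f σ hσ :=
  ⟨_, universal_of_representableBy ha R⟩

end PicCurveLib

end
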