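import Groth.Agent.PicCurveLib.Divisor
import Groth.Agent.PicCurveLib.Sheaf
import Groth.Agent.HilbPtsLib.Desc

/-!
# Divisors of good classes on base changes
-/

set_option autoImplicit false
set_option linter.style.haveILetI false
set_option linter.unusedSectionVars false
set_option backward.isDefEq.respectTransparency false
set_option backward.isDefEq.respectTransparency.types false
set_option maxRecDepth 8000
set_option maxHeartbeats 1000000

universe u

open CategoryTheory CategoryTheory.Limits AlgebraicGeometry TopologicalSpace Opposite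
open CubeConsLib (pull pull_comp pull_cl cl cl_eq_iff cl_tensor IsoCls)
open EllLawLib (idCls isUnit_cl exists_inv_rep)
open HilbPts (m m_comp m_id m_fst m_snd isPullback_m)

noncomputable section

namespace PicCurveLib

variable {X S : Scheme.{u}} {f : X ⟶ S} {σ : S ⟶ X} {hσ : σ ≫ f = 𝟙 S} {T T' : Scheme.{u}} {g : T ⟶ S}
  {g' : T' ⟶ S}

/-- An invertible class. -/
def InvC {Y : Scheme.{u}} (c : IsoCls Y) : Prop := ∃ L : Y.Modules, PicF.IsInvertible L ∧ cl L = c

theorem InvC.pull {Y Z : Scheme.{u}} {c : IsoCls Y} (h : InvC c) (a : Z ⟶ Y) : InvC (pull a c) := by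
  obtain ⟨L, hL, rfl⟩ := h
  exact ⟨_, AmpleDevLib.isInvertible_pb a hL, rfl⟩

theorem InvC.mul {Y : Scheme.{u}} {c d : IsoCls Y} (h : InvC c) (h' : InvC d) : InvC (c * d) := by
  obtain ⟨L, hL, rfl⟩ := h
  obtain ⟨M, hM, rfl⟩ := h'
  exact ⟨_, HilbPolyLib.isInvertible_tensor hL hM, rfl⟩

theorem InvC.isUnit {Y : Scheme.{u}} {c : IsoCls Y} (h : InvC c) : IsUnit c := by
  obtain ⟨L, hL, rfl⟩ := h
  exact isUnit_cl hL

theorem InvC.exists_inv {Y : Scheme.{u}} {c : IsoCls Y} (h : InvC c) : ∃ d, InvC d ∧ c * d = 1 := by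
  obtain ⟨L, hL, rfl⟩ := h
  obtain ⟨M, hM, e⟩ := exists_inv_rep hL
  exact ⟨_, ⟨M, hM, rfl⟩, e⟩

theorem invC_idCls {Y : Scheme.{u}} {I : Y.IdealSheafData} (hI : BlowUp.IsEffCartierIdeal I) : InvC (idCls I) :=
  ⟨_, IntMultLib.isInvertible_idealMod I hI, rfl⟩

theorem pull_snd_m (h : T' ⟶ T) (w : h ≫ g = g') (c : IsoCls T) :
    pull (m f h w) (pull (pullback.snd f g) c) = pull (pullback.snd f g') (pull h c) := by
  rw [pull_comp, pull_comp, m_snd]

theorem pull_fst_m (h : T' ⟶ T) (w : h ≫ g = g') (c : IsoCls X) :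
    pull (m f h w) (pull (pullback.fst f g) c) = pull (pullback.fst f g') c := by
  rw [pull_comp, m_fst]

theorem fam_snd (hf : Fam f) (g : T ⟶ S) : Fam (pullback.snd f g) :=
  hf.of_isPullback (IsPullback.of_hasPullback f g)

theorem smooth_snd [SmoothOfRelativeDimension 1 f] (g : T ⟶ S) : SmoothOfRelativeDimension 1 (pullback.snd f g) :=
  haveI := smoothOfRelativeDimension_isStableUnderBaseChange.{u} 1
  MorphismProperty.pullback_snd (P := @SmoothOfRelativeDimension 1) _ _ ‹_›

/-- Rigidified classes differing by the base are equal. -/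
theorem eq_of_rigid {c c' : IsoCls (pullback f g)} (hc : InvC c)
    (h : pull (PicF.secT f σ hσ (Over.mk g)) c = 1) (h' : pull (PicF.secT f σ hσ (Over.mk g)) c' = 1)
    {n n' : IsoCls T} (hn : InvC n) (e : c * pull (pullback.snd f g) n = c' * pull (pullback.snd f g) n') :
    c = c' := by
  have key : ∀ a : IsoCls T, pull (PicF.secT f σ hσ (Over.mk g)) (pull (pullback.snd f g) a) = a := fun a => by
    refine (pull_comp _ _ _).trans ?_
    erw [DescAppLib.secT_proj f σ hσ (Over.mk g)]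
    exact DescAppLib.pull_id a
  have e1 := congrArg (pull (PicF.secT f σ hσ (Over.mk g))) e
  rw [map_mul, map_mul, h, h', key, key, one_mul, one_mul] at e1
  rw [← e1] at e
  exact (hn.pull (pullback.snd f g)).isUnit.mul_left_injective e

/-- Every class becomes rigidified after a twist by the base. -/
theorem exists_rigid {c : IsoCls (pullback f g)} (hc : InvC c) :
    ∃ (c' : IsoCls (pullback f g)) (n : IsoCls T), InvC c' ∧ InvC n ∧
      pull (PicF.secT f σ hσ (Over.mk g)) c' = 1 ∧ c' = c * pull (pullback.snd f g) n := by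
  obtain ⟨n, hn, e⟩ := (hc.pull (PicF.secT f σ hσ (Over.mk g))).exists_inv
  refine ⟨_, n, hc.mul (hn.pull _), hn, ?_, rfl⟩
  rw [map_mul]
  refine Eq.trans (congrArg (_ * ·) ?_) e
  refine (pull_comp _ _ _).trans ?_
  erw [DescAppLib.secT_proj f σ hσ (Over.mk g)]
  exact DescAppLib.pull_id n

variable (f g) in
/-- A good class. -/
def GoodC (c : IsoCls (pullback f g)) : Prop :=
  ∃ L : (pullback f g).Modules, PicF.IsInvertible L ∧ cl L = c ∧ Good (pullback.snd f g) L

theorem GoodC.inv {c : IsoCls (pullback f g)} (h : GoodC f g c) : InvC c :=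
  let ⟨L, hL, e, _⟩ := h; ⟨L, hL, e⟩

theorem GoodC.good {L : (pullback f g).Modules} (h : GoodC f g (cl L)) : Good (pullback.snd f g) L := by
  obtain ⟨M, -, e, hM⟩ := h
  exact hM.of_iso (cl_eq_iff.1 e).some

theorem GoodC.twist (hf : Fam f) {c : IsoCls (pullback f g)} (h : GoodC f g c) {n : IsoCls T} (hn : InvC n) :
    GoodC f g (pull (pullback.snd f g) n * c) := by
  obtain ⟨L, hL, rfl, hg⟩ := h
  obtain ⟨N, hN, rfl⟩ := hn
  exact ⟨_, HilbPolyLib.isInvertible_tensor (AmpleDevLib.isInvertible_pb _ hN) hL, rfl,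
    hg.twist (fam_snd hf g) hN⟩

theorem GoodC.pull_m (hf : Fam f) {c : IsoCls (pullback f g)} (h : GoodC f g c) (a : T' ⟶ T) (w : a ≫ g = g') :
    GoodC f g' (pull (m f a w) c) := by
  obtain ⟨L, hL, rfl, hg⟩ := h
  haveI := (fam_snd hf g).proper
  exact ⟨_, AmpleDevLib.isInvertible_pb _ hL, rfl, hg.baseChange hL (isPullback_m f a w)⟩

variable (f g) in
/-- The ideal is a relative divisor of the class, up to the base. -/
def IsDiv (c : IsoCls (pullback f g)) (I : (pullback f g).IdealSheafData) : Prop :=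
  Mor2.IsFinLocFree (I.subschemeι ≫ pullback.snd f g) ∧
    ∃ n : IsoCls T, InvC n ∧ idCls I * c = pull (pullback.snd f g) n

variable [SmoothOfRelativeDimension 1 f]

theorem effCartier_of_finLocFree {I : (pullback f g).IdealSheafData}
    (h : Mor2.IsFinLocFree (I.subschemeι ≫ pullback.snd f g)) : BlowUp.IsEffCartierIdeal I :=
  haveI := smooth_snd (f := f) g
  (HilbPts.SC.effCartier_of_finLocFree (pullback.snd f g) I h).1

theorem isFinLocFree_comap {I : (pullback f g).IdealSheafData}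
    (h : Mor2.IsFinLocFree (I.subschemeι ≫ pullback.snd f g)) (a : T' ⟶ T) (w : a ≫ g = g') :
    Mor2.IsFinLocFree ((I.comap (m f a w)).subschemeι ≫ pullback.snd f g') :=
  ⟨MorphismProperty.of_isPullback (P := @IsFinite) (HilbPts.isPullback_comap_m f a w I) h.1,
    MorphismProperty.of_isPullback (P := @Flat) (HilbPts.isPullback_comap_m f a w I) h.2.1,
    MorphismProperty.of_isPullback (P := @LocallyOfFinitePresentation) (HilbPts.isPullback_comap_m f a w I) h.2.2⟩

theorem pull_idCls_m {I : (pullback f g).IdealSheafData}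
    (h : Mor2.IsFinLocFree (I.subschemeι ≫ pullback.snd f g)) (a : T' ⟶ T) (w : a ≫ g = g') :
    pull (m f a w) (idCls I) = idCls (I.comap (m f a w)) :=
  EllLawLib.pull_idCls _ (effCartier_of_finLocFree h) (effCartier_of_finLocFree (isFinLocFree_comap h a w))

theorem IsDiv.comap {c : IsoCls (pullback f g)} {I : (pullback f g).IdealSheafData} (h : IsDiv f g c I)
    (a : T' ⟶ T) (w : a ≫ g = g') : IsDiv f g' (pull (m f a w) c) (I.comap (m f a w)) := by
  obtain ⟨hI, n, hn, e⟩ := h
  refine ⟨isFinLocFree_comap hI a w, pull a n, hn.pull a, ?_⟩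
  rw [← pull_idCls_m hI a w, ← map_mul, e, pull_snd_m]

theorem exists_isDiv (hf : Fam f) {c : IsoCls (pullback f g)} (h : GoodC f g c) :
    ∃ I, IsDiv f g c I := by
  obtain ⟨L, hL, rfl, hg⟩ := h
  haveI := smooth_snd (f := f) g
  obtain ⟨I, M, hI, hM, e⟩ := exists_divisor (fam_snd hf g) hL hg
  exact ⟨I, hI, _, ⟨M, hM, rfl⟩, e⟩

theorem IsDiv.unique (hf : Fam f) {c : IsoCls (pullback f g)} (h : GoodC f g c)
    {I J : (pullback f g).IdealSheafData} (hI : IsDiv f g c I) (hJ : IsDiv f g c J) : I = J := by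
  obtain ⟨L, hL, rfl, hg⟩ := h
  obtain ⟨hI, -, ⟨M, hM, rfl⟩, eI⟩ := hI
  obtain ⟨hJ, -, ⟨N, hN, rfl⟩, eJ⟩ := hJ
  haveI := smooth_snd (f := f) g
  exact divisor_eq' (fam_snd hf g) hL hg hI hJ hM hN eI eJ

/-- Twisting by the base does not change the divisor. -/
theorem IsDiv.twist {c : IsoCls (pullback f g)} {I : (pullback f g).IdealSheafData} (h : IsDiv f g c I)
    {n : IsoCls T} (hn : InvC n) : IsDiv f g (pull (pullback.snd f g) n * c) I := by
  obtain ⟨hI, n₀, hn₀, e⟩ := h
  refine ⟨hI, n * n₀, hn.mul hn₀, ?_⟩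
  rw [mul_left_comm, e, map_mul]

end PicCurveLib

end
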