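import Groth.Agent.PicCurveLib.Field
import Groth.Agent.PicCurveLib.TwistPts
import Groth.Agent.S1170

/-!
# The rigidified Picard scheme of a curve with enough rational points
-/

set_option autoImplicit false
set_option linter.style.haveILetI false
set_option linter.unusedSectionVars false
set_option backward.isDefEq.respectTransparency false
set_option backward.isDefEq.respectTransparency.types false
set_option maxRecDepth 8000
set_option maxHeartbeats 1000000
set_option synthInstance.maxHeartbeats 100000

universe u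

open CategoryTheory CategoryTheory.Limits AlgebraicGeometry TopologicalSpace Opposite
open CubeConsLib (pull pull_comp pull_cl cl cl_eq_iff cl_tensor IsoCls)

noncomputable section

namespace PicCurveLib

variable {k : Type u} [Field k] {X : Scheme.{u}} {f : X ⟶ Spec (CommRingCat.of k)}

theorem dim_total_field (hf : Fam f) : topologicalKrullDim X = 1 :=
  (EllLawLib.dim_fiber_spec f (IsLocalRing.closedPoint k)).symm.trans (hf.dim _)

/-- With more than `2g` rational points the rigidified Picard functor has a locally finitely presented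
representing scheme. -/
theorem exists_universal_of_points [X.Over (Spec (CommRingCat.of k))] (hfk : X ↘ Spec (CommRingCat.of k) = f)
    (hf : Fam f) (σ : Spec (CommRingCat.of k) ⟶ X) (hσ : σ ≫ f = 𝟙 (Spec (CommRingCat.of k))) {ι : Type} [Fintype ι]
    (w : ι → (Spec (CommRingCat.of k) ⟶ X)) (hw : ∀ i, w i ≫ f = 𝟙 _)
    (hinj : Function.Injective fun i => w i (IsLocalRing.closedPoint k))
    (hn : 2 * Curv2.genus k X < Fintype.card ι) :
    ∃ (P : Over (Spec (CommRingCat.of k))) (ξ : PicF.Rig f σ hσ P), LocallyOfFinitePresentation P.hom ∧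
      ∀ (T : Over (Spec (CommRingCat.of k))) (c : PicF.Rig f σ hσ T),
        ∃! g : T ⟶ P, PicF.pullCl (PicF.XTmap f g) ξ.1 = c.1 := by
  subst hfk
  haveI := hf.proper; haveI := hf.smooth; haveI := hf.conn
  have hdim := dim_total_field hf
  haveI := FibVALib.geometricallyIntegral_of_geometricallyConnected (X ↘ Spec (CommRingCat.of k))
  haveI : IsIntegral X := GeometricallyIntegral.isIntegral_of_subsingleton (X ↘ Spec (CommRingCat.of k))
  haveI : SmoothOfRelativeDimension 1 (X ↘ Spec (CommRingCat.of k)) :=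
    Groth.Agent.S1170.smoothOfRelativeDimension_one k (X ↘ Spec (CommRingCat.of k)) hdim
  have hX : Curve.IsSmoothProperCurve k X (X ↘ Spec (CommRingCat.of k)) := ⟨inferInstance, inferInstance, inferInstance, hdim⟩
  haveI : GeometricallyIrreducible (X ↘ Spec (CommRingCat.of k)) := inferInstance
  have hH : ∀ d : ℕ, ∃ (H : Over (Spec (CommRingCat.of k))) (Z : HilbD.Obj (X ↘ Spec (CommRingCat.of k)) d H),
      HilbD.IsUniversal (X ↘ Spec (CommRingCat.of k)) d H Z ∧ LocallyOfFinitePresentation H.hom := fun d => by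
    obtain ⟨H, Z, hZ, -, hs⟩ := Groth.Agent.S1170.result k X _ hX d
    haveI := hs
    exact ⟨H, Z, hZ, inferInstance⟩
  have hcov : ∀ (K : Type u) [Field K] (g : Spec (CommRingCat.of K) ⟶ Spec (CommRingCat.of k))
      (c : IsoCls (pullback (X ↘ Spec (CommRingCat.of k)) g)), InvC c →
      ∃ a : IsoCls X, InvC a ∧ GoodC (X ↘ Spec (CommRingCat.of k)) g (c * tw a g) := by
    intro K _ g c hc
    obtain ⟨L, hL, rfl⟩ := hc
    let φ : CommRingCat.of k ⟶ CommRingCat.of K := Spec.preimage g
    letI : Algebra k K := φ.hom.toAlgebra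
    letI : (pullback (X ↘ Spec (CommRingCat.of k)) g).Over (Spec (CommRingCat.of K)) := ⟨pullback.snd (X ↘ Spec (CommRingCat.of k)) g⟩
    have hpb : IsPullback (pullback.fst (X ↘ Spec (CommRingCat.of k)) g) ((pullback (X ↘ Spec (CommRingCat.of k)) g) ↘ Spec (CommRingCat.of K)) (X ↘ Spec (CommRingCat.of k))
        (Spec.map (CommRingCat.ofHom (algebraMap k K))) := by
      have : Spec.map (CommRingCat.ofHom (algebraMap k K)) = g := Spec.map_preimage g
      rw [this]
      exact IsPullback.of_hasPullback _ g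
    obtain ⟨L₀, hL₀, h0, h1⟩ := exists_twist_of_points (k := k) hpb hdim w hw hinj hn hL
    have hLL := HilbPolyLib.isInvertible_tensor hL (AmpleDevLib.isInvertible_pb (pullback.fst (X ↘ Spec (CommRingCat.of k)) g) hL₀)
    refine ⟨_, ⟨L₀, hL₀, rfl⟩, _, hLL, rfl, fun s => ?_⟩
    haveI : IsProper (pullback.snd (X ↘ Spec (CommRingCat.of k)) g) := (fam_snd hf g).proper
    exact ⟨(fiberRank_spec_mod (pullback.snd (X ↘ Spec (CommRingCat.of k)) g) hLL 1 s).trans h1,
      (fiberRank_spec_mod (pullback.snd (X ↘ Spec (CommRingCat.of k)) g) hLL 0 s).trans h0⟩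
  have hH0 : ∀ (T : Over (Spec (CommRingCat.of k))) (U : T.left.Opens),
      Function.Bijective ((PicF.XTproj (X ↘ Spec (CommRingCat.of k)) T).app U) := fun T U =>
    H0Lib.bijective_app_of_geometrically (pullback.snd (X ↘ Spec (CommRingCat.of k)) T.hom) U
  obtain ⟨G, ⟨R⟩⟩ := exists_representableBy (σ := σ) (hσ := hσ) hf hH0
    (fun d => let ⟨H, Z, h, _⟩ := hH d; ⟨H, Z, h⟩) hcov
  obtain ⟨ξ, hξ⟩ := universal_of_representableBy hH0 R
  exact ⟨_, ξ, lfp_of_representableBy hf R hH hcov, hξ⟩

end PicCurveLib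

end
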