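import Groth.Agent.EllLawLib.Cls
import Groth.Agent.CohCmpLib.EulerConst
import Groth.Agent.CohCmpLib.EulerFibre

/-!
# Bundles with one section and no first cohomology on every fibre of a family of curves
-/

set_option autoImplicit false
set_option linter.style.haveILetI false
set_option linter.unusedSectionVars false
set_option maxRecDepth 8000
set_option synthInstance.maxHeartbeats 400000
set_option maxHeartbeats 2000000
universe u

open CategoryTheory CategoryTheory.Limits AlgebraicGeometry TopologicalSpace Opposite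
open KFlatLib (pb)

noncomputable section

namespace PicCurveLib

variable {C S : Scheme.{u}} (f : C ⟶ S)

/-- A proper smooth family of geometrically connected curves. -/
structure Fam : Prop where
  proper : IsProper f
  smooth : Smooth f
  conn : GeometricallyConnected f
  dim : ∀ s : S, topologicalKrullDim ↥(f.fiber s) = 1

/-- Exactly one section and no first cohomology on every fibre. -/
def Good (L : C.Modules) : Prop :=
  ∀ s : S, CohIII.fiberRank f L 1 s = 0 ∧ CohIII.fiberRank f L 0 s = 1

variable {f}

theorem Fam.of_isPullback (hf : Fam f) {C' S' : Scheme.{u}} {f' : C' ⟶ S'} {g' : C' ⟶ C}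
    {g : S' ⟶ S} (H : IsPullback g' f' f g) : Fam f' := by
  haveI := hf.proper
  exact ⟨MorphismProperty.of_isPullback H hf.proper, MorphismProperty.of_isPullback H hf.smooth,
    MorphismProperty.of_isPullback H hf.conn,
    fun t => (FibDimLib.topologicalKrullDim_fiber_baseChange H t).trans (hf.dim _)⟩

theorem Fam.baseChange (hf : Fam f) (T : Over S) : Fam (PicF.XTproj f T) :=
  hf.of_isPullback (IsPullback.of_hasPullback f T.hom)

/-- The fibre ranks are unchanged by base change. -/
theorem fiberRank_bc [IsProper f] {C' S' : Scheme.{u}} {f' : C' ⟶ S'} {g' : C' ⟶ C} {g : S' ⟶ S}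
    (H : IsPullback g' f' f g) {L : C.Modules} (hL : PicF.IsInvertible L) (y' : S') (i : ℕ) :
    CohIII.fiberRank f' (pb g' L) i y' = CohIII.fiberRank f L i (g y') := by
  let k : Type u := S.residueField (g y')
  let K : Type u := S'.residueField y'
  letI : Algebra k K := (g.residueFieldMap y').hom.toAlgebra
  let Z := f.fiber (g y')
  let Z' := f'.fiber y'
  letI : Z.Over (Spec (CommRingCat.of k)) := ⟨f.fiberToSpecResidueField (g y')⟩
  letI : Z'.Over (Spec (CommRingCat.of K)) := ⟨f'.fiberToSpecResidueField y'⟩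
  haveI : IsProper (Z ↘ Spec (CommRingCat.of k)) := MorphismProperty.pullback_snd f _ inferInstance
  haveI := CurvLib.isNoetherian k (X := Z)
  let M := CohIII.fiberMod f L (g y')
  haveI : Coh.IsQCoh M := TwistLib.isQCoh_of_isInvertible (AmpleDevLib.isInvertible_pb _ hL)
  let m : Z' ⟶ Z := pullback.map _ _ _ _ g' (Spec.map (g.residueFieldMap y')) g H.w.symm (by simp)
  obtain ⟨e⟩ := RpushLib.nonempty_affBase_bc (A := k) (B := K) (g' := m)
    (f' := Z' ↘ Spec (CommRingCat.of K)) (f := Z ↘ Spec (CommRingCat.of k))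
    (isPullback_fiberToSpecResidueField_of_isPullback H y') M i
  have hm : m ≫ f.fiberι (g y') = f'.fiberι y' ≫ g' := pullback.lift_fst _ _ _
  let e' : CohIII.fiberMod f' (pb g' L) y' ≅ pb m M :=
    (Scheme.Modules.pullbackComp _ _).app L ≪≫ (Scheme.Modules.pullbackCongr hm.symm).app L ≪≫
      ((Scheme.Modules.pullbackComp _ _).app L).symm
  calc CohIII.fiberRank f' (pb g' L) i y'
      = Module.finrank K (Coh.HH Z' (pb m M) i) := (CurvLib.hIso (k := K) e' i).finrank_eq
    _ = Module.finrank k (Coh.HH Z M i) :=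
        e.finrank_eq.symm.trans (Module.finrank_baseChange (R := K) (S := k) (M' := Coh.HH Z M i))

theorem finite_fiberH [IsProper f] {L : C.Modules} (hL : PicF.IsInvertible L) (s : S) (i : ℕ) :
    Module.Finite (S.residueField s) (CohIII.fiberH f L s i) := by
  letI : (f.fiber s).Over (Spec (CommRingCat.of (S.residueField s))) := ⟨f.fiberToSpecResidueField s⟩
  haveI : IsProper ((f.fiber s) ↘ Spec (CommRingCat.of (S.residueField s))) :=
    MorphismProperty.pullback_snd f _ inferInstance
  exact CurvLib.finite_HH (CurvLib.isCoh_of_isInvertible (AmpleDevLib.isInvertible_pb (f.fiberι s) hL)) i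

theorem fiberRank_zero_iff [IsProper f] {L : C.Modules} (hL : PicF.IsInvertible L) (s : S) (i : ℕ) :
    CohIII.fiberRank f L i s = 0 ↔ Subsingleton (CohIII.fiberH f L s i) := by
  let k : Type u := S.residueField s
  let Z := f.fiber s
  letI : Z.Over (Spec (CommRingCat.of k)) := ⟨f.fiberToSpecResidueField s⟩
  let M : Z.Modules := CohIII.fiberMod f L s
  haveI : Module.Finite k (Coh.HH Z M i) := finite_fiberH (f := f) hL s i
  exact (Module.finrank_zero_iff (R := k) (M := Coh.HH Z M i) :)

theorem Good.subsingleton [IsProper f] {L : C.Modules} (h : Good f L) (hL : PicF.IsInvertible L) (s : S) :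
    Subsingleton (CohIII.fiberH f L s 1) := (fiberRank_zero_iff hL s 1).1 (h s).1

theorem Good.baseChange [IsProper f] {L : C.Modules} (h : Good f L) (hL : PicF.IsInvertible L) {C' S' : Scheme.{u}}
    {f' : C' ⟶ S'} {g' : C' ⟶ C} {g : S' ⟶ S} (H : IsPullback g' f' f g) : Good f' (pb g' L) :=
  fun y => ⟨(fiberRank_bc H hL y 1).trans (h _).1, (fiberRank_bc H hL y 0).trans (h _).2⟩

theorem fiberRank_congr {L M : C.Modules} (e : L ≅ M) (s : S) (i : ℕ) :
    CohIII.fiberRank f L i s = CohIII.fiberRank f M i s := by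
  letI : (f.fiber s).Over (Spec (CommRingCat.of (S.residueField s))) := ⟨f.fiberToSpecResidueField s⟩
  exact (CurvLib.hIso (k := S.residueField s) ((Scheme.Modules.pullback (f.fiberι s)).mapIso e) i).finrank_eq

theorem Good.of_iso {L M : C.Modules} (h : Good f L) (e : L ≅ M) : Good f M :=
  fun s => ⟨(fiberRank_congr e.symm s 1).trans (h s).1, (fiberRank_congr e.symm s 0).trans (h s).2⟩

/-- The Euler characteristic of a fibre. -/
theorem eulerChar_eq (hf : Fam f) {L : C.Modules} (hL : PicF.IsInvertible L) (s : S) :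
    PerfAux.eulerChar f L s = (CohIII.fiberRank f L 0 s : ℤ) - CohIII.fiberRank f L 1 s := by
  haveI := hf.proper; haveI := hf.smooth
  haveI : LocallyOfFinitePresentation f := inferInstance
  obtain ⟨-, hfp, hfl⟩ := CohCmpLib.rank_one_hyps f ((CohCmpLib.invertible_iff_rank_one _).1 hL)
  let z₀ : Spec (CommRingCat.of (S.residueField s)) := IsLocalRing.closedPoint (S.residueField s)
  have h := CohCmpLib.euler_bc hfp hfl (IsPullback.of_hasPullback f (S.fromSpecResidueField s)) z₀
  letI : (f.fiber s).Over (Spec (CommRingCat.of (S.residueField s))) := ⟨f.fiberToSpecResidueField s⟩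
  haveI : IsProper ((f.fiber s) ↘ Spec (CommRingCat.of (S.residueField s))) :=
    MorphismProperty.pullback_snd f _ hf.proper
  haveI : Smooth ((f.fiber s) ↘ Spec (CommRingCat.of (S.residueField s))) :=
    MorphismProperty.pullback_snd f _ hf.smooth
  haveI : GeometricallyConnected ((f.fiber s) ↘ Spec (CommRingCat.of (S.residueField s))) :=
    MorphismProperty.pullback_snd f _ hf.conn
  haveI := FibVALib.geometricallyIntegral_of_geometricallyConnected ((f.fiber s) ↘ Spec (CommRingCat.of (S.residueField s)))
  haveI : IsIntegral (f.fiber s) :=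
    GeometricallyIntegral.isIntegral_of_subsingleton ((f.fiber s) ↘ Spec (CommRingCat.of (S.residueField s)))
  exact ((h.trans (congrArg (PerfAux.eulerChar f L) (Scheme.fromSpecResidueField_apply s z₀))).symm.trans
    (CurvLib.euler_curve (k := S.residueField s) (hf.dim s) (pb (f.fiberι s) L)))

/-- Being good is an open condition. -/
theorem isOpen_good (hf : Fam f) {L : C.Modules} (hL : PicF.IsInvertible L) :
    IsOpen {s : S | CohIII.fiberRank f L 1 s = 0 ∧ CohIII.fiberRank f L 0 s = 1} := by
  haveI := hf.proper; haveI := hf.smooth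
  haveI : LocallyOfFinitePresentation f := inferInstance
  obtain ⟨hQ, hfp, hfl⟩ := CohCmpLib.rank_one_hyps f ((CohCmpLib.invertible_iff_rank_one _).1 hL)
  haveI := hQ
  have h1 : ∀ s, CohIII.fiberRank f L 1 s = 0 ↔ Subsingleton (CohIII.fiberH f L s 1) := fun s =>
    fiberRank_zero_iff hL s 1
  have e : {s : S | CohIII.fiberRank f L 1 s = 0 ∧ CohIII.fiberRank f L 0 s = 1} =
      {s : S | Subsingleton (CohIII.fiberH f L s 1)} ∩ (fun s => PerfAux.eulerChar f L s) ⁻¹' {1} := by
    ext s
    simp only [Set.mem_setOf_eq, Set.mem_inter_iff, Set.mem_preimage, Set.mem_singleton_iff, ← h1]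
    constructor
    · rintro ⟨a, b⟩; exact ⟨a, by rw [eulerChar_eq hf hL, a, b]; rfl⟩
    · rintro ⟨a, b⟩; exact ⟨a, by rw [eulerChar_eq hf hL, a] at b; omega⟩
  rw [e]
  exact (CohCmpLib.isOpen_fibre_vanishing hfp hfl 1).inter
    ((CohCmpLib.isLocallyConstant_eulerChar hfp hfl).isOpen_fiber 1)

/-- The good locus. -/
def goodOpen (hf : Fam f) {L : C.Modules} (hL : PicF.IsInvertible L) : S.Opens := ⟨_, isOpen_good hf hL⟩

/-- A base change is good exactly when it lands in the good locus. -/
theorem good_pb_iff (hf : Fam f) {L : C.Modules} (hL : PicF.IsInvertible L) {C' S' : Scheme.{u}}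
    {f' : C' ⟶ S'} {g' : C' ⟶ C} {g : S' ⟶ S} (H : IsPullback g' f' f g) :
    Good f' (pb g' L) ↔ ∀ y, g y ∈ goodOpen hf hL := by
  haveI := hf.proper
  refine forall_congr' fun y => ?_
  rw [fiberRank_bc H hL y 1, fiberRank_bc H hL y 0]
  rfl

end PicCurveLib

end
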