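import Groth.Agent.PicCurveLib.AlgTriv
import Groth.Agent.PicCurveLib.PointDiv
import Groth.Agent.PicCurveLib.Bridge
import Mathlib.CategoryTheory.Monoidal.Cartesian.Over

/-!
# The group law of a scheme with a universal rigidified class of degree zero
-/

set_option autoImplicit false
set_option linter.style.haveILetI false
set_option linter.unusedSectionVars false
set_option backward.isDefEq.respectTransparency false
set_option backward.isDefEq.respectTransparency.types false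
set_option maxRecDepth 8000
set_option maxHeartbeats 1000000

universe u

open CategoryTheory CategoryTheory.Limits AlgebraicGeometry MonoidalCategory CartesianMonoidalCategory
open CubeConsLib (pull pull_comp pull_cl cl cl_eq_iff cl_tensor IsoCls)

noncomputable section

namespace PicCurveLib

variable {C S : Scheme.{u}} {f : C ⟶ S} (hf : Fam f) [IsProper f] [Flat f] [LocallyOfFinitePresentation f]
  (σ : S ⟶ C) (hσ : σ ≫ f = 𝟙 S)

/-- An invertible class of fibre degree zero, trivial along the section. -/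
structure RigZero (T : Over S) (c : IsoCls (PicF.XT f T)) : Prop where
  rep : ∃ L : (PicF.XT f T).Modules, PicF.IsInvertible L ∧ cl L = c ∧ ∀ t, deg f T L t = 0
  rig : pull (PicF.secT f σ hσ T) c = 1

/-- Rigidified classes of degree zero as a subgroup. -/
def rigZero (T : Over S) : Subgroup (IsoCls (PicF.XT f T))ˣ where
  carrier := {c | RigZero σ hσ T (c : IsoCls (PicF.XT f T))}
  one_mem' := ⟨⟨_, CurvLib.isInvertible_structureModule, rfl, fun t => deg_structure T t⟩, by rw [Units.val_one, map_one]⟩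
  mul_mem' {a b} ha hb := by
    obtain ⟨⟨L, hL, eL, dL⟩, rL⟩ := ha
    obtain ⟨⟨M, hM, eM, dM⟩, rM⟩ := hb
    refine ⟨⟨_, HilbPolyLib.isInvertible_tensor hL hM, (cl_tensor L M).trans (by rw [eL, eM, Units.val_mul]),
      fun t => by rw [deg_tensor hf T hL hM t, dL, dM, add_zero]⟩, by rw [Units.val_mul, map_mul, rL, rM, one_mul]⟩
  inv_mem' {a} ha := by
    obtain ⟨⟨L, hL, eL, dL⟩, rL⟩ := ha
    obtain ⟨N, hN, eN⟩ := EllLawLib.exists_inv_rep hL
    have hN' : cl N = ((a⁻¹ : (IsoCls (PicF.XT f T))ˣ) : IsoCls (PicF.XT f T)) := by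
      rw [eL] at eN
      exact (Units.inv_eq_of_mul_eq_one_right eN).symm
    refine ⟨⟨N, hN, hN', fun t => ?_⟩, ?_⟩
    · have h := deg_of_cl_mul hf T hL hN (N := Coh.structureModule _) eN.symm t
      rw [deg_structure, dL] at h
      omega
    · have h := congrArg (pull (PicF.secT f σ hσ T)) (Units.mul_inv a)
      rw [map_mul, rL, one_mul, map_one] at h
      exact h

include hf in
theorem rigZero_pull {T T' : Over S} (g : T' ⟶ T) {c : IsoCls (PicF.XT f T)} (hc : RigZero σ hσ T c) :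
    RigZero σ hσ T' (pull (PicF.XTmap f g) c) := by
  obtain ⟨⟨L, hL, rfl, dL⟩, rL⟩ := hc
  refine ⟨⟨_, AmpleDevLib.isInvertible_pb (PicF.XTmap f g) hL, rfl, fun t => (deg_map f hf.dim_le g hL t).trans (dL _)⟩, ?_⟩
  rw [pull_comp, DescAppLib.secT_natural, ← pull_comp, rL, map_one]

variable {J : Over S} (ξ : PicF.Rig f σ hσ J) (hξ : FGA.HasFibreDegreeZeroCl f J ξ.1)
  (huniv : ∀ (T : Over S) (c : PicF.Rig f σ hσ T), FGA.HasFibreDegreeZeroCl f T c.1 →
    ∃! g : T ⟶ J, PicF.pullCl (PicF.XTmap f g) ξ.1 = c.1)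
include hf hξ huniv

/-- **The group law.** -/
theorem exists_grpObj : Nonempty (GrpObj J) := by
  obtain ⟨N, hNc, hN⟩ := ξ.2.1
  rw [← hNc] at hξ
  have hNd : ∀ t, deg f J N t = 0 := (isPicZeroCl_iff hf J hN).1 ((hasFibreDegreeZeroCl_iff hf J hN).1 hξ)
  obtain ⟨u, hu⟩ := EllLawLib.isUnit_cl hN
  have huz : RigZero σ hσ J (u : IsoCls (PicF.XT f J)) := by
    rw [hu]
    refine ⟨⟨N, hN, rfl, hNd⟩, ?_⟩
    have := ξ.2.2
    rw [← hNc] at this
    exact EllLawLib.toCl_eq.1 this
  let e₀ : ∀ T : Over S, (T ⟶ J) → rigZero hf σ hσ T := fun T g =>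
    ⟨Units.map (pull (PicF.XTmap f g) : IsoCls (PicF.XT f J) →* IsoCls (PicF.XT f T)) u, rigZero_pull hf σ hσ g huz⟩
  have hbij : ∀ T, Function.Bijective (e₀ T) := fun T => by
    have key : ∀ (g : T ⟶ J) (M : (PicF.XT f T).Modules),
        PicF.pullCl (PicF.XTmap f g) ξ.1 = PicF.cl M ↔ pull (PicF.XTmap f g) (u : IsoCls (PicF.XT f J)) = cl M := fun g M => by
      rw [← hNc, hu]
      exact EllLawLib.toCl_eq (A := (Scheme.Modules.pullback (PicF.XTmap f g)).obj N) (B := M)
    constructor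
    · intro g g' h
      have h' : pull (PicF.XTmap f g) (u : IsoCls (PicF.XT f J)) = pull (PicF.XTmap f g') (u : IsoCls (PicF.XT f J)) :=
        congrArg (fun z => ((z : rigZero hf σ hσ T) : (IsoCls (PicF.XT f T))ˣ).val) h
      obtain ⟨⟨L, hL, eL, dL⟩, rL⟩ := rigZero_pull hf σ hσ g huz
      rw [← eL] at rL
      refine (huniv T ⟨PicF.cl L, ⟨L, rfl, hL⟩, EllLawLib.toCl_eq.2 rL⟩
        ⟨L, rfl, (hasFibreDegreeZero_iff T L).2 fun t => dL t⟩).unique ?_ ?_
      · exact (key g L).2 eL.symm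
      · exact (key g' L).2 (h'.symm.trans eL.symm)
    · rintro ⟨c, hc⟩
      obtain ⟨⟨L, hL, eL, dL⟩, rL⟩ := hc
      rw [← eL] at rL
      obtain ⟨g, hg, -⟩ := huniv T ⟨PicF.cl L, ⟨L, rfl, hL⟩, EllLawLib.toCl_eq.2 rL⟩
        ⟨L, rfl, (hasFibreDegreeZero_iff T L).2 fun t => dL t⟩
      exact ⟨g, Subtype.ext (Units.ext (((key g L).1 hg).trans eL))⟩
  let E : ∀ T : Over S, (T ⟶ J) ≃ rigZero hf σ hσ T := fun T => Equiv.ofBijective _ (hbij T)
  letI grp : ∀ T : Over S, Group (T ⟶ J) := fun T => (E T).group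
  have nat : ∀ {T T' : Over S} (g : T' ⟶ T) (a b : T ⟶ J), g ≫ (a * b) = (g ≫ a) * (g ≫ b) := fun {T T'} g a b => by
    refine (E T').injective ?_
    show e₀ T' (g ≫ (a * b)) = E T' ((E T').symm (E T' (g ≫ a) * E T' (g ≫ b)))
    rw [Equiv.apply_symm_apply]
    refine Subtype.ext (Units.ext ?_)
    have hab : pull (PicF.XTmap f (a * b)) (u : IsoCls (PicF.XT f J)) =
        pull (PicF.XTmap f a) (u : IsoCls (PicF.XT f J)) * pull (PicF.XTmap f b) (u : IsoCls (PicF.XT f J)) :=
      congrArg (fun z : rigZero hf σ hσ T => ((z : (IsoCls (PicF.XT f T))ˣ) : IsoCls (PicF.XT f T)))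
        ((E T).apply_symm_apply (E T a * E T b))
    show pull (PicF.XTmap f (g ≫ (a * b))) (u : IsoCls (PicF.XT f J)) =
      pull (PicF.XTmap f (g ≫ a)) (u : IsoCls (PicF.XT f J)) * pull (PicF.XTmap f (g ≫ b)) (u : IsoCls (PicF.XT f J))
    rw [← DescAppLib.XTmap_comp, ← DescAppLib.XTmap_comp, ← DescAppLib.XTmap_comp, ← pull_comp, ← pull_comp, ← pull_comp,
      hab, map_mul]
  let Φ : (Over S)ᵒᵖ ⥤ GrpCat.{u} :=
    { obj := fun T => GrpCat.of (T.unop ⟶ J)
      map := fun g => GrpCat.ofHom (MonoidHom.mk' (fun a => g.unop ≫ a) fun a b => nat g.unop a b)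
      map_id := fun T => GrpCat.hom_ext (MonoidHom.ext fun a => Category.id_comp a)
      map_comp := fun g h => GrpCat.hom_ext (MonoidHom.ext fun a => Category.assoc h.unop g.unop a) }
  exact ⟨GrpObj.ofRepresentableBy J Φ
    { homEquiv := Equiv.refl _
      homEquiv_comp := fun _ _ => rfl }⟩

end PicCurveLib

end
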