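import Groth.Agent.PicCurveLib.Chart

/-!
# Representability of the rigidified Picard functor of a family of curves
-/

set_option autoImplicit false
set_option linter.style.haveILetI false
set_option linter.unusedSectionVars false
set_option backward.isDefEq.respectTransparency false
set_option backward.isDefEq.respectTransparency.types false
set_option maxRecDepth 8000
set_option maxHeartbeats 1000000

universe u

open CategoryTheory CategoryTheory.Limits AlgebraicGeometry TopologicalSpace Opposite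
open CubeConsLib (pull pull_comp pull_cl cl cl_eq_iff cl_tensor IsoCls)
open EllLawLib (idCls isUnit_cl exists_inv_rep)
open HilbPts (m m_comp m_id m_fst m_snd isPullback_m)

noncomputable section

namespace PicCurveLib

variable {X S : Scheme.{u}} {f : X ⟶ S} {σ : S ⟶ X} {hσ : σ ≫ f = 𝟙 S}

/-- The pullback of the twisted class of a point. -/
theorem pull_twist {T T' : Scheme.{u}} {g₁ : T' ⟶ S} (P : RPt f σ hσ T) (a : IsoCls X) (x : T' ⟶ T)
    (w : x ≫ P.g = g₁) : pull (m f x w) (P.c * tw a P.g) = pull (m f x w) P.c * tw a g₁ := by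
  rw [map_mul, tw, pull_fst_m]

theorem goodC_of_eq {T : Scheme.{u}} {P Q : RPt f σ hσ T} (h : P = Q) {a : IsoCls X}
    (hP : GoodC f P.g (P.c * tw a P.g)) : GoodC f Q.g (Q.c * tw a Q.g) := by subst h; exact hP

variable [SmoothOfRelativeDimension 1 f] (hf : Fam f)

/-- A chart: the good classes after one twist whose divisor has a given degree. -/
structure IsChart (a : IsoCls X) (d : ℕ) {Y : Scheme.{u}} (ξ : RPt f σ hσ Y) : Prop where
  good : GoodC f ξ.g (ξ.c * tw a ξ.g)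
  div : ∃ IY, IsDiv f ξ.g (ξ.c * tw a ξ.g) IY ∧ Mor2.IsFinLocFreeOfDeg d (IY.subschemeι ≫ pullback.snd f ξ.g)
  mono : ∀ (T : Scheme.{u}) (x x' : T ⟶ Y), ξ.map x = ξ.map x' → x = x'
  exists_hom : ∀ (T : Scheme.{u}) (P : RPt f σ hσ T) (I : (pullback f P.g).IdealSheafData),
    GoodC f P.g (P.c * tw a P.g) → IsDiv f P.g (P.c * tw a P.g) I →
    Mor2.IsFinLocFreeOfDeg d (I.subschemeι ≫ pullback.snd f P.g) → ∃ x : T ⟶ Y, ξ.map x = P

include hf

theorem exists_isChart (hrep : ∀ d : ℕ, HilbD.Representable f d) {a : IsoCls X} (ha : InvC a) (d : ℕ) :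
    ∃ (Y : Scheme.{u}) (ξ : RPt f σ hσ Y), IsChart a d ξ := by
  obtain ⟨H, Z, hZ⟩ := hrep d
  obtain ⟨Y, ξ, IY, -, h1, h2, h3, h4, h5⟩ := exists_chart (σ := σ) (hσ := hσ) hf hZ ha
  exact ⟨Y, ξ, h1, ⟨IY, h2, h3⟩, h4, h5⟩

/-- The part of the good locus where the divisor has degree `d`. -/
theorem exists_locus {a : IsoCls X} (ha : InvC a) {d : ℕ} {Y : Scheme.{u}} {ξ : RPt f σ hσ Y}
    (hξ : IsChart a d ξ) {T : Scheme.{u}} (P : RPt f σ hσ T) :
    ∃ (O : Scheme.{u}) (j : O ⟶ T) (q : O ⟶ Y), IsOpenImmersion j ∧ ξ.map q = P.map j ∧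
      ∀ (Z : Scheme.{u}) (x₂ : Z ⟶ Y) (x₃ : Z ⟶ T), ξ.map x₂ = P.map x₃ → ∃ l : Z ⟶ O, l ≫ j = x₃ ∧ l ≫ q = x₂ := by
  haveI := hf.proper
  obtain ⟨W, I, hI, hgI, hW⟩ := exists_good_div hf ha P
  let π := I.subschemeι ≫ pullback.snd f (W.ι ≫ P.g)
  haveI : IsFinite π := hI.1.1
  haveI : Flat π := hI.1.2.1
  haveI : LocallyOfFinitePresentation π := hI.1.2.2
  let O : W.toScheme.Opens := ⟨π.finrank ⁻¹' {d}, (Scheme.Hom.isLocallyConstant_finrank π).isOpen_fiber d⟩
  let j : O.toScheme ⟶ T := O.ι ≫ W.ι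
  have wO : O.ι ≫ W.ι ≫ P.g = (P.map j).g := (Category.assoc _ _ _).symm
  let IO : (pullback f (P.map j).g).IdealSheafData := I.comap (m f O.ι wO)
  have hc : (P.map j).c * tw a (P.map j).g = pull (m f O.ι wO) (pull (m f W.ι rfl) (P.c * tw a P.g)) := by
    rw [pull_comp, m_comp, pull_twist]
    rfl
  have hIO : IsDiv f (P.map j).g ((P.map j).c * tw a (P.map j).g) IO := by
    rw [hc]; exact hI.comap O.ι wO
  have hgO : GoodC f (P.map j).g ((P.map j).c * tw a (P.map j).g) := by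
    rw [hc]; exact hgI.pull_m hf O.ι wO
  have hdO : Mor2.IsFinLocFreeOfDeg d (IO.subschemeι ≫ pullback.snd f (P.map j).g) :=
    ⟨hIO.1, fun y => (Scheme.Hom.finrank_of_isPullback _ _ _ _ (HilbPts.isPullback_comap_m f O.ι wO I) y).trans y.2⟩
  obtain ⟨q, hq⟩ := hξ.exists_hom _ (P.map j) IO hgO hIO hdO
  refine ⟨O.toScheme, j, q, inferInstance, hq, fun Z x₂ x₃ h => ?_⟩
  obtain ⟨IY, hIY, hdY⟩ := hξ.div
  obtain ⟨w₂, hc₂⟩ := (map_eq_iff ξ (P.map x₃) x₂).1 h
  have hcl : pull (m f x₂ w₂) (ξ.c * tw a ξ.g) = pull (m f x₃ rfl) (P.c * tw a P.g) := by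
    rw [pull_twist, pull_twist]
    exact congrArg (· * tw a (x₃ ≫ P.g)) hc₂
  have hg₃ : GoodC f (x₃ ≫ P.g) (pull (m f x₃ rfl) (P.c * tw a P.g)) := by
    rw [← hcl]; exact hξ.good.pull_m hf x₂ w₂
  have hmem : Set.range x₃ ⊆ Set.range W.ι := by
    rw [Scheme.Opens.range_ι]; rintro _ ⟨z, rfl⟩; exact (hW _ _ x₃ rfl).1 hg₃ z
  let l₁ : Z ⟶ W.toScheme := IsOpenImmersion.lift W.ι x₃ hmem
  have hl₁ : l₁ ≫ W.ι = x₃ := IsOpenImmersion.lift_fac _ _ _
  have wl : l₁ ≫ W.ι ≫ P.g = x₃ ≫ P.g := by rw [← Category.assoc, hl₁]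
  have hdivs : I.comap (m f l₁ wl) = IY.comap (m f x₂ w₂) := by
    refine IsDiv.unique hf hg₃ ?_ ?_
    · have h := hI.comap l₁ wl
      rwa [pull_comp, m_comp, show (m f (l₁ ≫ W.ι) (by rw [Category.assoc, wl]) : _ ⟶ pullback f P.g) = m f x₃ rfl from by
        simp only [hl₁]] at h
    · have h := hIY.comap x₂ w₂
      rwa [hcl] at h
  have hO : Set.range l₁ ⊆ Set.range O.ι := by
    rw [Scheme.Opens.range_ι]
    rintro _ ⟨z, rfl⟩
    show π.finrank (l₁ z) = d
    rw [← Scheme.Hom.finrank_of_isPullback _ _ _ _ (HilbPts.isPullback_comap_m f l₁ wl I) z, hdivs]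
    exact (HilbPts.isFinLocFreeOfDeg_of_isPullback (HilbPts.isPullback_comap_m f x₂ w₂ IY) hdY).2 z
  let l : Z ⟶ O.toScheme := IsOpenImmersion.lift O.ι l₁ hO
  have hl : l ≫ j = x₃ := by rw [← Category.assoc, IsOpenImmersion.lift_fac, hl₁]
  refine ⟨l, hl, hξ.mono _ _ _ ?_⟩
  rw [← RPt.map_map, hq, RPt.map_map, hl, h]

/-- The functor of rigidified classes is representable. -/
theorem exists_representableBy (hH0 : ∀ (T : Over S) (U : T.left.Opens), Function.Bijective ((PicF.XTproj f T).app U))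
    (hrep : ∀ d : ℕ, HilbD.Representable f d)
    (hcov : ∀ (K : Type u) [Field K] (g : Spec (CommRingCat.of K) ⟶ S) (c : IsoCls (pullback f g)), InvC c →
      ∃ a : IsoCls X, InvC a ∧ GoodC f g (c * tw a g)) :
    ∃ G : Scheme.{u}, Nonempty ((rigF f σ hσ).RepresentableBy G) := by
  classical
  haveI : Small.{u} {c : IsoCls X // InvC c} := small_invertible X
  let J : Type u := Shrink.{u} {c : IsoCls X // InvC c} × ℕ
  let A : J → {c : IsoCls X // InvC c} := fun i => (equivShrink _).symm i.1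
  choose Yc ξ hξ using fun i : J => exists_isChart (σ := σ) (hσ := hσ) hf hrep (A i).2 i.2
  let F : Sheaf Scheme.zariskiTopology.{u} (Type u) := ⟨rigF f σ hσ, isSheaf_rigF hH0⟩
  let c : ∀ i : J, yoneda.obj (Yc i) ⟶ F.1 := fun i => yonedaEquiv.symm (ofPt (ξ i))
  have c_app : ∀ (i : J) (Z : Scheme.{u}) (x : Z ⟶ Yc i), toPt ((c i).app (op Z) x) = (ξ i).map x := by
    intro i Z x
    rw [show (c i).app (op Z) x = (rigF f σ hσ).map x.op (ofPt (ξ i)) from
      yonedaEquiv_symm_app_apply (F := rigF f σ hσ) _ (op Z) x, toPt_map]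
    exact congrArg (RPt.map x) (Equiv.symm_apply_apply _ _)
  have hc : ∀ i, IsOpenImmersion.presheaf (c i) := fun i => MorphismProperty.relative.of_exists fun T gT => by
    let P : RPt f σ hσ T := toPt (yonedaEquiv gT)
    obtain ⟨O, j, q, hj, hq, huniv⟩ := exists_locus hf (A i).2 (hξ i) P
    have hg : ∀ (Z : Scheme.{u}) (h : Z ⟶ T), toPt (gT.app (op Z) h) = P.map h := fun Z h => by
      rw [show gT.app (op Z) h = (rigF f σ hσ).map h.op (yonedaEquiv gT) from (map_yonedaEquiv gT h).symm, toPt_map]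
    haveI := hj
    refine ⟨O, yoneda.map q, j, ?_, inferInstanceAs (IsOpenImmersion j)⟩
    refine IsPullback.of_forall_isPullback_app fun Z => ?_
    rw [Types.isPullback_iff]
    refine ⟨?_, ?_, ?_⟩
    · ext (h : Z.unop ⟶ O)
      show (c i).app Z (h ≫ q) = gT.app Z (h ≫ j)
      refine (equivShrink _).symm.injective ?_
      show toPt ((c i).app (op Z.unop) (h ≫ q)) = toPt (gT.app (op Z.unop) (h ≫ j))
      rw [c_app, hg, ← RPt.map_map, hq, RPt.map_map]
    · rintro x₁ x₂ ⟨-, h2⟩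
      exact (cancel_mono j).1 (show x₁ ≫ j = x₂ ≫ j from h2)
    · intro (x₂ : Z.unop ⟶ Yc i) (x₃ : Z.unop ⟶ T) hx
      have hrel : (ξ i).map x₂ = P.map x₃ := (c_app i _ x₂).symm.trans ((congrArg toPt hx).trans (hg _ x₃))
      obtain ⟨l, hl, hlq⟩ := huniv _ x₂ x₃ hrel
      exact ⟨l, hlq, hl⟩
  haveI : Presheaf.IsLocallySurjective Scheme.zariskiTopology (Sigma.desc c) := ⟨fun {T} (s : (rigF f σ hσ).obj (op T)) => by
    let P : RPt f σ hσ T := toPt s
    have hpt : ∀ t : T, ∃ (i : J) (O : Scheme.{u}) (j : O ⟶ T) (q : O ⟶ Yc i), IsOpenImmersion j ∧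
        (ξ i).map q = P.map j ∧ t ∈ Set.range j := by
      intro t
      let K : Type u := T.residueField t
      let p := T.fromSpecResidueField t
      obtain ⟨a, ha, hgood⟩ := hcov K (p ≫ P.g) (pull (m f p rfl) P.c) (InvC.pull P.inv _)
      have hgood' : GoodC f (p ≫ P.g) (pull (m f p rfl) (P.c * tw a P.g)) := by rw [pull_twist]; exact hgood
      obtain ⟨I, hI⟩ := exists_isDiv hf hgood'
      let π := I.subschemeι ≫ pullback.snd f (p ≫ P.g)
      let i : J := ⟨equivShrink _ ⟨a, ha⟩, π.finrank (IsLocalRing.closedPoint K)⟩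
      have hA : (A i).1 = a := congrArg Subtype.val (Equiv.symm_apply_apply (equivShrink _) _)
      obtain ⟨O, j, q, hj, hq, huniv⟩ := exists_locus hf (A i).2 (hξ i) P
      refine ⟨i, O, j, q, hj, hq, ?_⟩
      have hdeg : Mor2.IsFinLocFreeOfDeg i.2 (I.subschemeι ≫ pullback.snd f (p ≫ P.g)) :=
        ⟨hI.1, fun y => congrArg π.finrank (Subsingleton.elim (α := PrimeSpectrum K) _ _)⟩
      obtain ⟨x, hx⟩ := (hξ i).exists_hom _ (P.map p) I (by
          show GoodC f (p ≫ P.g) (pull (m f p rfl) P.c * tw (A i).1 (p ≫ P.g))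
          rw [hA]; exact hgood) (by
          show IsDiv f (p ≫ P.g) (pull (m f p rfl) P.c * tw (A i).1 (p ≫ P.g)) I
          rw [hA, ← pull_twist]; exact hI) hdeg
      obtain ⟨l, hl, -⟩ := huniv _ x p hx
      exact ⟨l (IsLocalRing.closedPoint K), by
        rw [← Scheme.Hom.comp_apply, hl]; exact Scheme.fromSpecResidueField_apply _ _⟩
    choose i O j q hj hq hmem using hpt
    let 𝒰 : T.OpenCover :=
      { I₀ := T
        X := O
        f := j
        mem₀ := by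
          rw [Scheme.presieve₀_mem_precoverage_iff]
          exact ⟨fun t => ⟨t, hmem t⟩, hj⟩ }
    refine GrothendieckTopology.superset_covering _ ?_ 𝒰.mem_grothendieckTopology
    rw [Sieve.generate_le_iff]
    rintro _ _ ⟨t⟩
    refine ⟨(Sigma.ι (fun i => yoneda.obj (Yc i)) (i t)).app _ (q t), ?_⟩
    show ((Sigma.ι _ (i t)) ≫ Sigma.desc c).app _ (q t) = (rigF f σ hσ).map (j t).op s
    rw [Sigma.ι_desc]
    refine (equivShrink _).symm.injective ?_
    show toPt ((c (i t)).app (op (O t)) (q t)) = toPt ((rigF f σ hσ).map (j t).op s)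
    rw [c_app, toPt_map]
    exact hq t⟩
  exact ⟨_, ⟨Scheme.LocalRepresentability.representableBy (F := F) hc⟩⟩

/-- **Representability of the rigidified Picard functor.** -/
theorem rigRepresentable (hH0 : ∀ (T : Over S) (U : T.left.Opens), Function.Bijective ((PicF.XTproj f T).app U))
    (hrep : ∀ d : ℕ, HilbD.Representable f d)
    (hcov : ∀ (K : Type u) [Field K] (g : Spec (CommRingCat.of K) ⟶ S) (c : IsoCls (pullback f g)), InvC c →
      ∃ a : IsoCls X, InvC a ∧ GoodC f g (c * tw a g)) :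
    PicF.RigRepresentable f σ hσ := by
  obtain ⟨G, ⟨R⟩⟩ := exists_representableBy (σ := σ) (hσ := hσ) hf hH0 hrep hcov
  exact rigRepresentable_of_representableBy hH0 R

/-- A representing scheme is locally of finite presentation when the Hilbert schemes of divisors are. -/
theorem lfp_of_representableBy {G : Scheme.{u}} (R : (rigF f σ hσ).RepresentableBy G)
    (hrep : ∀ d : ℕ, ∃ (H : Over S) (Z : HilbD.Obj f d H), HilbD.IsUniversal f d H Z ∧ LocallyOfFinitePresentation H.hom)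
    (hcov : ∀ (K : Type u) [Field K] (g : Spec (CommRingCat.of K) ⟶ S) (c : IsoCls (pullback f g)), InvC c →
      ∃ a : IsoCls X, InvC a ∧ GoodC f g (c * tw a g)) :
    LocallyOfFinitePresentation (toPt (R.homEquiv (𝟙 G))).g := by
  let ξ : RPt f σ hσ G := toPt (R.homEquiv (𝟙 G))
  have hR : ∀ {T : Scheme.{u}} (h : T ⟶ G), toPt (R.homEquiv h) = ξ.map h := fun {T} h => by
    have h1 := R.homEquiv_comp h (𝟙 G)
    rw [Category.comp_id] at h1
    rw [h1, toPt_map]
  have inj : ∀ {T : Scheme.{u}} (h h' : T ⟶ G), ξ.map h = ξ.map h' → h = h' := fun {T} h h' e =>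
    R.homEquiv.injective ((equivShrink _).symm.injective ((hR h).trans (e.trans (hR h').symm)))
  suffices key : ∀ t : G, ∃ U : G.Opens, t ∈ U ∧ LocallyOfFinitePresentation (U.ι ≫ ξ.g) by
    choose U hU hlfp using key
    have hcover : TopologicalSpace.IsOpenCover U := eq_top_iff.mpr fun t _ => Opens.mem_iSup.mpr ⟨t, hU t⟩
    exact (IsZariskiLocalAtSource.iff_of_iSup_eq_top (P := @LocallyOfFinitePresentation) U hcover).2 hlfp
  intro t
  let K : Type u := G.residueField t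
  let p := G.fromSpecResidueField t
  obtain ⟨a, ha, hgood⟩ := hcov K (p ≫ ξ.g) (pull (m f p rfl) ξ.c) (InvC.pull ξ.inv _)
  have hgood' : GoodC f (p ≫ ξ.g) (pull (m f p rfl) (ξ.c * tw a ξ.g)) := by rw [pull_twist]; exact hgood
  obtain ⟨I, hI⟩ := exists_isDiv hf hgood'
  let π := I.subschemeι ≫ pullback.snd f (p ≫ ξ.g)
  let d := π.finrank (IsLocalRing.closedPoint K)
  obtain ⟨H, Z, hZ, hH⟩ := hrep d
  obtain ⟨Y, ξY, IY, ⟨jY, hjYg, hjY, -⟩, h1, h2, h3, h4, h5⟩ := exists_chart (σ := σ) (hσ := hσ) hf hZ ha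
  have hY : IsChart a d ξY := ⟨h1, ⟨IY, h2, h3⟩, h4, h5⟩
  obtain ⟨O, j, q, hj, hq, huniv⟩ := exists_locus hf ha hY ξ
  haveI := hj; haveI := hjY
  have hdeg : Mor2.IsFinLocFreeOfDeg d (I.subschemeι ≫ pullback.snd f (p ≫ ξ.g)) :=
    ⟨hI.1, fun y => congrArg π.finrank (Subsingleton.elim (α := PrimeSpectrum K) _ _)⟩
  obtain ⟨x, hx⟩ := h5 _ (ξ.map p) I hgood (by
    show IsDiv f (p ≫ ξ.g) (pull (m f p rfl) ξ.c * tw a (p ≫ ξ.g)) I
    rw [← pull_twist]; exact hI) hdeg
  obtain ⟨l, hl, -⟩ := huniv _ x p hx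
  refine ⟨j.opensRange, ⟨l (IsLocalRing.closedPoint K), by
    rw [← Scheme.Hom.comp_apply, hl]; exact Scheme.fromSpecResidueField_apply _ _⟩, ?_⟩
  obtain ⟨ρ, hρ⟩ := R.homEquiv.surjective (ofPt ξY)
  have hρ' : ξ.map ρ = ξY := by rw [← hR, hρ]; exact Equiv.symm_apply_apply _ _
  obtain ⟨m₀, hm1, hm2⟩ := huniv Y (𝟙 Y) ρ (by rw [RPt.map_id, hρ'])
  have hqm : q ≫ m₀ = 𝟙 O := (cancel_mono j).1 (by
    rw [Category.assoc, hm1, Category.id_comp]
    refine inj _ _ ?_
    rw [← RPt.map_map, hρ', hq])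
  let e : O ≅ Y := ⟨q, m₀, hqm, hm2⟩
  have hg : j ≫ ξ.g = q ≫ ξY.g := (congrArg RPt.g hq).symm
  haveI := hH
  haveI : IsIso q := e.isIso_hom
  rw [← MorphismProperty.cancel_left_of_respectsIso @LocallyOfFinitePresentation j.isoOpensRange.hom,
    Scheme.Hom.isoOpensRange_hom_ι_assoc, hg, MorphismProperty.cancel_left_of_respectsIso @LocallyOfFinitePresentation q, ← hjYg]
  infer_instance

end PicCurveLib

end
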