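import Groth.Agent.EtSectLib.Main
import Groth.Agent.GeomRedFieldLib.Reduction
import Groth.Agent.S2156
import Groth.Agent.WeilResLib.GeomConn

/-!
# Étale local sections of a flat family with geometrically reduced fibres
-/

set_option autoImplicit false
set_option linter.style.haveILetI false
set_option linter.unusedSectionVars false
set_option backward.isDefEq.respectTransparency false
set_option maxRecDepth 8000
set_option maxHeartbeats 1000000

universe u

open CategoryTheory CategoryTheory.Limits AlgebraicGeometry TopologicalSpace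

noncomputable section

namespace PicCurveLib

/-- Étale locally on the base there are sections. -/
theorem exists_etale_section_at {X S : Scheme.{u}} (f : X ⟶ S) [Flat f] [LocallyOfFinitePresentation f]
    [GeometricallyReduced f] (s : S) (hs : Nonempty (f.fiber s)) :
    ∃ (S' : Scheme.{u}) (g : S' ⟶ S) (s' : S'), Etale g ∧ g s' = s ∧ ∃ h : S' ⟶ X, h ≫ f = g := by
  let q := f.fiberToSpecResidueField s
  haveI : LocallyOfFinitePresentation q := MorphismProperty.pullback_snd f _ ‹LocallyOfFinitePresentation f›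
  haveI : GeometricallyReduced q := inferInstanceAs (GeometricallyReduced (pullback.snd f _))
  obtain ⟨z, hz⟩ := (GeomRedFieldLib.dense_smoothLocus_of_gr q).nonempty
  obtain ⟨x, rfl, hx⟩ : ∃ x, f.base x = s ∧ f.fiberι s z = x := ⟨_, (f.range_fiberι s ▸ Set.mem_range_self z :
    f.fiberι s z ∈ f ⁻¹' {s}), rfl⟩
  have hz' : z = f.asFiber x := (f.fiberι (f.base x)).isEmbedding.injective (hx.trans (f.fiberι_asFiber x).symm)
  subst hz'
  have hx' : x ∈ f.smoothLocus := (Groth.Agent.S2156.result f x).2 ⟨Flat.stalkMap f x, hz⟩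
  haveI : Smooth (f.smoothLocus.ι ≫ f) := by
    rw [← Scheme.Hom.smoothLocus_eq_top_iff, ← Scheme.Hom.preimage_smoothLocus_eq]
    exact Scheme.Opens.ι_preimage_self _
  obtain ⟨S', g, s', hg, hgs, h, hh⟩ := EtSectLib.exists_section (f.smoothLocus.ι ≫ f) (f.base x) ⟨⟨x, hx'⟩, rfl⟩
  exact ⟨S', g, s', hg, hgs, h ≫ f.smoothLocus.ι, by rw [Category.assoc]; exact hh⟩

/-- An étale covering of the base with a section over it. -/
theorem exists_etale_cover_section {X S : Scheme.{u}} (f : X ⟶ S) [Flat f] [LocallyOfFinitePresentation f]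
    [GeometricallyReduced f] (hne : ∀ s : S, Nonempty (f.fiber s)) :
    ∃ (S' : Scheme.{u}) (g : S' ⟶ S), Etale g ∧ Surjective g ∧ ∃ h : S' ⟶ X, h ≫ f = g := by
  choose T g t hg hgt h hh using fun s => exists_etale_section_at f s (hne s)
  refine ⟨∐ T, Sigma.desc g, IsZariskiLocalAtSource.sigmaDesc (P := @Etale) hg, ⟨fun s => ?_⟩, Sigma.desc h, ?_⟩
  · exact ⟨Sigma.ι T s (t s), by rw [← Scheme.Hom.comp_apply, Sigma.ι_desc]; exact hgt s⟩
  · exact Sigma.hom_ext _ _ fun s => by rw [Sigma.ι_desc_assoc, Sigma.ι_desc, hh]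

end PicCurveLib

end
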