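import Groth.Agent.PicCurveLib.GrpLaw
import Groth.Agent.RepDescLib.Basic

/-!
# Rigidified classes of degree zero form an fpqc sheaf
-/

set_option autoImplicit false
set_option linter.style.haveILetI false
set_option linter.unusedSectionVars false
set_option backward.isDefEq.respectTransparency false
set_option backward.isDefEq.respectTransparency.types false
set_option maxRecDepth 8000
set_option maxHeartbeats 1000000

universe u

open CategoryTheory CategoryTheory.Limits AlgebraicGeometry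
open CubeConsLib (pull pull_comp pull_cl cl cl_eq_iff cl_tensor IsoCls)

noncomputable section

namespace PicCurveLib

variable {C S : Scheme.{u}} {f : C ⟶ S} (hf : Fam f) [IsProper f] [Flat f] [LocallyOfFinitePresentation f]
  [Smooth f] [GeometricallyConnected f]
  (σ : S ⟶ C) (hσ : σ ≫ f = 𝟙 S)

instance small_rigZero (T : Over S) : Small.{u} {c : IsoCls (PicF.XT f T) // RigZero σ hσ T c} := by
  haveI := small_invertible (PicF.XT f T)
  refine small_of_injective (f := fun c : {c : IsoCls (PicF.XT f T) // RigZero σ hσ T c} =>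
    (⟨c.1, let ⟨L, hL, e, _⟩ := c.2.rep; ⟨L, hL, e⟩⟩ :
      {c : IsoCls (PicF.XT f T) // ∃ L : (PicF.XT f T).Modules, PicF.IsInvertible L ∧ cl L = c})) ?_
  intro a b h
  exact Subtype.ext (congrArg (fun z => z.1) h)

/-- The presheaf of rigidified classes of degree zero. -/
def zeroSec : RepDescLib.Sec S where
  obj T := Shrink.{u} {c : IsoCls (PicF.XT f T) // RigZero σ hσ T c}
  res {T' T} g x := equivShrink _ ⟨pull (PicF.XTmap f g) ((equivShrink _).symm x).1,
    rigZero_pull hf σ hσ g ((equivShrink _).symm x).2⟩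
  res_id {T} x := by
    apply (equivShrink _).symm.injective
    rw [Equiv.symm_apply_apply]
    refine Subtype.ext ?_
    show pull (PicF.XTmap f (𝟙 T)) _ = _
    rw [show PicF.XTmap f (𝟙 T) = 𝟙 _ by apply pullback.hom_ext <;> simp [PicF.XTmap], DescAppLib.pull_id]
  res_comp {T'' T' T} g h x := by
    apply (equivShrink _).symm.injective
    rw [Equiv.symm_apply_apply, Equiv.symm_apply_apply]
    refine Subtype.ext ?_
    show pull _ _ = pull _ _
    rw [Equiv.symm_apply_apply, ← DescAppLib.XTmap_comp, ← pull_comp]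

variable {σ} {hσ}

/-- The class of a section. -/
def clsOf {T : Over S} (x : (zeroSec hf σ hσ).obj T) : IsoCls (PicF.XT f T) := ((equivShrink _).symm x).1

theorem rigZero_clsOf {T : Over S} (x : (zeroSec hf σ hσ).obj T) : RigZero σ hσ T (clsOf hf x) :=
  ((equivShrink _).symm x).2

theorem clsOf_res {T' T : Over S} (g : T' ⟶ T) (x : (zeroSec hf σ hσ).obj T) :
    clsOf hf ((zeroSec hf σ hσ).res g x) = pull (PicF.XTmap f g) (clsOf hf x) :=
  congrArg Subtype.val (Equiv.symm_apply_apply _ _)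

theorem clsOf_injective {T : Over S} {x y : (zeroSec hf σ hσ).obj T} (h : clsOf hf x = clsOf hf y) : x = y :=
  (equivShrink _).symm.injective (Subtype.ext h)

include hf

/-- Gluing along a covering family. -/
theorem existsUnique_glue {ι : Type u} {T : Over S} (U : ι → Scheme.{u}) (g : ∀ i, U i ⟶ T.left)
    (hmem : Presieve.ofArrows U g ∈ Scheme.fpqcPrecoverage T.left)
    (x : ∀ i, IsoCls (PicF.XT f (AbDual.ovr T (g i)))) (hx : ∀ i, RigZero σ hσ (AbDual.ovr T (g i)) (x i))
    (hov : ∀ (i i' : ι) (T'' : Over S) (a : T'' ⟶ AbDual.ovr T (g i)) (b : T'' ⟶ AbDual.ovr T (g i')),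
      a ≫ AbDual.ovrHom T (g i) = b ≫ AbDual.ovrHom T (g i') → pull (PicF.XTmap f a) (x i) = pull (PicF.XTmap f b) (x i')) :
    ∃! c : IsoCls (PicF.XT f T), RigZero σ hσ T c ∧ ∀ i, pull (PicF.XTmap f (AbDual.ovrHom T (g i))) c = x i := by
  have hb := bijective_app_XT (f := f) hf
  have hbij : ∀ (W : Scheme.{u}) (t : W ⟶ T.left), Flat t →
      Function.Bijective (pullback.snd (PicF.XTproj f T) t).appTop := fun W t _ => DescAppLib.bij_XT f hb T W t
  choose L hL eL dL using fun i => (hx i).rep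
  have hs : ∀ i, pull (PicF.secT f σ hσ (AbDual.ovr T (g i))) (cl (L i)) = 1 := fun i => by rw [eL]; exact (hx i).rig
  obtain ⟨N, hN, hN1, hN2⟩ := DescAppLib.exists_descend_cls (PicF.XTproj f T) (DescAppLib.xtFam f σ hσ T U g)
    hmem hbij L hL hs (fun k l => by
      obtain ⟨j, hj1, hj2⟩ := DescAppLib.exists_ovr_overlap f σ hσ T U g k l
      rw [eL, eL, ← hj1, ← hj2, ← pull_comp, ← pull_comp]
      exact congrArg (pull j) (hov k l _ (AbDual.ovrHom (AbDual.ovr T (g k)) (pullback.fst (g k) (g l)))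
        (Over.homMk (pullback.snd (g k) (g l)) (pullback.condition_assoc T.hom).symm)
        (Over.OverMorphism.ext pullback.condition)))
  have hN2' : ∀ i, pull (PicF.XTmap f (AbDual.ovrHom T (g i))) (cl N) = x i := fun i => (hN2 i).trans (eL i)
  have hsurj : ∀ t : T.left, ∃ i, t ∈ Set.range (g i) := fun t => by
    exact ((Scheme.ofArrows_mem_precoverage_iff _).1 hmem.2).1 t
  have hN0 : ∀ t, deg f T N t = 0 := fun t => by
    obtain ⟨i, z, hz⟩ := hsurj t
    have h1 := deg_map f hf.dim_le (AbDual.ovrHom T (g i)) hN z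
    rw [deg_congr f hf.dim_le _ (L := (Scheme.Modules.pullback (PicF.XTmap f (AbDual.ovrHom T (g i)))).obj N) (M := L i) (hN2 i) z, dL i z] at h1
    exact (congrArg (deg f T N) hz).symm.trans h1.symm
  refine ⟨cl N, ⟨⟨⟨N, hN, rfl, hN0⟩, hN1⟩, hN2'⟩, ?_⟩
  rintro c ⟨⟨⟨M, hM, rfl, -⟩, hM1⟩, hM2⟩
  exact DescAppLib.unique_family (PicF.XTproj f T) (DescAppLib.xtFam f σ hσ T U g) hmem hbij hM hN hM1 hN1
    fun i => (hM2 i).trans (hN2' i).symm

/-- Gluing along a covering family of objects over the base. -/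
theorem existsUnique_sec {ι : Type u} {T : Over S} (U : ι → Over S) (j : ∀ i, U i ⟶ T)
    (hmem : Presieve.ofArrows (fun i => (U i).left) (fun i => (j i).left) ∈ Scheme.fpqcPrecoverage T.left)
    (x : ∀ i, (zeroSec hf σ hσ).obj (U i))
    (hov : ∀ (i i' : ι) (T'' : Over S) (a : T'' ⟶ U i) (b : T'' ⟶ U i'), a ≫ j i = b ≫ j i' →
      (zeroSec hf σ hσ).res a (x i) = (zeroSec hf σ hσ).res b (x i')) :
    ∃! y, ∀ i, (zeroSec hf σ hσ).res (j i) y = x i := by
  let e : ∀ i, AbDual.ovr T (j i).left ⟶ U i := fun i =>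
    Over.homMk (𝟙 _) ((Category.id_comp _).trans (Over.w (j i)).symm)
  let e' : ∀ i, U i ⟶ AbDual.ovr T (j i).left := fun i =>
    Over.homMk (𝟙 _) ((Category.id_comp _).trans (Over.w (j i)))
  have he : ∀ i, e i ≫ j i = AbDual.ovrHom T (j i).left := fun i => Over.OverMorphism.ext (Category.id_comp _)
  have he' : ∀ i, e' i ≫ e i = 𝟙 (U i) := fun i => Over.OverMorphism.ext (Category.id_comp _)
  obtain ⟨c, ⟨hc, hc2⟩, hu⟩ := existsUnique_glue hf (σ := σ) (hσ := hσ) (fun i => (U i).left) (fun i => (j i).left) hmem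
    (fun i => pull (PicF.XTmap f (e i)) (clsOf hf (x i))) (fun i => rigZero_pull hf σ hσ (e i) (rigZero_clsOf hf (x i)))
    (fun i i' T'' a b hab => by
      rw [pull_comp, pull_comp, DescAppLib.XTmap_comp, DescAppLib.XTmap_comp, ← clsOf_res, ← clsOf_res]
      refine congrArg (clsOf hf) (hov i i' T'' (a ≫ e i) (b ≫ e i') ?_)
      rw [Category.assoc, Category.assoc, he, he, hab])
  refine ⟨equivShrink _ ⟨c, hc⟩, fun i => clsOf_injective hf ?_, fun y hy => clsOf_injective hf ?_⟩
  · rw [clsOf_res]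
    have h := congrArg (pull (PicF.XTmap f (e' i))) (hc2 i)
    rw [pull_comp, pull_comp, DescAppLib.XTmap_comp, DescAppLib.XTmap_comp, ← he, ← Category.assoc, he', Category.id_comp,
      show PicF.XTmap f (𝟙 (U i)) = 𝟙 _ by apply pullback.hom_ext <;> simp [PicF.XTmap], DescAppLib.pull_id] at h
    rw [show clsOf hf (equivShrink _ ⟨c, hc⟩) = c from congrArg Subtype.val (Equiv.symm_apply_apply _ _)]
    exact h
  · rw [show clsOf hf (equivShrink _ ⟨c, hc⟩) = c from congrArg Subtype.val (Equiv.symm_apply_apply _ _)]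
    refine hu _ ⟨rigZero_clsOf hf y, fun i => ?_⟩
    rw [← he i, ← DescAppLib.XTmap_comp, ← pull_comp, ← clsOf_res, hy i]

/-- **The sheaf property.** -/
theorem isSheaf_zeroSec : RepDescLib.IsSheaf (zeroSec hf σ hσ) where
  descend {T' T} q _ x hx := by
    have h := existsUnique_sec hf (σ := σ) (hσ := hσ) (ι := PUnit.{u + 1}) (fun _ => T') (fun _ => q)
      (by rw [Presieve.ofArrows_pUnit]; exact DescLib.Fpqc.mem) (fun _ => x) (fun _ _ T'' a b h => hx T'' a b h)
    simpa using h
  glue {ι T} U j hj hcov x hx := existsUnique_sec hf U j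
    (Scheme.zariskiPrecoverage_le_fpqcPrecoverage _
      ((Scheme.ofArrows_mem_precoverage_iff _).2 ⟨fun t => let ⟨i, z, hz⟩ := hcov t; ⟨i, z, hz⟩, hj⟩)) x hx

end PicCurveLib

end
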